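import Cfsg.Agent.Lib.Omega8Rec.Model
import Cfsg.Agent.Lib.Omega8Rec.Closed.Model
import Cfsg.Agent.Lib.Omega8Rec.Closed.FusData
import Mathlib.GroupTheory.PGroup

/-!
The involution controls its fusion in the subgroup generated by the rank one subgroups, which is therefore the whole
group.
-/

set_option autoImplicit false
set_option linter.unusedSectionVars false
set_option maxHeartbeats 2000000

namespace Cfsg.Agent.Omega8Rec

open Subgroup Equiv Matrix
open Cfsg.Agent.CTRec.DModel (node)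
open SL2Pres (up low)
open Closed (Gam code fGen fWords fBase fAc fData wcode cSel cConj moved8 candOK isR mul8 one8)
open scoped commutatorElement

namespace Closed

/-- The elements with a key in the orbit tree are conjugate. -/
theorem isConj_of_isR : ∀ {g h : Gam}, isR (code g) = true → isR (code h) = true → IsConj g h := by
  obtain ⟨x, hx, -⟩ := exists_gens
  have hkey : ∀ g ∈ genKeys, ∃ k, code (x k) = g := by
    intro g hg
    have : ∀ g ∈ genKeys, ∃ k : Fin 8, SchurMult.o82Roots.getD k 0 = g := by decide +kernel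
    obtain ⟨k, hk⟩ := this g hg
    exact ⟨k, (hx k).trans hk⟩
  have hsq : ∀ k g, code (x k) = g → g ∈ genKeys → x k * x k = 1 := by
    intro k g e hg
    rw [← code_eq_one, code_mul, e]
    exact beq_iff_eq.1 (List.all_eq_true.1 gen_sq _ hg)
  have key : ∀ {k : ℕ}, isR k = true → ∃ v, IsConj (x 0) v ∧ code v = k := by
    intro k hk
    refine orb_ind r_orbit (P := fun k => ∃ v, IsConj (x 0) v ∧ code v = k) ?_ ?_ hk
    · intro k hk
      refine ⟨x 0, IsConj.refl _, ?_⟩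
      rw [hx, beq_iff_eq.1 hk, ← t0_gen]
      decide +kernel
    · rintro p g hg ⟨v, hv, rfl⟩
      obtain ⟨j, e⟩ := hkey g (List.contains_iff_mem.1 hg)
      refine ⟨x j * v * (x j)⁻¹, hv.trans (isConj_iff.2 ⟨x j, rfl⟩), ?_⟩
      rw [code_conj (hsq j g e (List.contains_iff_mem.1 hg)), e]
  intro g h hg hh
  obtain ⟨v, hv, ev⟩ := key hg
  obtain ⟨w, hw, ew⟩ := key hh
  rw [← code_inj ev, ← code_inj ew]
  exact hv.symm.trans hw

end Closed

/-- a product selected by binary digits -/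
def sel {M : Type*} [Monoid M] : List M → ℕ → M
  | [], _ => 1
  | a :: L, n => if n % 2 == 1 then a * sel L (n / 2) else sel L (n / 2)

theorem sel_cons {M : Type*} [Monoid M] (a : M) (L : List M) {b : ℕ} (hb : b ≤ 1) (n : ℕ) :
    sel (a :: L) (2 * n + b) = a ^ b * sel L n := by
  rw [sel, show (2 * n + b) / 2 = n by omega, show (2 * n + b) % 2 = b by omega]
  rcases (show b = 0 ∨ b = 1 by omega) with rfl | rfl <;> simp

theorem exists_sel_cons {M : Type*} [Monoid M] (a : M) (L : List M) {b : ℕ} (hb : b ≤ 1) {r : M} {k : ℕ}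
    (h : ∃ n < 2 ^ k, r = sel L n) : ∃ n < 2 ^ (k + 1), a ^ b * r = sel (a :: L) n := by
  obtain ⟨n, hn, rfl⟩ := h
  exact ⟨2 * n + b, by rw [pow_succ]; omega, (sel_cons a L hb n).symm⟩

theorem rot_conj : ∀ σ τ : Perm (Fin 3), σ * σ = 1 → σ ≠ 1 → τ * τ = 1 → τ ≠ 1 →
    ∃ k : Fin 3, finRotate 3 ^ (k : ℕ) * τ * (finRotate 3 ^ (k : ℕ))⁻¹ = σ := by decide

variable {G : Type*} [Group G] [Finite G]

/-- `x` lies in `H` and has key `k` -/
def HasCode {H : Subgroup G} (φ : ↥H ≃* Gam) (x : G) (k : ℕ) : Prop := ∃ h : x ∈ H, code (φ ⟨x, h⟩) = k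

namespace HasCode

variable {H : Subgroup G} {φ : ↥H ≃* Gam} {x y : G} {k l : ℕ}

theorem mem (h : HasCode φ x k) : x ∈ H := h.1

theorem eq (h : HasCode φ x k) (hx : x ∈ H) : code (φ ⟨x, hx⟩) = k := h.2

theorem one : HasCode φ 1 one8 := ⟨one_mem H, by
  rw [show (⟨1, one_mem H⟩ : ↥H) = 1 from rfl, map_one, Closed.code_one]⟩

theorem mul (h : HasCode φ x k) (h' : HasCode φ y l) : HasCode φ (x * y) (mul8 k l) :=
  ⟨mul_mem h.1 h'.1, by rw [show (⟨x * y, _⟩ : ↥H) = ⟨x, h.1⟩ * ⟨y, h'.1⟩ from rfl, map_mul, Closed.code_mul, h.2,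
    h'.2]⟩

theorem inj (h : HasCode φ x k) (h' : HasCode φ y k) : x = y :=
  congrArg Subtype.val (φ.injective (Closed.code_inj (h.2.trans h'.2.symm)))

theorem sel_code : ∀ {L : List G} {K : List ℕ}, List.Forall₂ (HasCode φ) L K → ∀ n, HasCode φ (sel L n) (cSel K n)
  | _, _, .nil, n => by rw [sel, cSel]; exact one
  | _, _, .cons h hs, n => by
    rw [sel, cSel]
    split
    · exact h.mul (sel_code hs _)
    · exact sel_code hs _

end HasCode

namespace Amal

variable {Q : Subgroup G} {t g : G} {M : Meet Q t g} {σ : Fin 3 → Perm (Fin 3)} (A : Amal M σ)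
include A

/-- the eight generators -/
def gl : List G := [A.e, A.f, A.u 0, A.u 1, A.u 2, A.u' 0, A.u' 1, A.u' 2]

/-- the element of a word -/
def gw (w : List ℕ) : G := (w.map fun i => (gl A).getD i 1).prod

theorem gw_append (v w : List ℕ) : A.gw (v ++ w) = A.gw v * A.gw w := by
  simp [gw, List.prod_append]

theorem gw_rep (w : List ℕ) (n : ℕ) : A.gw (List.replicate n w).flatten = A.gw w ^ n := by
  induction n with
  | zero => simp [gw]
  | succ n ih => rw [List.replicate_succ, List.flatten_cons, gw_append, ih, pow_succ']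

theorem gw_sing (i : ℕ) : A.gw [i] = (gl A).getD i 1 := by simp [gw]

theorem gw_u : ∀ i : Fin 3, A.gw [2 + (i : ℕ)] = A.u i := by
  intro i; fin_cases i <;> simp [gw, gl]

theorem gw_u' : ∀ i : Fin 3, A.gw [5 + (i : ℕ)] = A.u' i := by
  intro i; fin_cases i <;> simp [gw, gl]

/-- the word of the Weyl element -/
def wW : List ℕ := [0, 1, 0]

/-- the words of the `ee` -/
def wee (i : Fin 3) : List ℕ := wW ++ [2 + (i : ℕ)] ++ wW

/-- the words of the `z` -/
def wz (j : Fin 3) : List ℕ := wee (j + 1) ++ [2 + ((j + 2 : Fin 3) : ℕ)] ++ wee (j + 1) ++ [2 + ((j + 2 : Fin 3) : ℕ)]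

/-- the word of `x` -/
def wx : List ℕ := wz 0 ++ [2] ++ wz 0 ++ [2]

/-- the word of `t` -/
def wt : List ℕ := wx ++ [0] ++ wx ++ [0]

/-- the word of a torus element -/
def wa (i : Fin 3) : List ℕ := [5 + (i : ℕ), 2 + (i : ℕ), 5 + (i : ℕ), 2 + (i : ℕ)]

/-- the words of the conjugates of a reflection -/
def wc (i : Fin 3) (k : ℕ) : List ℕ :=
  (List.replicate k (wa i)).flatten ++ [2 + (i : ℕ)] ++ (List.replicate (2 * k) (wa i)).flatten

omit A in
theorem words_eq : fWords = [[2], [3], [4], wt, wx, wz 0, wz 1, wz 2, wee 2, wee 1, wee 0, [0]] := by decide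

theorem gw_W : A.gw wW = A.w0 := by
  simp [gw, gl, wW, w0, mul_assoc]

theorem gw_ee (i : Fin 3) : A.gw (wee i) = A.ee i := by
  rw [wee, gw_append, gw_append, gw_W, gw_u, ← A.w0_u i, cj, inv_eq_of_mul_eq_one_right A.w0_sq]

theorem gw_z (j : Fin 3) : A.gw (wz j) = A.z j := by
  have key : ∀ i : Fin 3, A.ee i * A.u (i + 1) * A.ee i * A.u (i + 1) = A.z (i + 2) := fun i => by
    rw [← A.D_ee₁ i]
    show _ = (A.ee i)⁻¹ * (A.u (i + 1) * A.ee i * (A.u (i + 1))⁻¹)
    rw [A.u_inv, inv_eq_of_mul_eq_one_right (A.ee_sq i)]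
    group
  rw [wz, gw_append, gw_append, gw_append, gw_ee, gw_u]
  have h := key (j + 1)
  rwa [show j + 1 + 1 = j + 2 from idx_b j, show j + 1 + 2 = j from idx_a j] at h

theorem gw_x : A.gw wx = A.x := by
  rw [wx, gw_append, gw_append, gw_append, gw_z, show A.gw [2] = A.u 0 from A.gw_u 0, ← A.D_z 0]
  show _ = (A.z 0)⁻¹ * (A.u 0 * A.z 0 * (A.u 0)⁻¹)
  rw [A.u_inv, inv_eq_of_mul_eq_one_right (A.z_sq 0)]
  group

theorem gw_t : A.gw wt = t := by
  rw [wt, gw_append, gw_append, gw_append, gw_x, show A.gw [0] = A.e by simp [gw, gl]]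
  conv_rhs => rw [← A.x_e]
  rw [commutatorElement_def, inv_eq_of_mul_eq_one_right A.x_sq, inv_eq_of_mul_eq_one_right A.e_sq]

theorem gw_base : fWords.map A.gw =
    [A.u 0, A.u 1, A.u 2, t, A.x, A.z 0, A.z 1, A.z 2, A.ee 2, A.ee 1, A.ee 0, A.e] := by
  rw [words_eq]
  simp only [List.map_cons, List.map_nil, gw_t, gw_x, gw_z, gw_ee]
  simp [gw, gl]

theorem gw_a (i : Fin 3) : A.gw (wa i) = A.a i := by
  have e1 : A.u' i * A.u i = A.a i * A.a i := by
    calc A.u' i * A.u i = A.a i * (A.u i * (A.a i)⁻¹ * (A.u i)⁻¹) * (A.u i * A.u i) := by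
          simp only [u', cj]; group
      _ = A.a i * A.a i := by
        rw [show A.u i * (A.a i)⁻¹ * (A.u i)⁻¹ = (cj (A.u i) (A.a i))⁻¹ by simp only [cj]; group, A.ua i, inv_inv,
          A.u_sq, mul_one]
  rw [show wa i = [5 + (i : ℕ)] ++ [2 + (i : ℕ)] ++ ([5 + (i : ℕ)] ++ [2 + (i : ℕ)]) from rfl]
  simp only [gw_append, gw_u, gw_u', e1]
  calc A.a i * A.a i * (A.a i * A.a i) = A.a i * A.a i * A.a i * A.a i := by group
    _ = A.a i := by rw [A.a3 i, one_mul]

theorem gw_c (i : Fin 3) (k : ℕ) : A.gw (wc i k) = A.a i ^ k * A.u i * (A.a i ^ k)⁻¹ := by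
  rw [wc, gw_append, gw_append, gw_rep, gw_rep, gw_u, gw_a,
    show (A.a i ^ k)⁻¹ = A.a i ^ (2 * k) from inv_eq_of_mul_eq_one_right (by
      rw [← pow_add, show k + 2 * k = 3 * k by ring, pow_mul, pow_succ, pow_two, A.a3, one_pow])]

theorem exists_word {q : G} (hq : q ∈ Q) :
    ∃ n < 512, q = sel [t, A.x, A.z 0, A.z 1, A.z 2, A.ee 2, A.ee 1, A.ee 0, A.e] n := by
  classical
  have P := A.toPre
  let d : ℕ := if q * A.x = A.x * q then 0 else 1
  let b : Fin 3 → ℕ := fun j => if q * A.z j = A.z j * q then 0 else 1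
  set E := A.e ^ d * (A.ee 0 ^ b 0 * A.ee 1 ^ b 1 * A.ee 2 ^ b 2) with hE
  have mb : ∀ k, A.ee k ^ b k ∈ Q := fun k => pow_mem (A.ee_mem k) _
  have mE1 : A.ee 0 ^ b 0 * A.ee 1 ^ b 1 * A.ee 2 ^ b 2 ∈ Q := mul_mem (mul_mem (mb 0) (mb 1)) (mb 2)
  have md : A.e ^ d ∈ Q := pow_mem A.e_mem _
  have mE : E ∈ Q := mul_mem md mE1
  have one_of : ∀ {a b : G}, a * b = b * a → ⁅a, b⁆ = 1 := fun h => commutatorElement_eq_one_iff_mul_comm.2 h
  have hqx : q * E * A.x = A.x * (q * E) := by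
    refine commutatorElement_eq_one_iff_mul_comm.1 ?_
    have e0 : ∀ k, ⁅A.ee k ^ b k, A.x⁆ = 1 := fun k =>
      one_of ((show Commute (A.ee k) A.x from (A.x_ee k).symm).pow_left _).eq
    rw [A.toPre.comm_mul hq mE A.x_mem, hE, A.toPre.comm_mul md mE1 A.x_mem,
      A.toPre.comm_mul (mul_mem (mb 0) (mb 1)) (mb 2) A.x_mem, A.toPre.comm_mul (mb 0) (mb 1) A.x_mem, e0, e0, e0,
      mul_one, mul_one, mul_one]
    simp only [d]
    split
    · rename_i h; rw [one_of h]; simp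
    · rename_i h
      rw [(M.S.h.comm_cases hq A.x_mem).resolve_left fun e => h (commutatorElement_eq_one_iff_mul_comm.1 e),
        pow_one, A.toPre.comm_symm A.x_mem A.e_mem, A.x_e, A.t_t]
  have hqz : ∀ j, q * E * A.z j = A.z j * (q * E) := by
    intro j
    refine commutatorElement_eq_one_iff_mul_comm.1 ?_
    have e0 : ∀ k, ⁅A.ee k ^ b k, A.z j⁆ = if k = j ∧ b k ≠ 0 then t else 1 := by
      intro k
      rcases (show b k = 0 ∨ b k = 1 by simp only [b]; split <;> omega) with e | e <;> rw [e]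
      · simp
      · rw [pow_one, A.toPre.comm_symm (A.z_mem j) (A.ee_mem k)]
        split
        · rename_i hh; rw [hh.1]; exact A.z_ee j
        · rename_i hh; exact one_of (A.z_ee_ne fun e => hh ⟨e, one_ne_zero⟩)
    have ed : ⁅A.e ^ d, A.z j⁆ = 1 := one_of ((show Commute A.e _ from (A.z_e j).symm).pow_left _).eq
    have et : ⁅A.ee 0 ^ b 0, A.z j⁆ * ⁅A.ee 1 ^ b 1, A.z j⁆ * ⁅A.ee 2 ^ b 2, A.z j⁆ = if b j = 0 then 1 else t := by
      rw [e0, e0, e0]
      fin_cases j <;> simp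
    rw [A.toPre.comm_mul hq mE (A.z_mem j), hE, A.toPre.comm_mul md mE1 (A.z_mem j),
      A.toPre.comm_mul (mul_mem (mb 0) (mb 1)) (mb 2) (A.z_mem j),
      A.toPre.comm_mul (mb 0) (mb 1) (A.z_mem j), ed, one_mul, et]
    by_cases h : q * A.z j = A.z j * q
    · rw [one_of h, show b j = 0 from if_pos h, if_pos rfl, one_mul]
    · rw [(M.S.h.comm_cases hq (A.z_mem j)).resolve_left fun e => h (commutatorElement_eq_one_iff_mul_comm.1 e),
        show b j = 1 from if_neg h, if_neg one_ne_zero, A.t_t]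
  obtain ⟨c, n, r, hr, hc, e, -, -⟩ := A.coords (mul_mem hq mE) hqx hqz
  obtain ⟨n', hn', en⟩ : ∃ n' ≤ 1, A.x ^ n = A.x ^ n' := ⟨n % 2, by omega, by
    conv_lhs => rw [← Nat.mod_add_div n 2, pow_add, pow_mul, pow_two, A.x_sq, one_pow, mul_one]⟩
  obtain ⟨r', hr', er⟩ : ∃ r' ≤ 1, r = t ^ r' := by
    rcases hr with rfl | rfl
    exacts [⟨0, by norm_num, (pow_zero t).symm⟩, ⟨1, le_rfl, (pow_one _).symm⟩]
  have hb : ∀ j, b j ≤ 1 := fun j => by simp only [b]; split <;> omega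
  have hd : d ≤ 1 := by simp only [d]; split <;> omega
  have pinv : ∀ {y : G} {m : ℕ}, y * y = 1 → (y ^ m)⁻¹ = y ^ m := fun h => by
    rw [← inv_pow, inv_eq_of_mul_eq_one_right h]
  have eq : q = t ^ r' * (A.x ^ n' * (A.z 0 ^ c 0 * (A.z 1 ^ c 1 * (A.z 2 ^ c 2 * (A.ee 2 ^ b 2 * (A.ee 1 ^ b 1 *
      (A.ee 0 ^ b 0 * (A.e ^ d * 1)))))))) := by
    rw [show q = q * E * E⁻¹ by group, e, en, er, hE, _root_.mul_inv_rev, _root_.mul_inv_rev, _root_.mul_inv_rev, pinv (A.ee_sq 0),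
      pinv (A.ee_sq 1), pinv (A.ee_sq 2), pinv A.e_sq]
    group
  rw [eq]
  exact exists_sel_cons _ _ hr' (k := 8) (exists_sel_cons _ _ hn' (k := 7) (exists_sel_cons _ _ (hc 0) (k := 6)
    (exists_sel_cons _ _ (hc 1) (k := 5) (exists_sel_cons _ _ (hc 2) (k := 4) (exists_sel_cons _ _ (hb 2) (k := 3)
      (exists_sel_cons _ _ (hb 1) (k := 2) (exists_sel_cons _ _ (hb 0) (k := 1) (exists_sel_cons _ _ hd (k := 0)
        ⟨0, by norm_num, rfl⟩))))))))

theorem sel_mem {n : ℕ} (h8 : n % 8 = 0) :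
    sel [A.u 0, A.u 1, A.u 2, t, A.x, A.z 0, A.z 1, A.z 2, A.ee 2, A.ee 1, A.ee 0, A.e] n ∈ Q := by
  have aux : ∀ {L : List G}, (∀ a ∈ L, a ∈ Q) → ∀ m, sel L m ∈ Q := by
    intro L hL
    induction L with
    | nil => intro m; exact one_mem _
    | cons a L ih =>
      intro m
      rw [sel]
      have := ih (fun b hb => hL b (List.mem_cons_of_mem _ hb)) (m / 2)
      split
      · exact mul_mem (hL a List.mem_cons_self) this
      · exact this
  obtain ⟨m, rfl⟩ : ∃ m, n = 2 * (2 * (2 * m + 0) + 0) + 0 := ⟨n / 8, by omega⟩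
  rw [sel_cons _ _ (Nat.zero_le 1), sel_cons _ _ (Nat.zero_le 1), sel_cons _ _ (Nat.zero_le 1), pow_zero, pow_zero,
    pow_zero, one_mul, one_mul, one_mul]
  refine aux (fun a ha => ?_) _
  simp only [List.mem_cons, List.not_mem_nil, or_false] at ha
  rcases ha with rfl | rfl | rfl | rfl | rfl | rfl | rfl | rfl | rfl
  exacts [M.S.h.mem, A.x_mem, A.z_mem 0, A.z_mem 1, A.z_mem 2, A.ee_mem 2, A.ee_mem 1, A.ee_mem 0, A.e_mem]

end Amal

/-- **Fusion.** -/
theorem exists_fusion {Q : Subgroup G} {t g : G} (M : Meet Q t g) :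
    ∃ (H : Subgroup G) (_ : centralizer ({t} : Set G) ≤ H) (φ : ↥H ≃* Gam) (e : ↥H),
      code (φ e) = Closed.e0Key ∧ (∃ m ∈ H, m * t * m⁻¹ = (e : G)) ∧
      ∀ v ∈ H, IsConj t v → ∃ m ∈ H, m * t * m⁻¹ = v := by
  classical
  obtain ⟨σ, A, H, gC, φ, ψ, ⟨⟨he, hf⟩, ⟨h0, h0'⟩, ⟨h1, h1'⟩, ⟨h2, h2'⟩⟩, hm, hnode⟩ := exists_omega M
  have hup : ∀ i : Fin 4, ∀ (a : G) (k : ℕ), ψ i (up 1) = a →
      k = fGen.getD (![2, 0, 3, 4] i) 0 → HasCode φ a k := by
    intro i a k ha hk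
    obtain ⟨h, hh⟩ := hnode i i.2 (up 1)
    subst ha hk
    refine ⟨h, ?_⟩
    unfold Closed.code Closed.gmat
    rw [hh, (CTRec.DModel.node_vals (F := ZMod 2) (n := 4) le_rfl i.2 1).1]
    clear hh; clear h; revert i; decide +kernel
  have hlow : ∀ i : Fin 4, ∀ (a : G) (k : ℕ), ψ i (low 1) = a →
      k = fGen.getD (![5, 1, 6, 7] i) 0 → HasCode φ a k := by
    intro i a k ha hk
    obtain ⟨h, hh⟩ := hnode i i.2 (low 1)
    subst ha hk
    refine ⟨h, ?_⟩
    unfold Closed.code Closed.gmat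
    rw [hh, (CTRec.DModel.node_vals (F := ZMod 2) (n := 4) le_rfl i.2 1).2]
    clear hh; clear h; revert i; decide +kernel
  have hgen : ∀ i < 8, HasCode φ (A.gl.getD i 1) (fGen.getD i 0) := by
    intro i hi
    interval_cases i
    exacts [hup 1 _ _ he rfl, hlow 1 _ _ hf rfl, hup 0 _ _ h0 rfl, hup 2 _ _ h1 rfl, hup 3 _ _ h2 rfl,
      hlow 0 _ _ h0' rfl, hlow 2 _ _ h1' rfl, hlow 3 _ _ h2' rfl]
  have hword : ∀ w : List ℕ, (∀ i ∈ w, i < 8) → HasCode φ (A.gw w) (wcode w) := by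
    intro w
    induction w with
    | nil => intro _; exact HasCode.one
    | cons i w ih =>
      intro hw
      have := (hgen i (hw i List.mem_cons_self)).mul (ih fun j hj => hw j (List.mem_cons_of_mem _ hj))
      simpa [Amal.gw, wcode] using this
  set L := [A.u 0, A.u 1, A.u 2, t, A.x, A.z 0, A.z 1, A.z 2, A.ee 2, A.ee 1, A.ee 0, A.e] with hL
  have hbase : List.Forall₂ (HasCode φ) L fBase := by
    rw [hL, ← A.gw_base, ← Closed.fBase_eq, List.forall₂_map_left_iff, List.forall₂_map_right_iff,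
      List.forall₂_same]
    intro w hw
    refine hword w fun i hi => ?_
    have : ∀ w ∈ fWords, ∀ i ∈ w, i < 8 := by decide +kernel
    exact this w hw i hi
  have hsel : ∀ n, HasCode φ (sel L n) (cSel fBase n) := HasCode.sel_code hbase
  have htc : HasCode φ t (fBase.getD 3 0) := by
    have := hsel 8
    rw [show cSel fBase 8 = fBase.getD 3 0 by decide +kernel, show sel L 8 = t by simp [hL, sel]] at this
    exact this
  have htH : t ∈ H := htc.mem
  -- an element with a key in the orbit is fused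
  have toR : ∀ {v : G} {k : ℕ}, HasCode φ v k → isR k = true → ∃ m ∈ H, m * t * m⁻¹ = v := by
    rintro v k ⟨hv, rfl⟩ hR
    obtain ⟨c, hc⟩ := isConj_iff.1 (Closed.isConj_of_isR (g := φ ⟨t, htH⟩) (h := φ ⟨v, hv⟩)
      (by rw [htc.eq]; exact Closed.fBase_t) hR)
    refine ⟨(φ.symm c : G), SetLike.coe_mem _, ?_⟩
    have e := congrArg φ.symm hc
    rw [map_mul, map_mul, map_inv, φ.symm_apply_apply, φ.symm_apply_apply] at e
    exact congrArg Subtype.val e
  refine ⟨H, gC, φ, ⟨A.e, (hup 1 _ _ he rfl).mem⟩, ?_, hm, ?_⟩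
  · rw [(hup 1 _ _ he rfl).eq]; decide +kernel
  intro v hv hconj
  by_contra hnR
  have ht2 : t * t = 1 := A.t_t
  have notR : ∀ {w : G}, (∃ m ∈ H, m * v * m⁻¹ = w) → ¬ ∃ m ∈ H, m * t * m⁻¹ = w := by
    rintro w ⟨m, hm, rfl⟩ ⟨n, hn, e⟩
    refine hnR ⟨m⁻¹ * n, mul_mem (inv_mem hm) hn, ?_⟩
    calc m⁻¹ * n * t * (m⁻¹ * n)⁻¹ = m⁻¹ * (n * t * n⁻¹) * m := by group
      _ = v := by rw [e]; group
  have conjH : ∀ {w : G}, (∃ m ∈ H, m * v * m⁻¹ = w) → IsConj t w := by
    rintro w ⟨m, -, rfl⟩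
    exact hconj.trans (isConj_iff.2 ⟨m, rfl⟩)
  have hsq : ∀ {w : G}, IsConj t w → w * w = 1 := by
    intro w hw
    obtain ⟨c, rfl⟩ := isConj_iff.1 hw
    calc c * t * c⁻¹ * (c * t * c⁻¹) = c * (t * t) * c⁻¹ := by group
      _ = 1 := by rw [ht2]; group
  have hne1 : ∀ {w : G}, IsConj t w → w ≠ 1 := fun hw e =>
    M.S.h.ne_one (isConj_one_left.1 (e ▸ hw))
  have al : ∀ i, A.a i ∈ centralizer ({t} : Set G) := fun i => LargeExtra.mem_centralizer_one.2 (A.a_t i)
  have ul : ∀ i, A.u i ∈ centralizer ({t} : Set G) := fun i => LargeExtra.mem_centralizer_one.2 (A.u_t i)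
  -- no fusion inside the core
  have hcore : ∀ n < 4096, n % 8 = 0 → (∃ m ∈ H, m * v * m⁻¹ = sel L n) → False := by
    intro n hn h8 hw
    set w := sel L n with hwdef
    have hwQ : w ∈ Q := A.sel_mem h8
    have hwt : w ≠ t := fun e => notR hw ⟨1, one_mem _, by rw [e]; group⟩
    have hc := List.all_eq_true.1 Closed.cand_all n (List.mem_range.2 hn)
    have h1 : mul8 (cSel fBase n) (cSel fBase n) = one8 := by
      obtain ⟨h', e'⟩ := (hsel n).mul (hsel n)
      obtain ⟨h'', e''⟩ := (HasCode.one : HasCode φ 1 one8)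
      rw [← e', ← e'']
      congr 2
      exact Subtype.ext (hsq (conjH hw))
    simp only [candOK, h1, beq_self_eq_true, Bool.not_true, Bool.false_or, h8, if_true, Bool.or_eq_true,
      beq_iff_eq] at hc
    rcases hc with hR | h | hmv
    · exact notR hw (toR (hsel n) hR)
    · exact hne1 (conjH hw) (HasCode.inj (h ▸ hsel n) HasCode.one)
    · obtain ⟨c, hc⟩ := isConj_iff.1 (conjH hw)
      let M' : Meet Q t c := ⟨M.S, hc ▸ hwQ, hc ▸ hwt⟩
      obtain ⟨σ', hσ', hu', -⟩ := M'.exists_inv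
      rw [moved8, List.any_eq_true] at hmv
      obtain ⟨l, hl, hmv⟩ := hmv
      obtain ⟨i, rfl⟩ : ∃ i : Fin 3, l = [wcode (Amal.wc i 0), wcode (Amal.wc i 1), wcode (Amal.wc i 2)] := by
        have : fAc = [[wcode (Amal.wc 0 0), wcode (Amal.wc 0 1), wcode (Amal.wc 0 2)],
            [wcode (Amal.wc 1 0), wcode (Amal.wc 1 1), wcode (Amal.wc 1 2)],
            [wcode (Amal.wc 2 0), wcode (Amal.wc 2 1), wcode (Amal.wc 2 2)]] := by decide +kernel
        rw [this] at hl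
        simp only [List.mem_cons, List.not_mem_nil, or_false] at hl
        rcases hl with rfl | rfl | rfl
        exacts [⟨0, rfl⟩, ⟨1, rfl⟩, ⟨2, rfl⟩]
      obtain ⟨k, hk⟩ := rot_conj (σ' i) (σ i) (hσ' i).2 (hσ' i).1 (A.invs i).2 (A.invs i).1
      let a' : ↥(centralizer ({t} : Set G)) := ⟨A.a i, al i⟩
      let u' : ↥(centralizer ({t} : Set G)) := ⟨A.u i, ul i⟩
      obtain ⟨u, huQ, hu⟩ := hu' i
      let cl : ↥(centralizer ({t} : Set G)) := a' ^ (k : ℕ) * u' * (a' ^ (k : ℕ))⁻¹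
      set cg := A.a i ^ (k : ℕ) * A.u i * (A.a i ^ (k : ℕ))⁻¹ with hcg
      have hq : (u : G)⁻¹ * cg ∈ Q := by
        have := (M.S.ker (u⁻¹ * cl)).1 (by
          rw [map_mul, map_inv, show M.S.proj u = Pi.mulSingle i (σ' i) from hu,
            map_mul, map_mul, map_inv, map_pow, show M.S.proj a' = Pi.mulSingle i (finRotate 3) from A.pa i _,
            show M.S.proj u' = Pi.mulSingle i (σ i) from A.pu i _, ← Pi.mulSingle_pow, ← Pi.mulSingle_inv,
            ← Pi.mulSingle_inv, ← Pi.mulSingle_mul, ← Pi.mulSingle_mul, ← Pi.mulSingle_mul, hk,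
            inv_mul_cancel, Pi.mulSingle_one])
        simpa [cl, a', u'] using this
      have huw : cj (u : G) w = w := by
        have := M'.h'.comm huQ
        rw [show M'.x = w from hc] at this
        exact cj_of_comm this
      have hut : cj (u : G) t = t := cj_of_comm (LargeExtra.mem_centralizer_one.1 u.2)
      have hmove : cj cg w = w ∨ cj cg w = w * t := by
        rw [show cj cg w = cj (u : G) (cj ((u : G)⁻¹ * cg) w) by simp only [cj]; group]
        rcases M.S.h.conj_cases hq hwQ with e | e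
        · left; rw [show cj ((u : G)⁻¹ * cg) w = w from e, huw]
        · right; rw [show cj ((u : G)⁻¹ * cg) w = w * t from e, cj_hom, huw, hut]
      have hcc : cg * cg = 1 := by
        rw [hcg]
        calc A.a i ^ (k : ℕ) * A.u i * (A.a i ^ (k : ℕ))⁻¹ * (A.a i ^ (k : ℕ) * A.u i * (A.a i ^ (k : ℕ))⁻¹)
            = A.a i ^ (k : ℕ) * (A.u i * A.u i) * (A.a i ^ (k : ℕ))⁻¹ := by group
          _ = 1 := by rw [A.u_sq]; group
      have hwc : ∀ w' ∈ Amal.wc i (k : ℕ), w' < 8 := by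
        have : ∀ i k : Fin 3, ∀ w' ∈ Amal.wc i (k : ℕ), w' < 8 := by decide +kernel
        exact this i k
      have hcode : HasCode φ (cj cg w) (mul8 (mul8 (wcode (Amal.wc i (k : ℕ))) (cSel fBase n))
          (wcode (Amal.wc i (k : ℕ)))) := by
        have h := hword _ hwc
        rw [A.gw_c] at h
        rw [cj, inv_eq_of_mul_eq_one_right hcc]
        exact (h.mul (hsel n)).mul h
      have hmem : wcode (Amal.wc i (k : ℕ)) ∈ [wcode (Amal.wc i 0), wcode (Amal.wc i 1), wcode (Amal.wc i 2)] := by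
        fin_cases k <;> simp
      have := List.all_eq_true.1 hmv _ hmem
      simp only [Bool.and_eq_true, Bool.not_eq_true', beq_eq_false_iff_ne] at this
      rcases hmove with e | e <;> rw [e] at hcode
      · exact this.1 ((hcode.eq (hsel n).mem).symm.trans ((hsel n).eq _))
      · exact this.2 ((hcode.eq ((hsel n).mul htc).mem).symm.trans (((hsel n).mul htc).eq _))
  -- a conjugate in the centralizer
  obtain ⟨m, hmH, hmC⟩ : ∃ m ∈ H, m * v * m⁻¹ ∈ centralizer ({t} : Set G) := by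
    set C' := (centralizer ({t} : Set G)).subgroupOf H with hC'
    let v' : ↥H := ⟨v, hv⟩
    have hidx : C'.index = 1575 := by
      have h := C'.card_mul_index
      rw [Nat.card_congr φ.toEquiv, Closed.card_gam, Nat.card_congr (subgroupOfEquivOfLe gC).toEquiv, M.S.card_C] at h
      omega
    have hp : IsPGroup 2 (zpowers v') := by
      refine IsPGroup.of_card (n := 1) ?_
      rw [Nat.card_zpowers, orderOf_eq_prime (p := 2) (by rw [pow_two]; exact Subtype.ext (hsq hconj))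
        (fun e => hne1 hconj (congrArg Subtype.val e)), pow_one]
    haveI : Fact (Nat.Prime 2) := ⟨Nat.prime_two⟩
    obtain ⟨p, hp⟩ := hp.nonempty_fixed_point_of_prime_not_dvd_card (↥H ⧸ C') (by
      rw [← Subgroup.index_eq_card, hidx]; norm_num)
    obtain ⟨y, rfl⟩ := QuotientGroup.mk_surjective p
    have h := QuotientGroup.eq.1 (hp ⟨v', mem_zpowers v'⟩).symm
    refine ⟨(y⁻¹ : ↥H), SetLike.coe_mem _, ?_⟩
    have h2 : y⁻¹ * v' * y ∈ C' := by simpa [Subgroup.smul_def, mul_assoc] using h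
    rw [hC', mem_subgroupOf] at h2
    simpa [v'] using h2
  -- a conjugate in a standard coset
  set v1 := m * v * m⁻¹ with hv1
  let v1c : ↥(centralizer ({t} : Set G)) := ⟨v1, hmC⟩
  have hp1 : ∀ i, M.S.proj v1c i * M.S.proj v1c i = 1 := by
    intro i
    have h : v1c * v1c = 1 := Subtype.ext (hsq (conjH ⟨m, hmH, rfl⟩))
    exact congrFun (show M.S.proj v1c * M.S.proj v1c = 1 by rw [← map_mul, h, map_one]) i
  have hk : ∀ i, ∃ k : ℕ, ∃ s ≤ 1,
      finRotate 3 ^ k * M.S.proj v1c i * (finRotate 3 ^ k)⁻¹ = σ i ^ s := by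
    intro i
    by_cases h : M.S.proj v1c i = 1
    · exact ⟨0, 0, by norm_num, by simp [h]⟩
    · obtain ⟨k, hk⟩ := rot_conj (σ i) (M.S.proj v1c i) (A.invs i).2 (A.invs i).1 (hp1 i) h
      exact ⟨k, 1, le_rfl, by rw [hk, pow_one]⟩
  choose k s hs hk using hk
  let cm : ↥(centralizer ({t} : Set G)) := ⟨A.a 0, al 0⟩ ^ k 0 * ⟨A.a 1, al 1⟩ ^ k 1 * ⟨A.a 2, al 2⟩ ^ k 2
  let um : ↥(centralizer ({t} : Set G)) := ⟨A.u 0, ul 0⟩ ^ s 0 * ⟨A.u 1, ul 1⟩ ^ s 1 * ⟨A.u 2, ul 2⟩ ^ s 2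
  have hker : ((um⁻¹ * (cm * v1c * cm⁻¹) : ↥(centralizer ({t} : Set G))) : G) ∈ Q := (M.S.ker _).1 (by
    rw [map_mul, map_inv, inv_mul_eq_one]
    simp only [cm, um, map_mul, map_inv, map_pow]
    rw [show ∀ h, M.S.proj ⟨A.a 0, h⟩ = Pi.mulSingle 0 (finRotate 3) from A.pa 0,
      show ∀ h, M.S.proj ⟨A.a 1, h⟩ = Pi.mulSingle 1 (finRotate 3) from A.pa 1,
      show ∀ h, M.S.proj ⟨A.a 2, h⟩ = Pi.mulSingle 2 (finRotate 3) from A.pa 2,
      show ∀ h, M.S.proj ⟨A.u 0, h⟩ = Pi.mulSingle 0 (σ 0) from A.pu 0,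
      show ∀ h, M.S.proj ⟨A.u 1, h⟩ = Pi.mulSingle 1 (σ 1) from A.pu 1,
      show ∀ h, M.S.proj ⟨A.u 2, h⟩ = Pi.mulSingle 2 (σ 2) from A.pu 2]
    funext j
    fin_cases j
    · simpa using (hk 0).symm
    · simpa using (hk 1).symm
    · simpa using (hk 2).symm)
  obtain ⟨n, hn, en⟩ := A.exists_word hker
  obtain ⟨N, hN, eN⟩ := exists_sel_cons (A.u 0) _ (hs 0) (k := 11) (exists_sel_cons (A.u 1) _ (hs 1) (k := 10)
    (exists_sel_cons (A.u 2) _ (hs 2) (k := 9) ⟨n, hn, rfl⟩))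
  have hv2 : (cm : G) * v1 * (cm : G)⁻¹ = sel L N := by
    rw [hL, ← eN, ← en]
    simp only [um, v1c, coe_mul, coe_inv, SubmonoidClass.coe_pow]
    group
  have hcm : (cm : G) ∈ H := gC cm.2
  have hw : ∃ m' ∈ H, m' * v * m'⁻¹ = sel L N :=
    ⟨(cm : G) * m, mul_mem hcm hmH, by rw [← hv2, hv1]; group⟩
  by_cases h8 : N % 8 = 0
  · exact hcore N hN h8 hw
  have hc := List.all_eq_true.1 Closed.cand_all N (List.mem_range.2 hN)
  have h1 : mul8 (cSel fBase N) (cSel fBase N) = one8 := by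
    obtain ⟨h', e'⟩ := (hsel N).mul (hsel N)
    obtain ⟨h'', e''⟩ := (HasCode.one : HasCode φ 1 one8)
    rw [← e', ← e'']
    congr 2
    exact Subtype.ext (hsq (conjH hw))
  simp only [candOK, h1, beq_self_eq_true, Bool.not_true, Bool.false_or, Bool.or_eq_true, beq_iff_eq, h8,
    if_false, List.any_eq_true, Bool.and_eq_true, List.all_eq_true, Nat.blt_eq] at hc
  rcases hc with hR | ⟨⟨n', w, m'⟩, -, ⟨⟨⟨-, hm8⟩, hm4⟩, hw8⟩, hcc⟩
  · exact notR hw (toR (hsel N) hR)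
  have hfold : ∀ (w : List ℕ) (y : G) (c : ℕ), (∀ i ∈ w, i < 8) → HasCode φ y c →
      (∃ m ∈ H, m * v * m⁻¹ = y) → ∃ y', HasCode φ y' (cConj w c) ∧ ∃ m ∈ H, m * v * m⁻¹ = y' := by
    intro w
    induction w with
    | nil => intro y c _ hy hv; exact ⟨y, hy, hv⟩
    | cons i w ih =>
      intro y c hw hy hv
      have hg := hgen i (hw i List.mem_cons_self)
      set γ := A.gl.getD i 1
      have hg2 : γ * γ = 1 := by
        refine (hg.mul hg).inj ?_
        have : ∀ i : Fin 8, mul8 (fGen.getD i 0) (fGen.getD i 0) = one8 := by decide +kernel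
        rw [show mul8 (fGen.getD i 0) (fGen.getD i 0) = one8 from this ⟨i, hw i List.mem_cons_self⟩]
        exact HasCode.one
      obtain ⟨m, hm, rfl⟩ := hv
      obtain ⟨y', h', hv'⟩ := ih (γ * (m * v * m⁻¹) * γ) _ (fun j hj => hw j (List.mem_cons_of_mem _ hj))
        ((hg.mul hy).mul hg) ⟨γ * m, mul_mem hg.mem hm, by
          rw [show γ * (m * v * m⁻¹) * γ = γ * (m * v * m⁻¹) * γ⁻¹ by rw [inv_eq_of_mul_eq_one_right hg2]]
          group⟩
      exact ⟨y', by simpa [cConj] using h', hv'⟩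
  obtain ⟨y', hy', hvy⟩ := hfold w _ _ hw8 (hsel N) hw
  rw [hcc] at hy'
  exact hcore m' hm4 hm8 (hy'.inj (hsel m') ▸ hvy)

end Cfsg.Agent.Omega8Rec
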