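import Cfsg.Agent.Lib.Omega8Rec.Frame
import Cfsg.Agent.Lib.SLPres.Data

/-!
The central rank one subgroup and its relations with the three others.
-/

set_option autoImplicit false
set_option linter.unusedSectionVars false
set_option linter.style.haveILetI false

namespace Cfsg.Agent.Omega8Rec

open Subgroup Equiv
open Cfsg.Agent.LargeExtra
open scoped commutatorElement

variable {G : Type*} [Group G] [Finite G]

omit [Finite G] in
theorem cj_mul (a b q : G) : cj (a * b) q = cj a (cj b q) := by simp only [cj]; group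

omit [Finite G] in
theorem cj_hom (a p q : G) : cj a (p * q) = cj a p * cj a q := by simp only [cj]; group

omit [Finite G] in
theorem cj_of_comm {a q : G} (h : a * q = q * a) : cj a q = q := mul_inv_eq_iff_eq_mul.2 h

omit [Finite G] in
theorem comm_of_cj {a q : G} (h : cj a q = q) : a * q = q * a := mul_inv_eq_iff_eq_mul.1 h

omit [Finite G] in
theorem cj_inv_of_sq {a p q : G} (ha : a * a = 1) (h : cj a p = q) : cj a q = p := by
  rw [← h, ← cj_mul, ha]; simp [cj]

omit [Finite G] in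
theorem comm_cj {w a q : G} (h : a * q = q * a) : cj w a * cj w q = cj w q * cj w a := by
  rw [← cj_hom, ← cj_hom, h]

omit [Finite G] in
@[simp] theorem cj_one_right (a : G) : cj a 1 = 1 := by simp [cj]

omit [Finite G] in
@[simp] theorem cj_one_left (q : G) : cj 1 q = q := by simp [cj]

omit [Finite G] in
theorem cj_pow (a q : G) (n : ℕ) : cj a (q ^ n) = cj a q ^ n := conj_pow.symm

theorem idx_a : ∀ i : Fin 3, i + 1 + 2 = i := by decide
theorem idx_b : ∀ i : Fin 3, i + 1 + 1 = i + 2 := by decide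
theorem idx_c : ∀ i : Fin 3, i + 2 + 1 = i := by decide
theorem idx_d : ∀ i : Fin 3, i + 2 + 2 = i + 1 := by decide
theorem idx_e : ∀ i : Fin 3, i + 1 ≠ i + 2 := by decide
theorem idx_f : ∀ i : Fin 3, i + 2 ≠ i + 1 := by decide

theorem idx_g : ∀ i : Fin 3, i ≠ i + 1 := by decide
theorem idx_h : ∀ i : Fin 3, i ≠ i + 2 := by decide
theorem idx_two : ∀ i j : Fin 3, i ≠ j → j = i + 1 ∨ j = i + 2 := by decide
theorem idx_all : ∀ i : Fin 3, i = 0 ∨ i = 1 ∨ i = 2 := by decide

namespace Frame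

variable {Q : Subgroup G} {t g : G} {M : Meet Q t g} {σ : Fin 3 → Perm (Fin 3)} (F : Frame M σ)
include F

theorem t_t : t * t = 1 := M.S.h.sq

theorem x_t : F.x * t = t * F.x := M.xt

theorem u_t' (i : Fin 3) : F.u i * t = t * F.u i := F.u_t i

theorem z_t (i : Fin 3) : F.z i * t = t * F.z i := M.S.h.comm (F.z_mem i)

theorem cj_z_u (i : Fin 3) : cj (F.z i) (F.u i) = F.u i * F.x := by
  have h := F.u_z i
  rw [cj, F.u_inv] at h
  rw [cj, inv_eq_of_mul_eq_one_right (F.z_sq i)]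
  calc F.z i * F.u i * F.z i = F.u i * (F.u i * F.z i * F.u i) * F.z i := by
        rw [show F.u i * (F.u i * F.z i * F.u i) = F.u i * F.u i * F.z i * F.u i by group, F.u_sq, one_mul]
    _ = F.u i * F.z i * F.x * F.z i := by rw [h]; group
    _ = F.u i * F.x := by
      rw [mul_assoc _ F.x, F.x_z, ← mul_assoc, mul_assoc (F.u i), F.z_sq, mul_one]

theorem z_u_ne {i j : Fin 3} (h : i ≠ j) : F.u i * F.z j = F.z j * F.u i := comm_of_cj (F.u_z_ne h)

theorem u_ee_comm (i : Fin 3) : F.u i * F.ee i = F.ee i * F.u i := comm_of_cj (F.u_ee i)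

theorem x_ne_t : F.x ≠ t := M.ne

theorem xt_ne_one : F.x * t ≠ 1 := fun h => M.ne (by
  show F.x = t
  calc F.x = F.x * (t * t) := by rw [M.S.h.sq, mul_one]
    _ = t := by rw [← mul_assoc, h, one_mul])

theorem z_ne_x (i : Fin 3) : F.z i ≠ F.x := fun h => M.x_ne_one (by
  show F.x = 1
  have := F.D_z i
  rw [h, F.D_x] at this
  exact this.symm)

theorem cj_e_x : cj F.e F.x = F.x * t := by
  have h := F.x_e
  rw [commutatorElement_def] at h
  have h2 : cj F.x F.e = t * F.e := by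
    calc cj F.x F.e = F.x * F.e * F.x⁻¹ * F.e⁻¹ * F.e := by simp only [cj]; group
      _ = t * F.e := by rw [h]
  rw [cj, show F.x⁻¹ = F.x from inv_eq_of_mul_eq_one_right F.x_sq] at h2
  rw [cj, inv_eq_of_mul_eq_one_right F.e_sq]
  calc F.e * F.x * F.e = F.x * (F.x * F.e * F.x) * F.e := by
        rw [show F.x * (F.x * F.e * F.x) = F.x * F.x * F.e * F.x by group, F.x_sq, one_mul]
    _ = F.x * (t * (F.e * F.e)) := by rw [h2]; group
    _ = F.x * t := by rw [F.e_sq, mul_one]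

theorem cj_e_t : cj F.e t = t := cj_of_comm (M.S.h.comm F.e_mem)

/-- A product of the `z`s. -/
abbrev Zp (c : Fin 3 → ℕ) : G := F.z 0 ^ c 0 * F.z 1 ^ c 1 * F.z 2 ^ c 2

theorem comm_Zp {q : G} (h : ∀ i, q * F.z i = F.z i * q) (c : Fin 3 → ℕ) : q * F.Zp c = F.Zp c * q :=
  ((((show Commute q _ from h 0).pow_right _).mul_right ((show Commute q _ from h 1).pow_right _)).mul_right
    ((show Commute q _ from h 2).pow_right _)).eq

theorem Zp_mem (c : Fin 3 → ℕ) : F.Zp c ∈ M.K :=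
  M.K.mul_mem (M.K.mul_mem (M.K.pow_mem (F.z_K 0) _) (M.K.pow_mem (F.z_K 1) _)) (M.K.pow_mem (F.z_K 2) _)

theorem Zp_sq (c : Fin 3 → ℕ) : F.Zp c * F.Zp c = 1 := M.K_sq (F.Zp_mem c)

theorem Zp_comm_x (c : Fin 3 → ℕ) : F.x * F.Zp c = F.Zp c * F.x := F.comm_Zp F.x_z c

theorem cj_Zp_u (c : Fin 3 → ℕ) (i : Fin 3) : cj (F.Zp c) (F.u i) = F.u i * F.x ^ c i := by
  have step : ∀ j (n : ℕ), cj (F.z j ^ n) (F.u i) = if j = i then F.u i * F.x ^ n else F.u i := by
    intro j n
    split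
    · rename_i e; subst e
      induction n with
      | zero => simp
      | succ n ih =>
        rw [pow_succ, cj_mul, F.cj_z_u, cj_hom, ih, cj_of_comm ((show Commute (F.z j) F.x from
          (F.x_z j).symm).pow_left n).eq, pow_succ, mul_assoc]
    · rename_i e
      exact cj_of_comm ((show Commute (F.z j) (F.u i) from (F.z_u_ne (Ne.symm e)).symm).pow_left n).eq
  have fx : ∀ j (n m : ℕ), cj (F.z j ^ n) (F.x ^ m) = F.x ^ m := fun j n m =>
    cj_of_comm (((show Commute (F.z j) F.x from (F.x_z j).symm).pow_left n).pow_right m).eq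
  rw [Zp, cj_mul, cj_mul, step 2]
  rcases idx_all i with e | e | e
  all_goals (subst e; simp only [show (0 : Fin 3) ≠ 1 by decide, show (0 : Fin 3) ≠ 2 by decide,
    show (1 : Fin 3) ≠ 0 by decide, show (1 : Fin 3) ≠ 2 by decide, show (2 : Fin 3) ≠ 0 by decide,
    show (2 : Fin 3) ≠ 1 by decide, step, if_true, if_false, cj_hom, fx])

/-- Commuting with both involutions and moving the `z`s only by `t` forces membership in `Q`. -/
theorem mem_Q_of {c : G} (hc : c * t = t * c) (hcx : c * F.x = F.x * c)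
    (h : ∀ j, cj c (F.z j) = F.z j ∨ cj c (F.z j) = F.z j * t) : c ∈ Q := by
  obtain ⟨b, q, hq, hb, -, e⟩ := F.decomp hc hcx
  have ht : ∀ j, cj (F.u j) t = t := fun j => cj_of_comm (F.u_t' j)
  have b0 : ∀ j, b j = 0 := by
    intro j
    by_contra hj
    have hj1 : b j = 1 := by have := hb j; omega
    have hU : cj (F.u 0 ^ b 0 * F.u 1 ^ b 1 * F.u 2 ^ b 2) (F.z j) = F.z j * F.x := by
      have hx0 : ∀ k (n : ℕ), cj (F.u k ^ n) F.x = F.x := fun k n =>
        cj_of_comm ((show Commute (F.u k) F.x from F.u_x k).pow_left n).eq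
      have hk : ∀ k, k ≠ j → ∀ n : ℕ, cj (F.u k ^ n) (F.z j) = F.z j := fun k hk n =>
        cj_of_comm ((show Commute (F.u k) (F.z j) from F.z_u_ne hk).pow_left n).eq
      rw [cj_mul, cj_mul]
      fin_cases j <;> simp only [Fin.zero_eta, Fin.mk_one, Fin.reduceFinMk] at hj1 hk ⊢ <;>
        simp [hj1, hk, hx0, F.u_z, F.u_x', cj_hom]
    have hUt : cj (F.u 0 ^ b 0 * F.u 1 ^ b 1 * F.u 2 ^ b 2) t = t := by
      refine cj_of_comm ?_
      exact ((((show Commute (F.u 0) t from F.u_t' 0).pow_left _).mul_left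
        ((show Commute (F.u 1) t from F.u_t' 1).pow_left _)).mul_left
        ((show Commute (F.u 2) t from F.u_t' 2).pow_left _)).eq
    have h1 := h j
    rw [e, cj_mul] at h1
    have h2 : cj q (F.z j) = F.z j ∨ cj q (F.z j) = F.z j * t := M.S.h.conj_cases hq (F.z_mem j)
    rcases h2 with h2 | h2 <;> rw [h2] at h1 <;> simp only [cj_hom, hU, hUt] at h1
    · rcases h1 with h1 | h1
      · exact M.x_ne_one (mul_eq_left.1 h1)
      · exact M.ne (mul_left_cancel h1)
    · rw [mul_assoc] at h1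
      rcases h1 with h1 | h1
      · exact F.xt_ne_one (mul_eq_left.1 h1)
      · exact M.x_ne_one (mul_eq_right.1 (mul_left_cancel h1))
  rw [e, b0 0, b0 1, b0 2]
  simpa using hq

/-- Coordinates of an element of `Q` commuting with `x` and the `z`s. -/
theorem coords {q : G} (hq : q ∈ Q) (hx : q * F.x = F.x * q) (hz : ∀ j, q * F.z j = F.z j * q) :
    ∃ c : Fin 3 → ℕ, ∃ d : ℕ, ∃ r, (r = 1 ∨ r = t) ∧ (∀ j, c j ≤ 1) ∧ q = r * F.x ^ d * F.Zp c ∧
      (∀ j, q * F.ee j = F.ee j * q → c j = 0) ∧ (q * F.e = F.e * q → d = 0) := by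
  classical
  let c : Fin 3 → ℕ := fun j => if q * F.ee j = F.ee j * q then 0 else 1
  let d : ℕ := if q * F.e = F.e * q then 0 else 1
  set r := q * F.Zp c * F.x ^ d with hr
  have mx : ∀ n : ℕ, F.x ^ n ∈ Q := fun n => pow_mem F.x_mem n
  have mz := (F.Zp_mem c).1
  have mr : r ∈ Q := mul_mem (mul_mem hq mz) (mx d)
  have one_of : ∀ {a b : G}, a * b = b * a → ⁅a, b⁆ = 1 := fun h => commutatorElement_eq_one_iff_mul_comm.2 h
  have hzj : ∀ j, ⁅F.Zp c, F.ee j⁆ = if c j = 0 then 1 else t := by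
    intro j
    have ez : ∀ k, ⁅F.z k ^ c k, F.ee j⁆ = if k = j ∧ c k ≠ 0 then t else 1 := by
      intro k
      rcases (show c k = 0 ∨ c k = 1 by simp only [c]; split <;> omega) with e | e <;> rw [e]
      · simp
      · rw [pow_one]
        split
        · rename_i hh; rw [hh.1]; exact F.z_ee j
        · rename_i hh; exact one_of (F.z_ee_ne (fun e => hh ⟨e.symm, one_ne_zero⟩))
    rw [Zp, F.toPre.comm_mul (mul_mem (pow_mem (F.z_mem 0) _) (pow_mem (F.z_mem 1) _)) (pow_mem (F.z_mem 2) _) (F.ee_mem j),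
      F.toPre.comm_mul (pow_mem (F.z_mem 0) _) (pow_mem (F.z_mem 1) _) (F.ee_mem j), ez, ez, ez]
    fin_cases j <;> simp
  have hre : r * F.e = F.e * r := by
    refine commutatorElement_eq_one_iff_mul_comm.1 ?_
    rw [hr, F.toPre.comm_mul (mul_mem hq mz) (mx d) F.e_mem, F.toPre.comm_mul hq mz F.e_mem, one_of (F.comm_Zp (fun i => (F.z_e i).symm) c).symm,
      mul_one]
    simp only [d]
    split
    · rename_i h; rw [one_of h]; simp
    · rename_i h
      rw [(M.S.h.comm_cases hq F.e_mem).resolve_left fun e => h (commutatorElement_eq_one_iff_mul_comm.1 e),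
        pow_one, F.x_e, M.S.h.sq]
  have hree : ∀ j, r * F.ee j = F.ee j * r := by
    intro j
    refine commutatorElement_eq_one_iff_mul_comm.1 ?_
    rw [hr, F.toPre.comm_mul (mul_mem hq mz) (mx d) (F.ee_mem j), F.toPre.comm_mul hq mz (F.ee_mem j), hzj,
      one_of ((show Commute F.x (F.ee j) from F.x_ee j).pow_left d).eq, mul_one]
    by_cases h : q * F.ee j = F.ee j * q
    · rw [one_of h, show c j = 0 from if_pos h, if_pos rfl, one_mul]
    · rw [(M.S.h.comm_cases hq (F.ee_mem j)).resolve_left fun e => h (commutatorElement_eq_one_iff_mul_comm.1 e),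
        show c j = 1 from if_neg h, if_neg one_ne_zero, M.S.h.sq]
  have hd := F.detect mr (((show Commute q F.x from hx).mul_left (F.Zp_comm_x c).symm).mul_left (Commute.pow_self F.x d)).eq
    (fun j => (((show Commute q (F.z j) from hz j).mul_left (F.comm_Zp (F.z_z j) c).symm).mul_left
      ((show Commute F.x (F.z j) from F.x_z j).pow_left d)).eq) hree hre
  refine ⟨c, d, r, hd, fun j => by simp only [c]; split <;> omega, ?_, fun j h => if_pos h, fun h => if_pos h⟩
  have hx1 : F.x ^ d * F.x ^ d = 1 := by rw [← pow_add, ← two_mul, pow_mul, pow_two, F.x_sq, one_pow]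
  calc q = q * (F.Zp c * (F.x ^ d * F.x ^ d) * F.Zp c) := by rw [hx1, mul_one, F.Zp_sq, mul_one]
    _ = r * F.x ^ d * F.Zp c := by rw [hr]; group

/-- An element of the second group moving `t`, fixed by the reflections and by the `z`s. -/
theorem exists_f0 : ∃ f ∈ M.Q', f * f = 1 ∧ cj f t = t * F.x ∧ (∀ i, f * F.u i = F.u i * f) ∧
    ∀ i, f * F.z i = F.z i * f := by
  have step : ∀ (f a b : G), f ∈ M.Q' → a ∈ M.Q' → b ∈ M.Q' → cj b a = a * F.x → cj f t = t * F.x →
      b * t = t * b → ∃ f', (f' = f ∨ f' = f * b) ∧ f' ∈ M.Q' ∧ cj f' t = t * F.x ∧ f' * a = a * f' := by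
    intro f a b hf ha hb hba hft hbt
    rcases M.h'.conj_cases hf ha with e | e
    · exact ⟨f, Or.inl rfl, hf, hft, comm_of_cj e⟩
    · refine ⟨f * b, Or.inr rfl, M.Q'.mul_mem hf hb, by rw [cj_mul, cj_of_comm hbt, hft], comm_of_cj ?_⟩
      rw [cj_mul, hba, cj_hom, show cj f a = a * F.x from e, show cj f F.x = F.x from cj_of_comm (M.h'.comm hf),
        mul_assoc, F.x_sq, mul_one]
  have pres : ∀ {f f' b c : G}, (f' = f ∨ f' = f * b) → f * c = c * f → b * c = c * b → f' * c = c * f' := by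
    intro f f' b c h h1 h2
    rcases h with rfl | rfl
    · exact h1
    · exact ((show Commute f c from h1).mul_left h2).eq
  obtain ⟨f1, hf1, e1⟩ := M.h'.exists_conj M.t_mem M.S.h.ne_one (Ne.symm M.ne)
  obtain ⟨fa, ra, ma, ta, A0⟩ := step f1 (F.u 0) (F.z 0) hf1 (F.u_Q 0) (F.z_Q' 0) (F.cj_z_u 0) e1 (F.z_t 0)
  obtain ⟨fb, rb, mb, tb, B1⟩ := step fa (F.u 1) (F.z 1) ma (F.u_Q 1) (F.z_Q' 1) (F.cj_z_u 1) ta (F.z_t 1)
  obtain ⟨fc, rc, mc, tc, C2⟩ := step fb (F.u 2) (F.z 2) mb (F.u_Q 2) (F.z_Q' 2) (F.cj_z_u 2) tb (F.z_t 2)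
  have B0 := pres rb A0 (F.z_u_ne (i := 0) (j := 1) (by decide)).symm
  have C0 := pres rc B0 (F.z_u_ne (i := 0) (j := 2) (by decide)).symm
  have C1 := pres rc B1 (F.z_u_ne (i := 1) (j := 2) (by decide)).symm
  have hU : ∀ i, fc * F.u i = F.u i * fc := by intro i; fin_cases i <;> assumption
  have huz : ∀ i, cj (F.u i) (F.z i) = F.z i * F.x := F.u_z
  obtain ⟨fd, rd, md, td, D0⟩ := step fc (F.z 0) (F.u 0) mc (F.z_Q' 0) (F.u_Q 0) (huz 0) tc (F.u_t' 0)
  obtain ⟨fe, re, me, te, E1⟩ := step fd (F.z 1) (F.u 1) md (F.z_Q' 1) (F.u_Q 1) (huz 1) td (F.u_t' 1)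
  obtain ⟨ff, rf, mf, tf, F2⟩ := step fe (F.z 2) (F.u 2) me (F.z_Q' 2) (F.u_Q 2) (huz 2) te (F.u_t' 2)
  have E0 := pres re D0 (F.z_u_ne (i := 1) (j := 0) (by decide))
  have F0 := pres rf E0 (F.z_u_ne (i := 2) (j := 0) (by decide))
  have F1 := pres rf E1 (F.z_u_ne (i := 2) (j := 1) (by decide))
  have hfu : ∀ i, ff * F.u i = F.u i * ff := fun i =>
    pres rf (pres re (pres rd (hU i) (F.u_comm 0 i)) (F.u_comm 1 i)) (F.u_comm 2 i)
  have hfz : ∀ i, ff * F.z i = F.z i * ff := by intro i; fin_cases i <;> assumption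
  rcases M.h'.sq_cases mf with e | e
  · exact ⟨ff, mf, e, tf, hfu, hfz⟩
  refine ⟨ff * t, M.Q'.mul_mem mf M.t_mem, ?_, by rw [cj_mul, cj_of_comm (a := t) (q := t) rfl, tf],
    fun i => ((show Commute ff (F.u i) from hfu i).mul_left (F.u_t' i).symm).eq,
    fun i => ((show Commute ff (F.z i) from hfz i).mul_left (F.z_t i).symm).eq⟩
  have h2 : cj ff (t * F.x) = t := by
    rw [cj_hom, tf, cj_of_comm (M.h'.comm mf), mul_assoc, F.x_sq, mul_one]
  calc ff * t * (ff * t) = ff * (ff * (ff⁻¹ * t * ff)) * t := by group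
    _ = ff * ff * ((t * F.x) * t) := by
      rw [show ff⁻¹ * t * ff = t * F.x by nth_rw 1 [← h2]; simp only [cj]; group]; group
    _ = 1 := by
      rw [e, mul_assoc t, F.x_t, ← mul_assoc t t, F.t_t, one_mul]; exact F.x_sq

end Frame

/-- The amalgam data. -/
structure Amal {Q : Subgroup G} {t g : G} (M : Meet Q t g) (σ : Fin 3 → Perm (Fin 3)) extends Frame M σ where
  f : G
  f_Q : f ∈ M.Q'
  f_sq : f * f = 1
  f_t : cj f t = t * M.x
  f_u : ∀ i, f * u i = u i * f
  f_z : ∀ i, f * cj (a i) M.x = cj (a i) M.x * f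
  ef3 : toFrame.e * f * (toFrame.e * f) * (toFrame.e * f) = 1

theorem exists_amal {Q : Subgroup G} {t g : G} {M : Meet Q t g} {σ : Fin 3 → Perm (Fin 3)} (F : Frame M σ) :
    Nonempty (Amal M σ) := by
  obtain ⟨f, hf, f2, ft, fu, fz⟩ := F.exists_f0
  have fx : cj f F.x = F.x := cj_of_comm (M.h'.comm hf)
  set τ := F.e * f with hτ
  have τt : cj τ t = F.x := by
    rw [hτ, cj_mul, ft, cj_hom, F.cj_e_t, show cj F.e M.x = F.x * t from F.cj_e_x, ← mul_assoc, ← F.x_t, mul_assoc,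
      F.t_t, mul_one]
  have τx : cj τ F.x = F.x * t := by rw [hτ, cj_mul, fx, F.cj_e_x]
  have τxt : cj τ (F.x * t) = t := by
    rw [cj_hom, τx, τt, F.x_t, mul_assoc, F.x_sq, mul_one]
  have τz : ∀ i, τ * F.z i = F.z i * τ := fun i =>
    ((show Commute F.e (F.z i) from (F.z_e i).symm).mul_left (fz i)).eq
  set φ := τ * τ * τ with hφ
  have φt : φ * t = t * φ := comm_of_cj (by rw [hφ, cj_mul, cj_mul, τt, τx, τxt])
  have φx : φ * F.x = F.x * φ := comm_of_cj (by rw [hφ, cj_mul, cj_mul, τx, τxt, τt])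
  have φz : ∀ i, φ * F.z i = F.z i * φ := fun i =>
    (((show Commute τ _ from τz i).mul_left (τz i)).mul_left (τz i)).eq
  have φQ : φ ∈ Q := F.mem_Q_of φt φx fun j => Or.inl (cj_of_comm (φz j))
  obtain ⟨c, d, r, hr, hc, e, -, -⟩ := F.coords φQ φx φz
  -- the remainder is fixed by the rotation
  have hτφ : cj τ φ = φ := cj_of_comm (by rw [hφ]; group)
  have hτZ : cj τ (F.Zp c) = F.Zp c := cj_of_comm (F.comm_Zp τz c)
  have hrd : cj τ (r * F.x ^ d) = r * F.x ^ d := by
    rw [e, cj_hom, hτZ] at hτφ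
    exact mul_right_cancel hτφ
  have hd1 : d ≤ 1 → r * F.x ^ d = 1 := by
    intro hd
    rcases (show d = 0 ∨ d = 1 by omega) with rfl | rfl <;> rcases hr with rfl | rfl
    · simp
    · rw [pow_zero, mul_one, τt] at hrd; exact absurd hrd M.ne
    · rw [pow_one, one_mul, τx] at hrd; exact absurd (mul_eq_left.1 hrd) M.S.h.ne_one
    · rw [pow_one, ← F.x_t, τxt] at hrd; exact absurd (mul_eq_right.1 hrd.symm) M.x_ne_one
  have hrx : r * F.x ^ d = 1 := by
    have : F.x ^ d = F.x ^ (d % 2) := by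
      conv_lhs => rw [← Nat.mod_add_div d 2, pow_add, pow_mul, pow_two, F.x_sq, one_pow, mul_one]
    rcases (show d % 2 = 0 ∨ d % 2 = 1 by omega) with h | h <;> rw [h] at this <;> rw [this] at hrd ⊢ <;>
      rcases hr with rfl | rfl
    · simp
    · rw [pow_zero, mul_one, τt] at hrd; exact absurd hrd M.ne
    · rw [pow_one, one_mul, τx] at hrd; exact absurd (mul_eq_left.1 hrd) M.S.h.ne_one
    · rw [pow_one, ← F.x_t, τxt] at hrd; exact absurd (mul_eq_right.1 hrd.symm) M.x_ne_one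
  rw [hrx, one_mul] at e
  -- the corrected frame
  let T : Fin 3 → G := fun i => t ^ c i
  have Tt : ∀ i, T i * t = t * T i := fun i => ((Commute.refl t).pow_left _).eq
  have TQ : ∀ i, T i ∈ Q := fun i => Q.pow_mem M.S.h.mem _
  have Tcomm : ∀ i {b : G}, b * t = t * b → T i * b = b * T i := fun i b hb =>
    ((show Commute t b from hb.symm).pow_left _).eq
  have TT : ∀ i, T i * T i = 1 := fun i => by
    show t ^ c i * t ^ c i = 1
    rw [← pow_add, ← two_mul, pow_mul, pow_two, M.S.h.sq, one_pow]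
  have u'sq : ∀ i, F.u i * T i * (F.u i * T i) = 1 := fun i => by
    rw [mul_assoc, ← mul_assoc (T i), Tcomm i (F.u_t i), mul_assoc (F.u i), TT, mul_one, F.u_sq]
  have u'comm : ∀ i j, F.u i * T i * (F.u j * T j) = F.u j * T j * (F.u i * T i) := fun i j =>
    (((show Commute (F.u i) (F.u j) from F.u_comm i j).mul_right (Tcomm j (F.u_t i)).symm).mul_left
      ((show Commute (T i) (F.u j) from Tcomm i (F.u_t j)).mul_right (Tcomm i (Tt j)))).eq
  let P' : Pre M.S σ :=
    { a := F.a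
      u := fun i => F.u i * T i
      a_t := F.a_t
      u_t := fun i => ((show Commute (F.u i) t from F.u_t i).mul_left (Tt i)).eq
      a3 := F.a3
      aa := F.aa
      ua := fun i => by rw [cj_mul, cj_of_comm (Tcomm i (F.a_t i))]; exact F.ua i
      ua' := fun i j h => ((show Commute (F.u i) (F.a j) from F.ua' i j h).mul_left (Tcomm i (F.a_t j))).eq
      u2 := fun i => Or.inl (u'sq i)
      uu := fun i j => Or.inl (by rw [u'comm i j]; group)
      fpf := F.fpf
      pa := F.pa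
      pu := fun i h => by
        have h1 : F.u i ∈ centralizer ({t} : Set G) := LargeExtra.mem_centralizer_one.2 (F.u_t i)
        rw [show (⟨F.u i * T i, h⟩ : centralizer ({t} : Set G)) = ⟨F.u i, h1⟩ * ⟨T i, M.S.mem_C (TQ i)⟩ from
          Subtype.ext rfl, map_mul, (M.S.ker ⟨T i, M.S.mem_C (TQ i)⟩).2 (TQ i), mul_one]
        exact F.pu i h1 }
  let F' : Frame M σ :=
    { toPre := P'
      rel := fun i => by
        show (cj (F.a i) M.x)⁻¹ * cj (F.u i * T i) (cj (F.a i) M.x) = M.x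
        rw [cj_mul, cj_of_comm (Tcomm i (M.S.h.comm (F.z_mem i)))]
        exact F.rel i
      u_Q := fun i => M.Q'.mul_mem (F.u_Q i) (M.Q'.pow_mem M.t_mem _)
      invs := F.invs
      uimg := F.uimg }
  have fZ : f * F.Zp c = F.Zp c * f := F.comm_Zp fz c
  have eZ : F.e * F.Zp c = F.Zp c * F.e := F.comm_Zp (fun i => (F.z_e i).symm) c
  refine ⟨{ toFrame := F', f := f * F.Zp c, f_Q := M.Q'.mul_mem hf (F.Zp_mem c).2, f_sq := ?_, f_t := ?_,
            f_u := ?_, f_z := ?_, ef3 := ?_ }⟩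
  · rw [mul_assoc, ← mul_assoc (F.Zp c), ← fZ, mul_assoc f, F.Zp_sq, mul_one, f2]
  · rw [cj_mul, cj_of_comm (a := F.Zp c) (q := t) (M.S.h.comm (F.Zp_mem c).1), ft]
  · intro i
    show f * F.Zp c * (F.u i * T i) = F.u i * T i * (f * F.Zp c)
    refine comm_of_cj ?_
    have cT : cj (F.Zp c) (T i) = T i := cj_of_comm (Tcomm i (M.S.h.comm (F.Zp_mem c).1)).symm
    have fT : cj f (T i) = (t * F.x) ^ c i := by
      show cj f (t ^ c i) = (t * F.x) ^ c i
      rw [cj_pow, ft]
    rw [cj_mul, cj_hom, F.cj_Zp_u, cT, cj_hom, cj_hom, cj_of_comm (fu i),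
      cj_of_comm ((show Commute f F.x from M.h'.comm hf).pow_right _).eq, fT,
      (show Commute t F.x from F.x_t.symm).mul_pow]
    calc F.u i * F.x ^ c i * (t ^ c i * F.x ^ c i) = F.u i * (F.x ^ c i * (t ^ c i * F.x ^ c i)) := by group
      _ = F.u i * T i := by
        rw [((show Commute t F.x from F.x_t.symm).pow_pow _ _).eq, ← mul_assoc (F.x ^ c i), ← pow_add, ← two_mul,
          pow_mul, pow_two, F.x_sq, one_pow, one_mul]
  · intro i
    exact ((show Commute f (F.z i) from fz i).mul_left (F.comm_Zp (F.z_z i) c).symm).eq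
  · show F.e * (f * F.Zp c) * (F.e * (f * F.Zp c)) * (F.e * (f * F.Zp c)) = 1
    have hc' : Commute (F.e * f) (F.Zp c) := (show Commute F.e _ from eZ).mul_left fZ
    calc F.e * (f * F.Zp c) * (F.e * (f * F.Zp c)) * (F.e * (f * F.Zp c))
        = τ * (F.Zp c * τ) * F.Zp c * τ * F.Zp c := by rw [hτ]; group
      _ = τ * τ * (F.Zp c * F.Zp c) * τ * F.Zp c := by rw [← (show Commute τ (F.Zp c) from hc').eq]; group
      _ = φ * F.Zp c := by rw [F.Zp_sq, mul_one]
      _ = 1 := by rw [e, F.Zp_sq]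

namespace Amal

variable {Q : Subgroup G} {t g : G} {M : Meet Q t g} {σ : Fin 3 → Perm (Fin 3)} (A : Amal M σ)
include A

/-- the reflecting element of the central node -/
abbrev w0 : G := A.e * A.f * A.e

/-- the second involution of a leaf -/
abbrev u' (i : Fin 3) : G := cj (A.a i) (A.u i)

/-- the reflecting element of a leaf -/
abbrev W (i : Fin 3) : G := A.a i * A.u i

/-- the last root element of the pair -/
abbrev fl (i : Fin 3) : G := cj (A.W i) A.f

theorem f_x : cj A.f A.x = A.x := cj_of_comm (M.h'.comm A.f_Q)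

theorem fz' (i : Fin 3) : A.f * A.z i = A.z i * A.f := A.f_z i

theorem e_e : cj A.e A.e = A.e := cj_of_comm rfl

theorem efe : A.e * A.f * A.e * A.f * A.e = A.f := by
  calc A.e * A.f * A.e * A.f * A.e = (A.e * A.f * (A.e * A.f) * (A.e * A.f)) * A.f⁻¹ := by group
    _ = A.f := by rw [A.ef3, one_mul, inv_eq_of_mul_eq_one_right A.f_sq]

theorem w0_eq : A.w0 = A.f * A.e * A.f := by
  have h : A.e * A.f * A.e = (A.e * A.f * A.e * A.f * A.e) * A.e⁻¹ * A.f⁻¹ := by group
  rw [w0, h, A.efe, inv_eq_of_mul_eq_one_right A.e_sq, inv_eq_of_mul_eq_one_right A.f_sq]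

theorem w0_sq : A.w0 * A.w0 = 1 := by
  rw [w0, show A.e * A.f * A.e * (A.e * A.f * A.e) = A.e * A.f * (A.e * A.e) * A.f * A.e by group, A.e_sq, mul_one,
    mul_assoc A.e, A.f_sq, mul_one, A.e_sq]

theorem w0_t : cj A.w0 t = A.x := by
  rw [w0, cj_mul, A.cj_e_t, cj_mul, A.f_t, cj_hom, A.cj_e_t, show cj A.e M.x = A.x * t from A.cj_e_x, ← mul_assoc,
    ← A.x_t, mul_assoc, A.t_t, mul_one]

theorem w0_x : cj A.w0 A.x = t := cj_inv_of_sq A.w0_sq A.w0_t

theorem w0_z (i : Fin 3) : cj A.w0 (A.z i) = A.z i :=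
  cj_of_comm (((show Commute A.e _ from (A.z_e i).symm).mul_left (A.fz' i)).mul_left (A.z_e i).symm).eq

theorem w0_e : cj A.w0 A.e = A.f := by
  rw [cj, inv_eq_of_mul_eq_one_right A.w0_sq, w0,
    show A.e * A.f * A.e * A.e * (A.e * A.f * A.e) = A.e * A.f * A.e * (A.e * A.e) * A.f * A.e by group, A.e_sq,
    mul_one]
  exact A.efe

theorem w0_f : cj A.w0 A.f = A.e := cj_inv_of_sq A.w0_sq A.w0_e

theorem e_u (i : Fin 3) : cj A.e (A.u i) = A.ee i * A.u i := by
  have h := A.u_e i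
  rw [cj, A.u_inv] at h
  rw [cj, inv_eq_of_mul_eq_one_right A.e_sq]
  calc A.e * A.u i * A.e = A.e * (A.u i * A.e * A.u i) * (A.u i)⁻¹ := by group
    _ = A.e * A.e * A.ee i * A.u i := by rw [h, A.u_inv]; group
    _ = A.ee i * A.u i := by rw [A.e_sq, one_mul]

theorem d3_comm {i j k : Fin 3} (n : G) (hn : n ∈ M.K) (hk : k ≠ j) :
    n * A.z k = A.z k * n := M.K_comm hn (A.z_K k)

/-- The central reflection carries the reflections to the points of weight two. -/
theorem w0_u (i : Fin 3) : cj A.w0 (A.u i) = A.ee i := by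
  set y : Fin 3 → G := fun i => cj A.w0 (A.u i) with hy
  have yt : ∀ i, y i * t = t * y i := fun i => by
    have := comm_cj (w := A.w0) (A.u_x i)
    rwa [A.w0_x] at this
  have yx : ∀ i, y i * A.x = A.x * y i := fun i => by
    have := comm_cj (w := A.w0) (A.u_t i)
    rwa [A.w0_t] at this
  have yz_ne : ∀ i j, i ≠ j → y i * A.z j = A.z j * y i := fun i j h => by
    have := comm_cj (w := A.w0) (A.z_u_ne h)
    rwa [A.w0_z] at this
  have yz : ∀ i, cj (y i) (A.z i) = A.z i * t := fun i => by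
    show cj (cj A.w0 (A.u i)) (A.z i) = _
    conv_lhs => rw [← A.w0_z i]
    rw [show cj (cj A.w0 (A.u i)) (cj A.w0 (A.z i)) = cj A.w0 (cj (A.u i) (A.z i)) by simp only [cj]; group,
      A.u_z, cj_hom, A.w0_z, A.w0_x]
  have ye : ∀ i, y i * A.e = A.e * y i := fun i => by
    have := comm_cj (w := A.w0) (A.f_u i).symm
    rwa [A.w0_f] at this
  have yQ : ∀ i, y i ∈ Q := fun i => A.mem_Q_of (yt i) (yx i) fun j => by
    rcases eq_or_ne i j with rfl | h
    · exact Or.inr (yz i)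
    · exact Or.inl (cj_of_comm (yz_ne i j h))
  -- the quotient by the expected value
  have hk : ∀ i, ∃ c : Fin 3 → ℕ, ∃ r, (r = 1 ∨ r = t) ∧ (∀ j, c j ≤ 1) ∧ y i = A.ee i * (r * A.Zp c) := by
    intro i
    set k := A.ee i * y i with hk
    have kQ : k ∈ Q := mul_mem (A.ee_mem i) (yQ i)
    have kx : k * A.x = A.x * k := ((show Commute (A.ee i) A.x from (A.x_ee i).symm).mul_left (yx i)).eq
    have kz : ∀ j, k * A.z j = A.z j * k := fun j => by
      rcases eq_or_ne i j with rfl | h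
      · refine commutatorElement_eq_one_iff_mul_comm.1 ?_
        rw [hk, A.toPre.comm_mul (A.ee_mem i) (yQ i) (A.z_mem i), A.toPre.comm_symm (A.z_mem i) (A.ee_mem i),
          A.z_ee i]
        have : ⁅y i, A.z i⁆ = t := by
          rw [commutatorElement_def, show y i * A.z i * (y i)⁻¹ = A.z i * t from yz i, mul_assoc (A.z i), ← mul_assoc,
            A.z_t i, mul_assoc, mul_inv_cancel, mul_one]
        rw [this, A.t_t]
      · exact ((show Commute (A.ee i) (A.z j) from (A.z_ee_ne h).symm).mul_left (yz_ne i j h)).eq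
    obtain ⟨c, d, r, hr, hc, e, -, hd⟩ := A.coords kQ kx kz
    rw [hd ((show Commute (A.ee i) A.e from A.ee_e i).mul_left (ye i)).eq, pow_zero, mul_one] at e
    exact ⟨c, r, hr, hc, by rw [← e, hk, ← mul_assoc, A.ee_sq, one_mul]⟩
  choose c r hr hc hyv using hk
  -- reflections move the values by a point and possibly x
  have move : ∀ i j m, cj (A.u j) (A.ee i) = A.ee i * m → m ∈ M.K → cj A.w0 m = m →
      cj (A.u j) (y i) = y i * (m * A.x ^ c i j) ∧ cj (y j) (A.u i) = A.u i * (m * t ^ c i j) := by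
    intro i j m hm mK hm0
    have hZ : cj (A.u j) (A.Zp (c i)) = A.Zp (c i) * A.x ^ c i j := by
      have h := A.cj_Zp_u (c i) j
      have mx : A.x ^ c i j ∈ M.K := M.K.pow_mem A.x_K _
      have hu : A.u j * A.x ^ c i j = A.x ^ c i j * A.u j := ((show Commute (A.u j) A.x from A.u_x j).pow_right _).eq
      rw [cj, inv_eq_of_mul_eq_one_right (A.Zp_sq (c i))] at h
      rw [cj, A.u_inv]
      calc A.u j * A.Zp (c i) * A.u j = A.u j * (A.Zp (c i) * A.u j * A.Zp (c i)) * (A.Zp (c i))⁻¹ := by group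
        _ = A.u j * A.u j * (A.x ^ c i j * A.Zp (c i)) := by
          rw [h, inv_eq_of_mul_eq_one_right (A.Zp_sq (c i))]; group
        _ = A.Zp (c i) * A.x ^ c i j := by rw [A.u_sq, one_mul, M.K_comm mx (A.Zp_mem _)]
    have hr' : cj (A.u j) (r i) = r i := by
      rcases hr i with e | e <;> rw [e]
      · simp
      · exact cj_of_comm (A.u_t j)
    have hrK : r i ∈ M.K := by rcases hr i with e | e <;> rw [e]; exacts [one_mem _, A.t_K]
    have h1 : cj (A.u j) (y i) = y i * (m * A.x ^ c i j) := by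
      rw [hyv i, cj_hom, cj_hom, hm, hr', hZ,
        show A.ee i * m * (r i * (A.Zp (c i) * A.x ^ c i j)) =
          A.ee i * (m * (r i * A.Zp (c i))) * A.x ^ c i j by group,
        M.K_comm mK (M.K.mul_mem hrK (A.Zp_mem _))]
      group
    refine ⟨h1, ?_⟩
    have h2 := congrArg (cj A.w0) h1
    rw [show cj A.w0 (cj (A.u j) (y i)) = cj (y j) (cj A.w0 (y i)) by simp only [hy, cj]; group, cj_hom,
      show cj A.w0 (y i) = A.u i from cj_inv_of_sq A.w0_sq rfl, cj_hom, hm0,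
      show cj A.w0 (A.x ^ c i j) = t ^ c i j by rw [cj_pow, A.w0_x]] at h2
    exact h2
  have zero : ∀ i j, c i j = 0 := by
    intro i j
    obtain ⟨m, hm1, hm2, mK, m0, hmu, hmy⟩ : ∃ m, cj (A.u j) (A.ee i) = A.ee i * m ∧
        cj (A.u i) (A.ee j) = A.ee j * m ∧ m ∈ M.K ∧ cj A.w0 m = m ∧ cj (A.u i) m = m ∧ cj (y j) m = m := by
      rcases (show j = i ∨ j = i + 1 ∨ j = i + 2 by revert i j; decide) with rfl | rfl | rfl
      · exact ⟨1, by rw [A.u_ee, mul_one], by rw [A.u_ee, mul_one], one_mem _, by simp, by simp, by simp⟩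
      · refine ⟨A.z (i + 2), A.u_ee₁ i, ?_, A.z_K _, A.w0_z _, A.u_z_ne (by revert i; decide),
          cj_of_comm (yz_ne _ _ (by revert i; decide))⟩
        have h := A.u_ee₂ (i + 1)
        rwa [idx_a i, idx_b i] at h
      · refine ⟨A.z (i + 1), A.u_ee₂ i, ?_, A.z_K _, A.w0_z _, A.u_z_ne (by revert i; decide),
          cj_of_comm (yz_ne _ _ (by revert i; decide))⟩
        have h := A.u_ee₁ (i + 2)
        rwa [idx_c i, idx_d i] at h
    obtain ⟨-, h1⟩ := move i j m hm1 mK m0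
    obtain ⟨h2, -⟩ := move j i m hm2 mK m0
    have n1u : cj (A.u i) (m * t ^ c i j) = m * t ^ c i j := by
      rw [cj_hom, hmu, cj_of_comm ((show Commute (A.u i) t from A.u_t i).pow_right _).eq]
    have n2y : cj (y j) (m * A.x ^ c j i) = m * A.x ^ c j i := by
      rw [cj_hom, hmy, cj_of_comm ((show Commute (y j) A.x from yx j).pow_right _).eq]
    have key : (m * t ^ c i j) * (m * A.x ^ c j i) = 1 := by
      rw [← n1u, ← n2y,
        show cj (A.u i) (m * t ^ c i j) = A.u i * (m * t ^ c i j) * (A.u i)⁻¹ from rfl, ← h1,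
        show cj (y j) (m * A.x ^ c j i) = y j * (m * A.x ^ c j i) * (y j)⁻¹ from rfl, ← h2]
      simp only [cj]; group
    have hK : m * t ^ c i j * (m * A.x ^ c j i) = t ^ c i j * A.x ^ c j i := by
      rw [M.K_comm mK (M.K.pow_mem A.t_K _), mul_assoc, ← mul_assoc m, M.K_sq mK, one_mul]
    rw [hK] at key
    rcases (show c i j = 0 ∨ c i j = 1 by have := hc i j; omega) with a | a
    · exact a
    · rcases (show c j i = 0 ∨ c j i = 1 by have := hc j i; omega) with b | b <;> rw [a, b] at key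
      · exact absurd (by simpa using key) M.S.h.ne_one
      · exact absurd (by rw [pow_one, pow_one, ← A.x_t] at key; exact key) A.xt_ne_one
  have hyi : y i = A.ee i * r i := by
    rw [hyv i]
    simp [Frame.Zp, zero]
  rcases hr i with e | e
  · show y i = A.ee i
    rw [hyi, e, mul_one]
  exfalso
  rw [e] at hyi
  have f1 : cj A.f (y i) = A.ee i * A.u i := by
    show cj A.f (cj A.w0 (A.u i)) = _
    rw [A.w0_eq, ← cj_mul, show A.f * (A.f * A.e * A.f) = A.f * A.f * A.e * A.f by group, A.f_sq, one_mul, cj_mul,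
      cj_of_comm (A.f_u i), A.e_u]
  rw [hyi, cj_hom, A.f_t] at f1
  have f2 : cj A.f (A.ee i) = A.ee i * A.u i * (t * A.x)⁻¹ := by rw [← f1]; group
  have htx : (t * A.x)⁻¹ = t * A.x := by
    rw [mul_inv_rev, show A.x⁻¹ = A.x from inv_eq_of_mul_eq_one_right A.x_sq, M.S.h.inv_eq, A.x_t]
  rw [htx] at f2
  have f3 : cj A.f (cj A.f (A.ee i)) = A.ee i := by rw [← cj_mul, A.f_sq]; simp
  rw [f2, cj_hom, cj_hom, f2, cj_of_comm (A.f_u i), cj_hom, A.f_t, A.f_x] at f3
  have hu1 : A.u i * t = t * A.u i := A.u_t i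
  have hu2 : A.u i * A.x = A.x * A.u i := A.u_x i
  have : A.ee i * A.x = A.ee i := by
    calc A.ee i * A.x = A.ee i * (A.u i * A.u i) * (t * t) * (A.x * A.x) * A.x := by
          rw [A.u_sq, A.t_t, A.x_sq, mul_one, mul_one, mul_one]
      _ = A.ee i * A.u i * (t * A.x) * A.u i * (t * A.x * A.x) := by
          rw [show A.ee i * A.u i * (t * A.x) * A.u i = A.ee i * A.u i * t * (A.x * A.u i) by group, ← hu2,
            show A.ee i * A.u i * t * (A.u i * A.x) = A.ee i * A.u i * (t * A.u i) * A.x by group, ← hu1,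
            show A.ee i * A.u i * (A.u i * t) * A.x * (t * A.x * A.x) =
              A.ee i * (A.u i * A.u i) * t * (A.x * t) * A.x * A.x by group, A.x_t]
          group
      _ = A.ee i := f3
  exact M.x_ne_one (mul_eq_left.1 this)

theorem f_ee (i : Fin 3) : cj A.f (A.ee i) = A.ee i * A.u i := by
  rw [← A.w0_u i, A.w0_eq, ← cj_mul, show A.f * (A.f * A.e * A.f) = A.f * A.f * A.e * A.f by group, A.f_sq,
    one_mul, cj_mul, cj_of_comm (A.f_u i), A.e_u, ← A.w0_eq, A.w0_u]

theorem w0_ee (i : Fin 3) : cj A.w0 (A.ee i) = A.u i := cj_inv_of_sq A.w0_sq (A.w0_u i)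

theorem a_z (i : Fin 3) : cj (A.a i) (A.z i) = A.z i * A.x := by
  rw [← A.u_z i, show A.z i = cj (A.a i) A.x from rfl,
    show cj (A.u i) (cj (A.a i) A.x) = cj (cj (A.u i) (A.a i)) (cj (A.u i) A.x) by simp only [cj]; group, A.ua i,
    A.u_x', show (A.a i)⁻¹ = A.a i * A.a i from inv_eq_of_mul_eq_one_right (by rw [← mul_assoc]; exact A.a3 i),
    cj_mul]

theorem u'_cj (i : Fin 3) (q : G) : cj (A.u' i) (cj (A.a i) q) = cj (A.a i) (cj (A.u i) q) := by
  simp only [u', cj]; group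

theorem u'_x (i : Fin 3) : cj (A.u' i) A.x = A.z i * A.x := by
  have h : A.x = cj (A.a i) (cj (A.a i) (A.z i)) := by
    rw [show cj (A.a i) (cj (A.a i) (A.z i)) = cj (A.a i * A.a i * A.a i) A.x by simp only [Frame.z, cj]; group,
      A.a3 i]
    simp
  conv_lhs => rw [h, A.u'_cj, A.a_z i, cj_hom, A.u_z, A.u_x', mul_assoc, A.x_sq, mul_one]
  exact A.a_z i

theorem u'_a_comm {i j : Fin 3} (h : i ≠ j) : A.u' i * A.a j = A.a j * A.u' i := by
  have h1 : Commute (A.a i) (A.a j) := A.aa i j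
  have h2 : Commute (A.u i) (A.a j) := A.ua' i j h
  exact ((h1.mul_left h2).mul_left h1.inv_left).eq

theorem u'_t (i : Fin 3) : A.u' i * t = t * A.u' i := by
  have h1 : Commute (A.a i) t := A.a_t i
  exact ((h1.mul_left (show Commute (A.u i) t from A.u_t i)).mul_left h1.inv_left).eq

theorem u'_sq (i : Fin 3) : A.u' i * A.u' i = 1 := by
  rw [show A.u' i * A.u' i = cj (A.a i) (A.u i * A.u i) by simp only [u', cj]; group, A.u_sq]
  simp

theorem u'_fix {i : Fin 3} {q : G} (h : cj (A.u i) q = q) : cj (A.u' i) (cj (A.a i) q) = cj (A.a i) q := by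
  rw [A.u'_cj, h]

theorem u'_z (i : Fin 3) : cj (A.u' i) (A.z i) = A.z i := A.u'_fix (A.u_x' i)

theorem u'_move {i : Fin 3} {b : G} (hb : A.u' i * b = b * A.u' i) :
    cj (A.u' i) (cj b A.x) = cj b A.x * cj b (A.z i) := by
  rw [← cj_mul, hb, cj_mul, A.u'_x, cj_hom, ← cj_hom, ← cj_hom, A.x_z]

theorem u'_e (i : Fin 3) : cj (A.u' i) A.e = A.e := by
  have h : A.e = cj (A.a i) (A.ee i) := by
    rw [A.e_eq i, ← cj_mul, show A.ee i = cj (A.a (i + 1) * A.a (i + 2)) A.x from rfl,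
      ← cj_mul]
    congr 1
    exact ((show Commute (A.a i) (A.a (i + 1)) from A.aa _ _).mul_right (A.aa _ _)).eq.symm
  rw [h]; exact A.u'_fix (A.u_ee i)

theorem u'_ee₁ (i : Fin 3) : cj (A.u' (i + 1)) (A.ee i) = A.ee i := by
  have h : A.ee i = cj (A.a (i + 1)) (A.z (i + 2)) := A.ee_eq₂ i
  rw [h]; exact A.u'_fix (A.u_z_ne (idx_e i))

theorem u'_ee₂ (i : Fin 3) : cj (A.u' (i + 2)) (A.ee i) = A.ee i := by
  have h : A.ee i = cj (A.a (i + 2)) (A.z (i + 1)) := A.ee_eq₁ i
  rw [h]; exact A.u'_fix (A.u_z_ne (idx_f i))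

theorem u'_ee_ne {i j : Fin 3} (h : i ≠ j) : cj (A.u' i) (A.ee j) = A.ee j := by
  rcases (show i = j + 1 ∨ i = j + 2 by revert i j; decide) with rfl | rfl
  exacts [A.u'_ee₁ j, A.u'_ee₂ j]

theorem u'_ee (i : Fin 3) : cj (A.u' i) (A.ee i) = A.ee i * A.e := by
  rw [show A.ee i = cj (A.a (i + 1) * A.a (i + 2)) A.x from rfl, A.u'_move]
  · rw [← A.e_eq i]
  · exact ((show Commute (A.u' i) (A.a (i + 1)) from A.u'_a_comm (by revert i; decide)).mul_right
      (A.u'_a_comm (by revert i; decide))).eq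

theorem u_u'_comm {i j : Fin 3} (h : i ≠ j) : A.u j * A.u' i = A.u' i * A.u j := by
  have h1 : Commute (A.u j) (A.a i) := A.ua' j i h.symm
  exact ((h1.mul_right (show Commute (A.u j) (A.u i) from A.u_comm j i)).mul_right h1.inv_right).eq

theorem u'_u'_comm {i j : Fin 3} (h : i ≠ j) : A.u' i * A.u' j = A.u' j * A.u' i := by
  have h1 : Commute (A.u' i) (A.a j) := A.u'_a_comm h
  exact ((h1.mul_right (show Commute (A.u' i) (A.u j) from (A.u_u'_comm h).symm)).mul_right h1.inv_right).eq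

theorem W_sq (i : Fin 3) : A.W i * A.W i = 1 := by
  calc A.W i * A.W i = A.a i * cj (A.u i) (A.a i) * (A.u i * A.u i) := by simp only [W, cj]; group
    _ = 1 := by rw [A.ua i, A.u_sq, mul_inv_cancel, mul_one]

theorem W_x (i : Fin 3) : cj (A.W i) A.x = A.z i := by rw [W, cj_mul, A.u_x']

theorem W_z (i : Fin 3) : cj (A.W i) (A.z i) = A.x := cj_inv_of_sq (A.W_sq i) (A.W_x i)

theorem W_t (i : Fin 3) : cj (A.W i) t = t := by
  rw [W, cj_mul, cj_of_comm (A.u_t i), cj_of_comm (A.a_t i)]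

theorem W_u (i : Fin 3) : cj (A.W i) (A.u i) = A.u' i := by
  rw [W, cj_mul, cj_of_comm (a := A.u i) rfl]

theorem W_u' (i : Fin 3) : cj (A.W i) (A.u' i) = A.u i := cj_inv_of_sq (A.W_sq i) (A.W_u i)

theorem W_u_ne {i j : Fin 3} (h : i ≠ j) : cj (A.W i) (A.u j) = A.u j :=
  cj_of_comm ((show Commute (A.a i) (A.u j) from (A.ua' j i h.symm).symm).mul_left (A.u_comm i j)).eq

theorem W_z_ne {i j : Fin 3} (h : i ≠ j) : cj (A.W i) (A.z j) = cj (A.a j) (A.z i) := by
  have hc : A.W i * A.a j = A.a j * A.W i :=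
    ((show Commute (A.a i) (A.a j) from A.aa i j).mul_left (A.ua' i j h)).eq
  rw [show A.z j = cj (A.a j) A.x from rfl, ← cj_mul, hc, cj_mul, A.W_x]

theorem W_ee₁ (i : Fin 3) : cj (A.W (i + 1)) (A.ee i) = A.z (i + 2) := by
  refine cj_inv_of_sq (A.W_sq _) ?_
  rw [A.W_z_ne (by revert i; decide), ← A.ee_eq₁]

theorem W_ee₂ (i : Fin 3) : cj (A.W (i + 2)) (A.ee i) = A.z (i + 1) := by
  refine cj_inv_of_sq (A.W_sq _) ?_
  rw [A.W_z_ne (by revert i; decide), ← A.ee_eq₂]

theorem fl_comm (i : Fin 3) {q : G} (h : A.f * cj (A.W i) q = cj (A.W i) q * A.f) : A.fl i * q = q * A.fl i := by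
  have := comm_cj (w := A.W i) h
  rwa [show cj (A.W i) (cj (A.W i) q) = q by rw [← cj_mul, A.W_sq]; simp] at this

theorem fl_sq (i : Fin 3) : A.fl i * A.fl i = 1 := by
  rw [fl, ← cj_hom, A.f_sq]; simp

theorem fl_t (i : Fin 3) : cj (A.fl i) t = t * A.z i := by
  calc cj (A.fl i) t = cj (A.fl i) (cj (A.W i) t) := by rw [A.W_t]
    _ = cj (A.W i) (cj A.f t) := by simp only [fl, cj]; group
    _ = t * A.z i := ?_
  rw [A.f_t, cj_hom, A.W_t]
  congr 1
  exact A.W_x i

theorem fl_u' (i : Fin 3) : A.fl i * A.u' i = A.u' i * A.fl i :=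
  A.fl_comm i (by rw [A.W_u']; exact A.f_u i)

theorem fl_u_ne {i j : Fin 3} (h : i ≠ j) : A.fl i * A.u j = A.u j * A.fl i :=
  A.fl_comm i (by rw [A.W_u_ne h]; exact A.f_u j)

theorem fl_x (i : Fin 3) : A.fl i * A.x = A.x * A.fl i := A.fl_comm i (by rw [A.W_x]; exact A.fz' i)

theorem fl_z (i : Fin 3) : A.fl i * A.z i = A.z i * A.fl i :=
  A.fl_comm i (by rw [A.W_z]; exact M.h'.comm A.f_Q)

theorem fl_ee_ne {i j : Fin 3} (h : i ≠ j) : A.fl i * A.ee j = A.ee j * A.fl i := by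
  refine A.fl_comm i ?_
  rcases (show i = j + 1 ∨ i = j + 2 by revert i j; decide) with rfl | rfl
  · rw [A.W_ee₁]; exact A.fz' _
  · rw [A.W_ee₂]; exact A.fz' _

/-- The braid relation and its consequences. -/
theorem braid (i : Fin 3) : cj A.w0 (A.u' i) = A.fl i ∧ cj (A.fl i) (A.u i) = A.u i * A.f ∧
    cj A.e (A.fl i) = A.u' i * A.fl i ∧ cj (A.u' i) A.f = A.f * A.fl i ∧ A.f * A.fl i = A.fl i * A.f := by
  set k := A.W i * A.w0 with hk
  set h := A.w0 * A.W i with hh
  have hinv : k⁻¹ = h := by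
    rw [hk, hh, mul_inv_rev, inv_eq_of_mul_eq_one_right A.w0_sq, inv_eq_of_mul_eq_one_right (A.W_sq i)]
  have hz' : k * t * k⁻¹ = A.z i := by
    show cj (A.W i * A.w0) t = A.z i
    rw [cj_mul, A.w0_t, A.W_x]
  set R := Q.map (MulAut.conj k).toMonoidHom with hR
  have hRS : XSLocal R (A.z i) := hz' ▸ M.S.h.conj k
  have memR : ∀ {q : G}, cj h q ∈ Q → q ∈ R := fun {q} hq => by
    rw [hR, mem_conjMap]
    rw [cj, ← hinv, inv_inv] at hq
    exact hq
  have hflR : A.fl i ∈ R := memR (by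
    rw [hh, cj_mul, show cj (A.W i) (A.fl i) = A.f from cj_inv_of_sq (A.W_sq i) rfl, A.w0_f]; exact A.e_mem)
  have hu'R : A.u' i ∈ R := memR (by rw [hh, cj_mul, A.W_u', A.w0_u]; exact A.ee_mem i)
  set B := cj A.w0 (A.u' i) with hB
  have hBR : B ∈ R := LargeExtra.conj_mem (hRS.norm (LargeExtra.mem_centralizer_one.2 (comm_of_cj (A.w0_z i)))) hu'R
  have Bsq : B * B = 1 := by rw [hB, ← cj_hom, A.u'_sq]; simp
  have Bc : ∀ {q r : G}, cj A.w0 q = r → A.u' i * q = q * A.u' i → B * r = r * B := by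
    intro q r e hc
    rw [← e]; exact comm_cj hc
  have Bu : ∀ {j}, i ≠ j → B * A.u j = A.u j * B := fun {j} hj =>
    Bc (A.w0_ee j) (comm_of_cj (A.u'_ee_ne hj))
  have Bee : ∀ {j}, i ≠ j → B * A.ee j = A.ee j * B := fun {j} hj =>
    Bc (A.w0_u j) (A.u_u'_comm hj).symm
  have Bx : B * A.x = A.x * B := Bc A.w0_t (A.u'_t i)
  have Bz : B * A.z i = A.z i * B := Bc (A.w0_z i) (comm_of_cj (A.u'_z i))
  have Bf : B * A.f = A.f * B := Bc A.w0_e (comm_of_cj (A.u'_e i))
  have Bt : cj B t = t * A.z i := by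
    calc cj B t = cj B (cj A.w0 A.x) := by rw [A.w0_x]
      _ = cj A.w0 (cj (A.u' i) A.x) := by simp only [hB, cj]; group
      _ = t * A.z i := by rw [A.u'_x, cj_hom, A.w0_z, A.w0_x, A.z_t i]
  set D := A.fl i * B with hD
  have Dt : D * t = t * D := comm_of_cj (by
    rw [hD, cj_mul, Bt, cj_hom, A.fl_t, cj_of_comm (A.fl_z i), mul_assoc, A.z_sq, mul_one])
  have Dc : ∀ {q : G}, A.fl i * q = q * A.fl i → B * q = q * B → D * q = q * D := fun a b =>
    ((show Commute _ _ from a).mul_left b).eq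
  set d := cj h D with hd
  have dQ : d ∈ Q := by
    have hm := R.mul_mem hflR hBR
    rw [← hD, hR, mem_conjMap] at hm
    show h * D * h⁻¹ ∈ Q
    rwa [← hinv, inv_inv]
  have dc : ∀ {q r : G}, cj h q = r → D * q = q * D → d * r = r * d := by
    intro q r e hc
    rw [← e]; exact comm_cj hc
  have dx : d * A.x = A.x * d := dc (by rw [hh, cj_mul, A.W_t, A.w0_t]) Dt
  have dzi : d * A.z i = A.z i * d := dc (by rw [hh, cj_mul, A.W_x, A.w0_z]) (Dc (A.fl_x i) Bx)
  have dee : ∀ {j}, i ≠ j → d * A.ee j = A.ee j * d := fun {j} hj =>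
    dc (by rw [hh, cj_mul, A.W_u_ne hj, A.w0_u]) (Dc (A.fl_u_ne hj) (Bu hj))
  have dzj : ∀ {j}, i ≠ j → d * A.z j = A.z j * d := fun {j} hj => by
    rcases idx_two i j hj with rfl | rfl
    · have e : cj h (A.ee (i + 2)) = A.z (i + 1) := by
        have e' := A.W_ee₁ (i + 2)
        rw [idx_c i, idx_d i] at e'
        rw [hh, cj_mul, e', A.w0_z]
      exact dc e (Dc (A.fl_ee_ne (idx_h i)) (Bee (idx_h i)))
    · have e : cj h (A.ee (i + 1)) = A.z (i + 2) := by
        have e' := A.W_ee₂ (i + 1)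
        rw [idx_a i, idx_b i] at e'
        rw [hh, cj_mul, e', A.w0_z]
      exact dc e (Dc (A.fl_ee_ne (idx_g i)) (Bee (idx_g i)))
  obtain ⟨c, n, r, hr, hc, ed, hc0, -⟩ := A.coords dQ dx (fun j => by
    rcases eq_or_ne i j with rfl | hj
    exacts [dzi, dzj hj])
  have c0 : ∀ j, i ≠ j → c j = 0 := fun j hj => hc0 j (dee hj)
  have hZc : A.Zp c = A.z i ^ c i := by
    rw [Frame.Zp]
    fin_cases i <;> simp [c0 0, c0 1, c0 2]
  rw [hZc] at ed
  -- back to the first group
  have hkd : cj k d = D := by rw [hd, ← cj_mul, ← hinv, mul_inv_cancel]; simp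
  have hkt : cj k t = A.z i := hz'
  have hkx : cj k A.x = t := by rw [hk, cj_mul, A.w0_x, A.W_t]
  have hkz : cj k (A.z i) = A.x := by rw [hk, cj_mul, A.w0_z, A.W_z]
  have hkr : cj k r = 1 ∨ cj k r = A.z i := by
    rcases hr with rfl | rfl
    · left; simp
    · right; exact hkt
  set Z1 := cj k r with hZ1
  set m := c i with hm
  have hm1 : m ≤ 1 := hc i
  have eD : D = Z1 * t ^ n * A.x ^ m := by
    rw [← hkd, ed, cj_hom, cj_hom, cj_pow, cj_pow, hkx, hkz]
  have hB' : B = A.fl i * (Z1 * t ^ n * A.x ^ m) := by rw [← eD, hD, ← mul_assoc, A.fl_sq, one_mul]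
  have Z1c : ∀ {q : G}, q * A.z i = A.z i * q → Z1 * q = q * Z1 := by
    intro q hq
    rcases hkr with e | e <;> rw [e]
    · simp
    · exact hq.symm
  have xz : A.x * A.z i = A.z i * A.x := A.x_z i
  -- no t component
  have hn : t ^ n = 1 := by
    have ht2 : t ^ n = 1 ∨ t ^ n = t := by
      rcases Nat.even_or_odd n with ⟨l, rfl⟩ | ⟨l, rfl⟩
      · left; rw [← two_mul, pow_mul, pow_two, A.t_t, one_pow]
      · right; rw [pow_succ, pow_mul, pow_two, A.t_t, one_pow, one_mul]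
    refine ht2.resolve_right fun e => ?_
    set R1 := Z1 * A.x ^ m with hR1
    have hB1 : B = A.fl i * t * R1 := by
      rw [hB', e, hR1, show Z1 * t = t * Z1 from Z1c (A.z_t i).symm]; group
    have cR1 : ∀ {q : G}, q * A.z i = A.z i * q → q * A.x = A.x * q → Commute R1 q := fun h1 h2 =>
      (show Commute Z1 _ from Z1c h1).mul_left ((show Commute A.x _ from h2.symm).pow_left m)
    have c1 : Commute R1 (A.fl i * t) :=
      (cR1 (A.fl_z i) (A.fl_x i)).mul_right (cR1 (A.z_t i).symm A.x_t.symm)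
    have hR2 : R1 * R1 = 1 := by
      have hz1 : Z1 * Z1 = 1 := by rcases hkr with e | e <;> rw [e]; exacts [one_mul 1, A.z_sq i]
      have hx1 : A.x ^ m * A.x ^ m = 1 := by rw [← pow_add, ← two_mul, pow_mul, pow_two, A.x_sq, one_pow]
      rw [hR1, ((show Commute Z1 A.x from Z1c xz).pow_right m).symm.mul_mul_mul_comm,
        hz1, hx1, one_mul]
    have h1 : A.fl i * t * (A.fl i * t) = 1 := by
      have := Bsq
      rw [hB1, show A.fl i * t * R1 * (A.fl i * t * R1) = A.fl i * t * (R1 * (A.fl i * t)) * R1 by group, c1.eq,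
        show A.fl i * t * (A.fl i * t * R1) * R1 = A.fl i * t * (A.fl i * t) * (R1 * R1) by group, hR2, mul_one] at this
      exact this
    have h2 := A.fl_t i
    rw [cj, inv_eq_of_mul_eq_one_right (A.fl_sq i)] at h2
    rw [← mul_assoc, h2, A.z_t i |>.symm, mul_assoc, A.t_t, mul_one] at h1
    exact A.z_ne_x i (absurd h1 (fun h => M.S.h.ne_one (by
      have := A.D_z i
      rw [h, A.toPre.D_Z i (one_mem _)] at this
      exact absurd this.symm M.x_ne_one)))
  rw [hn, mul_one] at hB'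
  have cfx : A.f * A.x = A.x * A.f := M.h'.comm A.f_Q
  have ff : A.f * A.fl i = A.fl i * A.f := by
    have hfl : A.fl i = B * (Z1 * A.x ^ m)⁻¹ := by rw [hB']; group
    rw [hfl]
    exact ((show Commute A.f B from Bf.symm).mul_right
      (((show Commute A.f Z1 from (Z1c (A.fz' i)).symm).mul_right ((show Commute A.f A.x from cfx).pow_right m)).inv_right)).eq
  -- conjugate the lowering relation
  have Bu1 : cj B (A.u i) = A.u i * A.f := by
    conv_lhs => rw [← A.w0_ee i]
    rw [show cj B (cj A.w0 (A.ee i)) = cj A.w0 (cj (A.u' i) (A.ee i)) by simp only [hB, cj]; group, A.u'_ee,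
      cj_hom, A.w0_ee, A.w0_e]
  have xu : ∀ l : ℕ, cj (A.x ^ l) (A.u i) = A.u i := fun l =>
    cj_of_comm ((show Commute A.x (A.u i) from (A.u_x i).symm).pow_left l).eq
  -- the z component vanishes
  have hZ1one : Z1 = 1 := by
    refine hkr.resolve_right fun e => ?_
    rw [e] at hB'
    have hflu : cj (A.fl i) (A.u i) = A.u i * A.f * A.x := by
      have h := Bu1
      rw [hB', cj_mul, cj_mul, xu, A.cj_z_u, cj_hom, cj_of_comm (A.fl_x i)] at h
      rw [← h, mul_assoc, A.x_sq, mul_one]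
    have hufl : cj (A.u i) (A.fl i) = A.fl i * (A.f * A.x) := by
      rw [cj, A.u_inv]
      calc A.u i * A.fl i * A.u i = A.fl i * (cj (A.fl i) (A.u i) * A.u i) := by
            rw [cj, inv_eq_of_mul_eq_one_right (A.fl_sq i),
              show A.fl i * (A.fl i * A.u i * A.fl i * A.u i) = A.fl i * A.fl i * (A.u i * A.fl i * A.u i) by group,
              A.fl_sq, one_mul]
        _ = A.fl i * (A.f * A.x) := by
          rw [hflu]
          congr 1
          have c1 : Commute (A.u i) (A.f * A.x) := (show Commute (A.u i) A.f from (A.f_u i).symm).mul_right (A.u_x i)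
          rw [mul_assoc (A.u i), mul_assoc, ← c1.eq, ← mul_assoc, A.u_sq, one_mul]
    have p1 : cj (A.u' i) A.f = A.fl i * (A.f * A.x) := by
      rw [← hufl]
      have ea : A.u i * A.W i = A.u' i * A.u i := by
        calc A.u i * A.W i = cj (A.u i) (A.a i) * (A.u i * A.u i) := by simp only [W, cj]; group
          _ = A.a i * A.a i := by
            rw [A.ua i, A.u_sq, mul_one]; exact inv_eq_of_mul_eq_one_right (by rw [← mul_assoc]; exact A.a3 i)
          _ = A.a i * (cj (A.u i) (cj (A.u i) (A.a i))) := by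
            rw [← cj_mul, A.u_sq]; simp
          _ = A.u' i * A.u i := by
            rw [A.ua i, show cj (A.u i) (A.a i)⁻¹ = A.u i * (A.a i)⁻¹ * (A.u i)⁻¹ from rfl, A.u_inv]
            simp only [u', cj]; group
      show cj (A.u' i) A.f = cj (A.u i) (cj (A.W i) A.f)
      rw [← cj_mul, ea, cj_mul, cj_of_comm (A.f_u i).symm]
    have p2 : cj (A.u' i) A.f = A.f * (A.fl i * A.z i) := by
      have h := congrArg (cj (A.W i)) hufl
      rw [show cj (A.W i) (cj (A.u i) (A.fl i)) = cj (cj (A.W i) (A.u i)) (cj (A.W i) (A.fl i)) by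
        simp only [cj]; group, A.W_u, cj_hom, cj_hom, show cj (A.W i) (A.fl i) = A.f from cj_inv_of_sq (A.W_sq i) rfl,
        A.W_x] at h
      exact h
    rw [p1] at p2
    rw [← mul_assoc, ← mul_assoc, ff] at p2
    exact A.z_ne_x i (mul_left_cancel p2).symm
  rw [hZ1one, one_mul] at hB'
  have hflu : cj (A.fl i) (A.u i) = A.u i * A.f := by
    have h := Bu1
    rwa [hB', cj_mul, xu] at h
  have hufl : cj (A.u i) (A.fl i) = A.fl i * A.f := by
    rw [cj, A.u_inv]
    rw [cj, inv_eq_of_mul_eq_one_right (A.fl_sq i)] at hflu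
    calc A.u i * A.fl i * A.u i = A.fl i * (A.fl i * A.u i * A.fl i) * A.u i := by
          rw [show A.fl i * (A.fl i * A.u i * A.fl i) = A.fl i * A.fl i * A.u i * A.fl i by group, A.fl_sq, one_mul]
      _ = A.fl i * A.f := by
        rw [hflu, ← A.f_u i, ← mul_assoc, mul_assoc _ (A.u i), A.u_sq, mul_one]
  have huf : cj (A.u' i) A.f = A.f * A.fl i := by
    have h := congrArg (cj (A.W i)) hufl
    rw [show cj (A.W i) (cj (A.u i) (A.fl i)) = cj (cj (A.W i) (A.u i)) (cj (A.W i) (A.fl i)) by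
      simp only [cj]; group, A.W_u, cj_hom, show cj (A.W i) (A.fl i) = A.f from cj_inv_of_sq (A.W_sq i) rfl] at h
    exact h
  -- the x component vanishes
  have hfu' : cj A.f (A.u' i) = A.u' i * A.fl i := by
    rw [cj, inv_eq_of_mul_eq_one_right A.f_sq]
    rw [cj, inv_eq_of_mul_eq_one_right (A.u'_sq i)] at huf
    calc A.f * A.u' i * A.f = A.f * (A.u' i * A.f * A.u' i) * A.u' i := by
          rw [show A.f * (A.u' i * A.f * A.u' i) * A.u' i = A.f * A.u' i * A.f * (A.u' i * A.u' i) by group,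
            A.u'_sq, mul_one]
      _ = A.fl i * A.u' i := by rw [huf, ← mul_assoc A.f, A.f_sq, one_mul]
      _ = A.u' i * A.fl i := A.fl_u' i
  have hB2 : B = A.u' i * cj A.e (A.fl i) := by
    show cj (A.e * A.f * A.e) (A.u' i) = _
    rw [cj_mul, cj_of_comm (comm_of_cj (A.u'_e i)).symm, cj_mul, hfu', cj_hom,
      cj_of_comm (comm_of_cj (A.u'_e i)).symm]
  have heA : cj A.e (A.fl i) = A.u' i * A.fl i * A.x ^ m := by
    have : cj A.e (A.fl i) = A.u' i * B := by rw [hB2, ← mul_assoc, A.u'_sq, one_mul]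
    rw [this, hB', mul_assoc]
  have hm0 : m = 0 := by
    by_contra hne
    have e1 : m = 1 := by omega
    rw [e1, pow_one] at heA
    have sq : cj A.e (A.fl i) * cj A.e (A.fl i) = 1 := by rw [← cj_hom, A.fl_sq]; simp
    rw [heA] at sq
    have h := A.u'_x i
    rw [cj, inv_eq_of_mul_eq_one_right (A.u'_sq i)] at h
    have c1 : Commute (A.fl i) A.x := A.fl_x i
    have c2 : Commute (A.fl i) (A.u' i) := A.fl_u' i
    have : A.u' i * A.x * A.u' i * A.x = 1 := by
      calc A.u' i * A.x * A.u' i * A.x = A.u' i * A.x * A.u' i * A.x * (A.fl i * A.fl i) := by rw [A.fl_sq, mul_one]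
        _ = A.u' i * A.fl i * A.x * (A.u' i * A.fl i * A.x) := by
          rw [show A.u' i * A.fl i * A.x * (A.u' i * A.fl i * A.x) =
            A.u' i * (A.fl i * A.x) * A.u' i * (A.fl i * A.x) by group, c1.eq,
            show A.u' i * (A.x * A.fl i) * A.u' i * (A.x * A.fl i) =
              A.u' i * A.x * (A.fl i * A.u' i) * A.x * A.fl i by group, c2.eq,
            show A.u' i * A.x * (A.u' i * A.fl i) * A.x * A.fl i =
              A.u' i * A.x * A.u' i * (A.fl i * A.x) * A.fl i by group, c1.eq]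
          group
        _ = 1 := sq
    rw [h, mul_assoc, A.x_sq, mul_one] at this
    exact M.x_ne_one (show A.x = 1 by rw [← A.W_z i, this]; simp)
  rw [hm0, pow_zero, mul_one] at hB' heA
  exact ⟨hB', hflu, heA, huf, ff⟩

end Amal

end Cfsg.Agent.Omega8Rec
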