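import Cfsg.Agent.Lib.LargeExtra.Setting
import Cfsg.Agent.Lib.LargeExtra.Pair
import Cfsg.Agent.Lib.FGBasics.Extraspecial

/-!
An involution centralizer of shape `2^(1+8).(S₃ × S₃ × S₃)`, and two conjugate involutions in the core.
-/

set_option autoImplicit false
set_option linter.unusedSectionVars false
set_option linter.style.haveILetI false

namespace Cfsg.Agent.Omega8Rec

open Subgroup Equiv
open Cfsg.Agent.LargeExtra

variable {G : Type*} [Group G] [Finite G]

/-- The quotient. -/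
abbrev P3 : Type := Fin 3 → Perm (Fin 3)

/-- The setting: the centralizer of `t` modulo the extraspecial group `Q`. -/
structure Cent (Q : Subgroup G) (t : G) where
  h : XSLocal Q t
  card : Nat.card Q = 2 ^ 9
  proj : ↥(centralizer ({t} : Set G)) →* P3
  surj : Function.Surjective proj
  ker : ∀ c, proj c = 1 ↔ (c : G) ∈ Q

/-- Fixed point freeness of the three factor elements of order three. -/
def Cent.Fpf {Q : Subgroup G} {t : G} (S : Cent Q t) : Prop :=
  ∀ (i : Fin 3) (c : ↥(centralizer ({t} : Set G))), (c : G) ^ 3 = 1 →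
    S.proj c = Pi.mulSingle i (finRotate 3) → ∀ q ∈ Q, (c : G) * q = q * (c : G) → q = 1 ∨ q = t

set_option maxRecDepth 8000 in
theorem p3_pow_eight : ∀ σ : Perm (Fin 3), σ ^ 8 = 1 → σ * σ = 1 := by decide

theorem perm_two_unique : ∀ σ τ : Perm (Fin 3), σ * σ = 1 → τ * τ = 1 → (σ * τ) * (σ * τ) = 1 →
    σ ≠ 1 → τ ≠ 1 → σ = τ := by decide

theorem card_p3 : Nat.card P3 = 216 := by
  rw [Nat.card_fun, Nat.card_perm, Nat.card_fin]; decide

/-- A 2-subgroup of the quotient has order at most eight. -/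
theorem card_two_le {U : Subgroup P3} (hU : IsPGroup 2 U) : Nat.card U ∣ 8 := by
  haveI : Fact (Nat.Prime 2) := ⟨Nat.prime_two⟩
  obtain ⟨k, hk⟩ := IsPGroup.iff_card.1 hU
  have h1 : 2 ^ k ∣ 8 * 27 := by
    have h := U.card_subgroup_dvd_card
    rw [hk, card_p3] at h
    exact h
  rw [hk]
  exact (Nat.Coprime.pow_left k (by norm_num : Nat.Coprime 2 27)).dvd_of_dvd_mul_right h1

/-- A 2-subgroup of order eight of the quotient is the product of three groups of order two. -/
theorem exists_sigma {U : Subgroup P3} (hU : IsPGroup 2 U) (hc : Nat.card U = 8) :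
    ∃ σ : Fin 3 → Perm (Fin 3), (∀ i, σ i ≠ 1 ∧ σ i * σ i = 1) ∧ (∀ i, Pi.mulSingle i (σ i) ∈ U) ∧
      ∀ v ∈ U, ∀ i, v i = 1 ∨ v i = σ i := by
  classical
  haveI : Fact (Nat.Prime 2) := ⟨Nat.prime_two⟩
  have sq : ∀ v ∈ U, ∀ i, v i * v i = 1 := fun v hv i => by
    obtain ⟨k, hk⟩ := hU ⟨v, hv⟩
    refine p3_pow_eight _ ?_
    have h8 : (⟨v, hv⟩ : U) ^ 8 = 1 := by rw [← hc]; exact pow_card_eq_one'
    exact congrFun (congrArg Subtype.val h8) i
  have hex : ∀ i, ∃ s : Perm (Fin 3), s ≠ 1 ∧ s * s = 1 ∧ ∀ v ∈ U, v i = 1 ∨ v i = s := by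
    intro i
    by_cases h : ∃ v ∈ U, v i ≠ 1
    · obtain ⟨w, hw, hw1⟩ := h
      refine ⟨w i, hw1, sq w hw i, fun v hv => or_iff_not_imp_left.2 fun hv1 => ?_⟩
      exact perm_two_unique _ _ (sq v hv i) (sq w hw i) (sq _ (mul_mem hv hw) i) hv1 hw1
    · push Not at h
      exact ⟨swap 0 1, by decide, by decide, fun v hv => Or.inl (h v hv)⟩
  choose σ h1 h2 h3 using hex
  refine ⟨σ, fun i => ⟨h1 i, h2 i⟩, fun i => ?_, fun v hv i => h3 i v hv⟩
  let f : U → Fin 3 → Bool := fun v j => decide (v.1 j ≠ 1)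
  have hf : Function.Injective f := fun v w e => by
    refine Subtype.ext (funext fun j => ?_)
    have e' := congrFun e j
    simp only [f, decide_eq_decide] at e'
    rcases h3 j v v.2 with a | a <;> rcases h3 j w w.2 with b | b <;> rw [a, b]
    · rw [a, b] at e'; exact absurd (e'.2 (h1 j)) (by simp)
    · rw [a, b] at e'; exact absurd (e'.1 (h1 j)) (by simp)
  have hs : Function.Surjective f :=
    ((Nat.bijective_iff_injective_and_card f).2 ⟨hf, by
      rw [hc, Nat.card_fun, Nat.card_fin, Nat.card_eq_fintype_card, Fintype.card_bool]; rfl⟩).2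
  obtain ⟨⟨v, hv⟩, e⟩ := hs (fun j => decide (j = i))
  have : v = Pi.mulSingle i (σ i) := funext fun j => by
    have e' : decide (v j ≠ 1) = decide (j = i) := congrFun e j
    rw [decide_eq_decide] at e'
    rcases eq_or_ne j i with rfl | hj
    · rw [Pi.mulSingle_eq_same]
      exact (h3 j v hv).resolve_left (e'.2 rfl)
    · rw [Pi.mulSingle_eq_of_ne hj]
      exact not_not.1 fun hne => hj (e'.1 hne)
  exact this ▸ hv

namespace Cent

variable {Q : Subgroup G} {t : G} (S : Cent Q t)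
include S

theorem card_ge : 32 ≤ Nat.card Q := by rw [S.card]; norm_num

theorem mem_C {q : G} (hq : q ∈ Q) : q ∈ centralizer ({t} : Set G) := S.h.le_centralizer hq

theorem norm_of_comm {c : G} (hc : c * t = t * c) : c ∈ normalizer (Q : Set G) :=
  S.h.norm (LargeExtra.mem_centralizer_one.2 hc)

/-- The conjugate setting. -/
noncomputable def conj (g : G) : Cent (Q.map (MulAut.conj g).toMonoidHom) (g * t * g⁻¹) where
  h := S.h.conj g
  card := by rw [card_map_of_injective (MulAut.conj g).injective, S.card]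
  proj := S.proj.comp
    { toFun := fun c => ⟨g⁻¹ * c * g, LargeExtra.mem_centralizer_one.2 (by
        have e := LargeExtra.mem_centralizer_one.1 c.2
        calc g⁻¹ * (c : G) * g * t = g⁻¹ * ((c : G) * (g * t * g⁻¹)) * g := by group
          _ = g⁻¹ * (g * t * g⁻¹ * c) * g := by rw [e]
          _ = t * (g⁻¹ * c * g) := by group)⟩
      map_one' := Subtype.ext (by simp)
      map_mul' := fun a b => Subtype.ext (by simp only [coe_mul]; group) }
  surj σ := by
    obtain ⟨⟨c, hc⟩, e⟩ := S.surj σ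
    refine ⟨⟨g * c * g⁻¹, LargeExtra.mem_centralizer_one.2 (by
      calc g * c * g⁻¹ * (g * t * g⁻¹) = g * (c * t) * g⁻¹ := by group
        _ = g * (t * c) * g⁻¹ := by rw [LargeExtra.mem_centralizer_one.1 hc]
        _ = g * t * g⁻¹ * (g * c * g⁻¹) := by group)⟩, ?_⟩
    rw [MonoidHom.comp_apply, ← e]
    exact congrArg S.proj (Subtype.ext (show g⁻¹ * (g * c * g⁻¹) * g = c by group))
  ker c := by rw [MonoidHom.comp_apply, S.ker, mem_conjMap]; rfl

/-- An abelian subgroup of `Q` has order at most 32. -/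
theorem card_abelian {A : Subgroup G} (hA : A ≤ Q) (hab : ∀ a ∈ A, ∀ b ∈ A, a * b = b * a) :
    Nat.card A ≤ 32 := by
  haveI : Fact (Nat.Prime 2) := ⟨Nat.prime_two⟩
  have hc : IsMulCommutative ↥(A.subgroupOf Q) :=
    ⟨⟨fun a b => Subtype.ext (Subtype.ext (hab _ a.2 _ b.2))⟩⟩
  have h1 := FGBasics.XS.card_abelian_sq_le S.h.xs _ hc
  rw [Nat.card_congr (subgroupOfEquivOfLe hA).toEquiv, S.card] at h1
  nlinarith

/-- The elements of `Q` commuting with an element make up at least half of it. -/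
theorem card_fix {x : G} (hx : x ∈ Q) : 256 ≤ Nat.card ↥(Q ⊓ centralizer ({x} : Set G)) := by
  haveI : Fact (Nat.Prime 2) := ⟨Nat.prime_two⟩
  have h2 := FGBasics.XS.centralizer_index_le S.h.xs (⟨x, hx⟩ : Q)
  have h1 := (centralizer ({⟨x, hx⟩} : Set Q)).card_mul_index
  have h3 : (centralizer ({⟨x, hx⟩} : Set Q)) = (Q ⊓ centralizer ({x} : Set G)).subgroupOf Q := by
    ext q
    simp [mem_subgroupOf, mem_centralizer_singleton_iff, Subtype.ext_iff]
  rw [h3, S.card] at h1
  rw [h3] at h2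
  rw [← Nat.card_congr (subgroupOfEquivOfLe (inf_le_left : Q ⊓ centralizer ({x} : Set G) ≤ Q)).toEquiv]
  nlinarith

end Cent

/-- The data of two commuting conjugate involutions. -/
structure Meet (Q : Subgroup G) (t g : G) where
  S : Cent Q t
  mem : g * t * g⁻¹ ∈ Q
  ne : g * t * g⁻¹ ≠ t

namespace Meet

variable {Q : Subgroup G} {t g : G} (M : Meet Q t g)
include M

/-- the second involution -/
def x (_M : Meet Q t g) : G := g * t * g⁻¹

/-- its extraspecial group -/
abbrev Q' (_M : Meet Q t g) : Subgroup G := Q.map (MulAut.conj g).toMonoidHom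

theorem h' : XSLocal M.Q' M.x := M.S.h.conj g

theorem pair : Pair Q t g := ⟨M.S.h, M.S.card_ge, M.mem, M.ne⟩

theorem t_mem : t ∈ M.Q' := M.pair.z_mem'

theorem x_ne_one : M.x ≠ 1 := M.h'.ne_one

theorem xt : M.x * t = t * M.x := M.S.h.comm M.mem

/-- the meet -/
abbrev K : Subgroup G := Q ⊓ M.Q'

theorem K_comm {a b : G} (ha : a ∈ M.K) (hb : b ∈ M.K) : a * b = b * a := by
  rcases M.S.h.comm_cases ha.1 hb.1 with e | e
  · exact commutatorElement_eq_one_iff_mul_comm.1 e
  · rcases M.h'.comm_cases ha.2 hb.2 with e' | e'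
    · exact commutatorElement_eq_one_iff_mul_comm.1 e'
    · exact absurd (e.symm.trans e').symm M.ne

theorem K_sq {a : G} (ha : a ∈ M.K) : a * a = 1 := by
  rcases M.S.h.sq_cases ha.1 with e | e
  · exact e
  · rcases M.h'.sq_cases ha.2 with e' | e'
    · exact e'
    · exact absurd (e.symm.trans e').symm M.ne

/-- the image of the elements of the second group commuting with `t` -/
noncomputable def U : Subgroup P3 :=
  ((M.Q' ⊓ centralizer ({t} : Set G)).subgroupOf (centralizer ({t} : Set G))).map M.S.proj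

omit M in
theorem card_aux {Q₁ Q₂ : Subgroup G} {s : G} (T : Cent Q₂ s) (hQ : IsPGroup 2 Q₁) :
    IsPGroup 2 ↥(((Q₁ ⊓ centralizer ({s} : Set G)).subgroupOf (centralizer ({s} : Set G))).map T.proj) ∧
    Nat.card ↥(Q₁ ⊓ centralizer ({s} : Set G)) ≤
      Nat.card ↥(Q₁ ⊓ Q₂) *
        Nat.card ↥(((Q₁ ⊓ centralizer ({s} : Set G)).subgroupOf (centralizer ({s} : Set G))).map T.proj) := by
  haveI : Fact (Nat.Prime 2) := ⟨Nat.prime_two⟩
  set C := centralizer ({s} : Set G)
  set A := (Q₁ ⊓ C).subgroupOf C with hA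
  have hp : IsPGroup 2 A :=
    (hQ.to_le (inf_le_left : Q₁ ⊓ C ≤ Q₁)).of_equiv (subgroupOfEquivOfLe inf_le_right).symm
  refine ⟨hp.map _, ?_⟩
  let f : A →* P3 := T.proj.comp A.subtype
  have h1 : Nat.card A = Nat.card f.ker * Nat.card f.range := by
    rw [← f.ker.card_mul_index, Subgroup.index_ker]
  have h2 : Nat.card f.ker ≤ Nat.card ↥(Q₁ ⊓ Q₂) :=
    Nat.card_le_card_of_injective (fun a => ⟨((a : A) : G), a.1.2.1, (T.ker _).1 a.2⟩)
      (fun a b e => Subtype.ext (Subtype.ext (Subtype.ext (congrArg Subtype.val e :)))) 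
  have h3 : f.range = A.map T.proj := by rw [MonoidHom.range_comp, range_subtype]
  rw [Nat.card_congr (subgroupOfEquivOfLe (inf_le_right : Q₁ ⊓ C ≤ C)).toEquiv, h3] at h1
  exact h1 ▸ Nat.mul_le_mul_right _ h2

theorem K_card : Nat.card ↥M.K = 32 := by
  refine le_antisymm (M.S.card_abelian inf_le_left fun a ha b hb => M.K_comm ha hb) ?_
  obtain ⟨h1, h2⟩ := card_aux (Q₁ := Q) (M.S.conj g) M.S.h.xs.1.1
  have h3 := M.S.card_fix M.mem
  have h4 := Nat.le_of_dvd (by norm_num) (card_two_le h1)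
  have := (h3.trans h2).trans (Nat.mul_le_mul_left _ h4)
  change 256 ≤ Nat.card ↥M.K * 8 at this
  omega

/-- The meet is its own centralizer in `Q`. -/
theorem mem_K {q : G} (hq : q ∈ Q) (h : ∀ k ∈ M.K, q * k = k * q) : q ∈ M.K := by
  set A := closure (insert q (M.K : Set G))
  have hle : M.K ≤ A := fun k hk => subset_closure (Or.inr hk)
  have hA : A ≤ Q := (closure_le _).2 (Set.insert_subset hq fun k hk => hk.1)
  have hgen : ∀ a ∈ insert q (M.K : Set G), ∀ b ∈ insert q (M.K : Set G), a * b = b * a := by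
    rintro a (rfl | ha) b (rfl | hb)
    exacts [rfl, h b hb, (h a ha).symm, M.K_comm ha hb]
  have hab : ∀ a ∈ A, ∀ b ∈ A, a * b = b * a := fun a ha b hb => by
    haveI := isMulCommutative_closure hgen
    exact congrArg Subtype.val (mul_comm' (⟨a, ha⟩ : A) ⟨b, hb⟩)
  rw [eq_of_le_of_card_ge hle (by rw [M.K_card]; exact M.S.card_abelian hA hab)]
  exact subset_closure (Set.mem_insert q _)

theorem U_two : IsPGroup 2 M.U := (card_aux M.S M.h'.xs.1.1).1

theorem U_card : Nat.card M.U = 8 := by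
  refine le_antisymm (Nat.le_of_dvd (by norm_num) (card_two_le M.U_two)) ?_
  obtain ⟨-, h2⟩ := card_aux (Q₁ := M.Q') M.S M.h'.xs.1.1
  have h3 := (M.S.conj g).card_fix M.t_mem
  rw [show M.Q' ⊓ Q = M.K from inf_comm _ _, M.K_card] at h2
  have := h3.trans h2
  show 8 ≤ Nat.card M.U
  unfold U
  omega

theorem exists_inv : ∃ σ : Fin 3 → Perm (Fin 3), (∀ i, σ i ≠ 1 ∧ σ i * σ i = 1) ∧
    (∀ i, ∃ u : ↥(centralizer ({t} : Set G)), (u : G) ∈ M.Q' ∧ M.S.proj u = Pi.mulSingle i (σ i)) ∧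
    ∀ v ∈ M.U, ∀ i, v i = 1 ∨ v i = σ i := by
  obtain ⟨σ, h1, h2, h3⟩ := exists_sigma M.U_two M.U_card
  refine ⟨σ, h1, fun i => ?_, h3⟩
  obtain ⟨u, hu, e⟩ := h2 i
  exact ⟨u, hu.1, e⟩

/-- An element of `Q'` moves some element of the meet unless it lies there. -/
theorem exists_moved {v : G} (hv : v ∈ M.Q') (hvQ : v ∉ Q) : ∃ k ∈ M.K, v * k * v⁻¹ = k * M.x := by
  haveI : Fact (Nat.Prime 2) := ⟨Nat.prime_two⟩
  by_contra hcon
  apply hvQ
  have hc : ∀ k ∈ M.K, v * k = k * v := fun k hk => by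
    rcases M.h'.conj_cases hv hk.2 with e | e
    · exact XSub.conj_eq_self_iff.1 e
    · exact absurd ⟨k, hk, e⟩ hcon
  set A := closure (insert v (M.K : Set G))
  have hle : M.K ≤ A := fun k hk => subset_closure (Or.inr hk)
  have hA : A ≤ M.Q' := (closure_le _).2 (Set.insert_subset hv fun k hk => hk.2)
  have hgen : ∀ a ∈ insert v (M.K : Set G), ∀ b ∈ insert v (M.K : Set G), a * b = b * a := by
    rintro a (rfl | ha) b (rfl | hb)
    exacts [rfl, hc b hb, (hc a ha).symm, M.K_comm ha hb]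
  have hab : ∀ a ∈ A, ∀ b ∈ A, a * b = b * a := fun a ha b hb => by
    haveI := isMulCommutative_closure hgen
    exact congrArg Subtype.val (mul_comm' (⟨a, ha⟩ : A) ⟨b, hb⟩)
  have : A = M.K := (eq_of_le_of_card_ge hle (by
    rw [M.K_card]; exact (M.S.conj g).card_abelian hA hab)).symm
  exact (this ▸ subset_closure (Set.mem_insert v _) : v ∈ M.K).1

end Meet

end Cfsg.Agent.Omega8Rec
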