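/-
Recognition of the orthogonal group in dimension eight over two elements from an involution centralizer
2^(1+8).(S3 × S3 × S3): the involution has a conjugate in the core of its centralizer.
-/
import Cfsg.Prelude
import Cfsg.Agent.Lib.LargeExtra.TransferIndexTwo
import Cfsg.Agent.Lib.LargeExtra.Setting
import Cfsg.Agent.Lib.Components.Local

set_option autoImplicit false
set_option linter.style.haveILetI false
open Cfsg Subgroup

namespace Cfsg.Agent.Omega8Rec

variable {G : Type*} [Group G] [Finite G]

/-- The generalized Fitting subgroup of the centralizer is its 2-core. -/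
theorem fstar_eq_pCore {C : Subgroup G}
    (hcc : Subgroup.centralizer (((Cfsg.pCore 2 C).map C.subtype : Subgroup G) : Set G) ≤
      (Cfsg.pCore 2 C).map C.subtype) :
    Cfsg.generalizedFittingSubgroup C = Cfsg.pCore 2 C := by
  haveI : Fact (Nat.Prime 2) := ⟨Nat.prime_two⟩
  refine Components.generalizedFitting_eq_pCore_iff.2 fun c hc => ?_
  obtain ⟨d, hd, hdc⟩ := hcc (x := (c : G)) <| mem_centralizer_iff.2 fun _ ⟨q, hq, hqe⟩ => by
    subst hqe
    exact congrArg Subtype.val (mem_centralizer_iff.1 hc q hq)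
  rwa [← Subtype.ext hdc]

/-- The 2-core of the centralizer gives the standard setting. -/
theorem xsLocal {t : G} (ht : orderOf t = 2) {C : Subgroup G}
    (hC : C = Subgroup.centralizer ({t} : Set G))
    (hF : Cfsg.IsExtraspecial 2 (Cfsg.generalizedFittingSubgroup C))
    (hcc : Subgroup.centralizer (((Cfsg.pCore 2 C).map C.subtype : Subgroup G) : Set G) ≤
      (Cfsg.pCore 2 C).map C.subtype) :
    LargeExtra.XSLocal ((Cfsg.pCore 2 C).map C.subtype) t := by
  have hFQ := fstar_eq_pCore hcc
  subst hC
  refine LargeExtra.XSLocal.of_fstar ht (by rw [hFQ]) ?_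
  rw [hFQ] at hF
  exact Qd.isExtraspecial_congr
    ((Cfsg.pCore 2 _).equivMapOfInjective _ (Subgroup.subtype_injective _)).symm hF

/-- `t` is conjugate to another element of `O₂(C_G(t))`: `G` has no quotient of order two. -/
theorem exists_conj_mem_core (hG : Cfsg.pResidual 2 G = ⊤) {t : G} (ht : orderOf t = 2)
    {C : Subgroup G} (hC : C = Subgroup.centralizer ({t} : Set G))
    (hF : Cfsg.IsExtraspecial 2 (Cfsg.generalizedFittingSubgroup C))
    (hFcard : Nat.card (Cfsg.generalizedFittingSubgroup C) = 2 ^ 9)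
    (e : C ⧸ Cfsg.pCore 2 C ≃* Equiv.Perm (Fin 3) × Equiv.Perm (Fin 3) × Equiv.Perm (Fin 3))
    (hcc : Subgroup.centralizer (((Cfsg.pCore 2 C).map C.subtype : Subgroup G) : Set G) ≤
      (Cfsg.pCore 2 C).map C.subtype) :
    ∃ x ∈ (Cfsg.pCore 2 C).map C.subtype, x ≠ t ∧ IsConj t x := by
  have h := xsLocal ht hC hF hcc
  by_contra hcon
  push Not at hcon
  let s : C →* ℤˣ := (Equiv.Perm.sign.comp (MonoidHom.fst _ _)).comp
    (e.toMonoidHom.comp (QuotientGroup.mk' (Cfsg.pCore 2 C)))
  have hs : Function.Surjective s := by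
    have h1 : Function.Surjective (Equiv.Perm.sign : Equiv.Perm (Fin 3) →* ℤˣ) :=
      Equiv.Perm.sign_surjective _
    exact (h1.comp Prod.fst_surjective).comp
      (e.surjective.comp (QuotientGroup.mk'_surjective _))
  have hrel : (s.ker.map C.subtype).relIndex (centralizer ({t} : Set G)) = 2 := by
    rw [← hC]
    show ((s.ker.map C.subtype).subgroupOf C).index = 2
    rw [subgroupOf, comap_map_eq_self_of_injective C.subtype_injective, Subgroup.index_ker,
      MonoidHom.range_eq_top.2 hs, Subgroup.card_top]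
    simp
  have hK : LargeExtra.IdxTwo (s.ker.map C.subtype) t :=
    LargeExtra.IdxTwo.of_relIndex (hC ▸ map_subtype_le _) hrel
  have h128 : 128 ≤ Nat.card ↥((Cfsg.pCore 2 C).map C.subtype) := by
    rw [card_map_of_injective C.subtype_injective, ← fstar_eq_pCore hcc, hFcard]
    norm_num
  exact LargeExtra.false_of_even_orbits hG h hK (Or.inr h128)
    fun g hg hne => absurd (isConj_iff.2 ⟨g, rfl⟩) (hcon _ hg hne)

end Cfsg.Agent.Omega8Rec
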