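import Cfsg.Agent.Lib.Omega8Rec.Base
import Cfsg.Agent.Lib.Omega8Rec.Fused

/-!
In the presence of a second conjugate involution in the core the module is the threefold tensor product:
the three factor elements of order three are fixed point free.
-/

set_option autoImplicit false
set_option linter.unusedSectionVars false
set_option linter.style.haveILetI false

namespace Cfsg.Agent.Omega8Rec

open Subgroup Equiv
open Cfsg.Agent.LargeExtra

set_option synthInstance.maxHeartbeats 200000 in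
set_option synthInstance.maxSize 1024 in
theorem perm_fix_inv : ∀ σ τ : Perm (Fin 3), σ ≠ 1 → σ * σ = 1 → τ * σ = σ * τ → τ * τ * τ = 1 → τ = 1 := by
  decide

theorem zmod_cases : ∀ c : ZMod 2, c = 0 ∨ c = 1 := by decide

theorem idx1 : ∀ i : Fin 3, i + 1 ≠ i := by decide

theorem idx2 : ∀ i : Fin 3, i + 2 ≠ i := by decide

theorem idx_others : ∀ i : Fin 3, ∃ j k, j ≠ i ∧ k ≠ i ∧ k ≠ j := by decide

theorem idx_six : ∀ i j k : Fin 3, j ≠ i → k ≠ i → k ≠ j → (i = 0 ∧ j = 1 ∧ k = 2) ∨ (i = 0 ∧ j = 2 ∧ k = 1) ∨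
    (i = 1 ∧ j = 0 ∧ k = 2) ∨ (i = 1 ∧ j = 2 ∧ k = 0) ∨ (i = 2 ∧ j = 0 ∧ k = 1) ∨
    (i = 2 ∧ j = 1 ∧ k = 0) := by decide

theorem perm_inv_rot : ∀ σ : Perm (Fin 3), σ ≠ 1 → σ * σ = 1 →
    σ * finRotate 3 = finRotate 3 * finRotate 3 * σ := by decide

theorem perm_rot_pow : finRotate 3 ^ 3 = 1 ∧ finRotate 3 ≠ 1 := by
  constructor
  · simp only [pow_succ, pow_zero, one_mul]; decide
  · decide

section Linear

variable {V : Type*} [AddCommGroup V] [Module (ZMod 2) V]

theorem add_self' (v : V) : v + v = 0 := by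
  rw [← one_smul (ZMod 2) v, ← add_smul, show (1 : ZMod 2) + 1 = 0 from rfl, zero_smul]

/-- The nine vectors of the counting argument. -/
theorem false_of_nine [Finite V] (hcard : Nat.card V ≤ 256) (v : Fin 9 → V)
    (h : LinearIndependent (ZMod 2) v) : False := by
  haveI : Module.Finite (ZMod 2) V := Module.Finite.of_finite
  have h1 := h.fintype_card_le_finrank
  rw [Fintype.card_fin] at h1
  have h2 := Module.natCard_eq_pow_finrank (K := ZMod 2) (V := V)
  rw [Nat.card_zmod] at h2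
  have : 2 ^ 9 ≤ Nat.card V := h2 ▸ Nat.pow_le_pow_right two_pos h1
  omega

variable (A U : Fin 3 → V →ₗ[ZMod 2] V)

/-- The relations of three commuting copies of `S₃` acting on a space. -/
structure Rels : Prop where
  A3 : ∀ i v, A i (A i (A i v)) = v
  U2 : ∀ i v, U i (U i v) = v
  UA : ∀ i v, U i (A i v) = A i (A i (U i v))
  AA : ∀ i j v, A i (A j v) = A j (A i v)
  UA' : ∀ i j v, i ≠ j → U i (A j v) = A j (U i v)

variable {A U}

namespace Rels

variable (R : Rels A U)
include R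

/-- the component moved by the `i`-th rotation -/
abbrev pr (_R : Rels A U) (i : Fin 3) (v : V) : V := A i v + A i (A i v)

/-- displacement -/
abbrev dl (_R : Rels A U) (i : Fin 3) (v : V) : V := v + U i v

theorem pr_idem (i : Fin 3) (v : V) : R.pr i (R.pr i v) = R.pr i v := by
  simp only [pr, map_add, R.A3]
  rw [show A i (A i v) + v + (v + A i v) = A i (A i v) + A i v + (v + v) by abel, add_self', add_zero, add_comm]

theorem pr_pr (i j : Fin 3) (v : V) : R.pr i (R.pr j v) = R.pr j (R.pr i v) := by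
  simp only [pr, map_add, R.AA i j]
  abel

theorem pr_A (i j : Fin 3) (v : V) : R.pr i (A j v) = A j (R.pr i v) := by
  simp only [pr, map_add, R.AA i j]

theorem dl_pr (i j : Fin 3) (h : i ≠ j) (v : V) : R.dl i (R.pr j v) = R.pr j (R.dl i v) := by
  simp only [pr, dl, map_add, R.UA' i j _ h]
  abel

theorem dl_A (i j : Fin 3) (h : i ≠ j) (v : V) : R.dl i (A j v) = A j (R.dl i v) := by
  simp only [dl, map_add, R.UA' i j _ h]

theorem U_pr (i j : Fin 3) (v : V) : U i (R.pr j v) = R.pr j (U i v) := by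
  rcases eq_or_ne i j with rfl | h
  · simp only [pr, map_add, R.UA, R.A3]
    rw [add_comm]
  · simp only [pr, map_add, R.UA' i j _ h]

theorem dl_fix (i : Fin 3) (v : V) (h : U i v = v) : R.dl i v = 0 := by
  rw [dl, h, add_self']

theorem dl_A_fix (i : Fin 3) (v : V) (h : U i v = v) : R.dl i (A i v) = R.pr i v := by
  rw [dl, R.UA, h]

theorem dl_add (i : Fin 3) (v w : V) : R.dl i (v + w) = R.dl i v + R.dl i w := by
  simp only [dl, map_add]; abel

theorem pr_add (i : Fin 3) (v w : V) : R.pr i (v + w) = R.pr i v + R.pr i w := by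
  simp only [pr, map_add]; abel

theorem pr_zero (i : Fin 3) : R.pr i 0 = 0 := by simp [pr]

theorem dl_zero (i : Fin 3) : R.dl i 0 = 0 := by simp [dl]

theorem dl_smul (i : Fin 3) (c : ZMod 2) (v : V) : R.dl i (c • v) = c • R.dl i v := by
  simp [dl, smul_add]

theorem pr_smul (i : Fin 3) (c : ZMod 2) (v : V) : R.pr i (c • v) = c • R.pr i v := by
  simp [pr, smul_add]

theorem smul_eq_zero' {c : ZMod 2} {v : V} (hv : v ≠ 0) (h : c • v = 0) : c = 0 := by
  rcases zmod_cases c with rfl | rfl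
  · rfl
  · exact absurd (by rwa [one_smul] at h) hv

/-- four translates of a doubly moved fixed vector -/
theorem detect_four {i j : Fin 3} (hij : i ≠ j) {y : V} (hy : y ≠ 0) (hi : U i y = y) (hj : U j y = y)
    (pi : R.pr i y = y) (pj : R.pr j y = y) {c₀ c₁ c₂ c₃ : ZMod 2}
    (h : c₀ • y + c₁ • A i y + c₂ • A j y + c₃ • A i (A j y) = 0) :
    c₀ = 0 ∧ c₁ = 0 ∧ c₂ = 0 ∧ c₃ = 0 := by
  have a1 : R.dl i y = 0 := R.dl_fix i y hi
  have a2 : R.dl i (A i y) = y := by rw [R.dl_A_fix i y hi, pi]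
  have b1 : R.dl j y = 0 := R.dl_fix j y hj
  have b2 : R.dl j (A j y) = y := by rw [R.dl_A_fix j y hj, pj]
  have a3 : R.dl i (A j y) = 0 := by rw [R.dl_A i j hij, a1, map_zero]
  have a4 : R.dl i (A i (A j y)) = A j y := by rw [R.AA, R.dl_A i j hij, a2]
  have e1 : c₁ • y + c₃ • A j y = 0 := by
    have := congrArg (R.dl i) h
    simpa only [R.dl_add, R.dl_smul, a1, a2, a3, a4, smul_zero, add_zero, zero_add, R.dl_zero] using this
  have e2 : c₃ = 0 := by
    have := congrArg (R.dl j) e1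
    simp only [R.dl_add, R.dl_smul, b1, b2, smul_zero, zero_add, R.dl_zero] at this
    exact R.smul_eq_zero' hy this
  subst e2
  have e3 : c₁ = 0 := R.smul_eq_zero' hy (by simpa using e1)
  subst e3
  have e4 : c₂ = 0 := by
    have := congrArg (R.dl j) h
    simp only [R.dl_add, R.dl_smul, b1, b2, smul_zero, zero_smul, zero_add, add_zero, R.dl_zero] at this
    exact R.smul_eq_zero' hy this
  subst e4
  exact ⟨R.smul_eq_zero' hy (by simpa using h), rfl, rfl, rfl⟩

/-- In eight dimensions a vector fixed by the reflections and reached by their displacements forces the absence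
of rotation-fixed vectors. -/
theorem no_fixed [Finite V] (hcard : Nat.card V ≤ 256) {x : V} (hx : ∀ i, U i x = x) (hmove : ∀ i, A i x ≠ x)
    (hk : ∀ i, ∃ k, R.dl i k = x) (i : Fin 3) (v : V) (hv : A i v = v) : v = 0 := by
  classical
  have hp : ∀ i, R.pr i x ≠ 0 := fun i e => hmove i (by
    have h := congrArg (A i) e
    simp only [pr, map_add, R.A3, map_zero] at h
    have e' : A i (A i x) = x := by
      calc A i (A i x) = A i (A i x) + (x + x) := by rw [add_self', add_zero]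
        _ = (A i (A i x) + x) + x := by abel
        _ = x := by rw [h, zero_add]
    calc A i x = A i (A i (A i x)) := by rw [e']
      _ = x := R.A3 i x)
  have two_zero : ∀ {i j k : Fin 3}, i ≠ j → k ≠ i → k ≠ j → R.pr i (R.pr j x) ≠ 0 →
      R.pr k (R.pr i (R.pr j x)) = 0 → False := by
    intro i j k hij hki hkj hy hky
    set y := R.pr i (R.pr j x) with hydef
    obtain ⟨k0, hk0⟩ := hk k
    set w := R.pr i (R.pr j k0) + R.pr k (R.pr i (R.pr j k0)) with hw
    have yfix : ∀ l, U l y = y := fun l => by rw [hydef, R.U_pr, R.U_pr, hx]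
    have pyi : R.pr i y = y := by rw [hydef, R.pr_idem]
    have pyj : R.pr j y = y := by rw [hydef, R.pr_pr i j, R.pr_idem]
    have dwy : R.dl k w = y := by
      have e : ∀ v, R.dl k (R.pr k v) = R.pr k (R.dl k v) := fun v => by
        simp only [dl, R.pr_add, R.U_pr k k v]
      rw [hw, R.dl_add, e, R.dl_pr k i hki, R.dl_pr k j hkj, hk0, ← hydef, hky, add_zero]
    have pkw : R.pr k w = 0 := by rw [hw, R.pr_add, R.pr_idem, add_self']
    let T : Fin 9 → V := ![y, A i y, A j y, A i (A j y), w, A i w, A j w, A i (A j w), x]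
    refine false_of_nine hcard T (Fintype.linearIndependent_iff.2 fun c hc => ?_)
    simp only [T, Fin.sum_univ_succ, Fin.sum_univ_zero, Matrix.cons_val_zero, Matrix.cons_val_succ,
      add_zero] at hc
    have hc8 : c 8 = 0 := by
      have h := congrArg (R.pr k) hc
      simp only [R.pr_add, R.pr_smul, R.pr_A, hky, pkw, map_zero, smul_zero, zero_add, R.pr_zero] at h
      exact R.smul_eq_zero' (hp k) h
    have dk : ∀ v, R.dl k (A i v) = A i (R.dl k v) ∧ R.dl k (A j v) = A j (R.dl k v) := fun v =>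
      ⟨R.dl_A k i hki v, R.dl_A k j hkj v⟩
    have h4 := congrArg (R.dl k) hc
    simp only [R.dl_add, R.dl_smul, (dk _).1, (dk _).2, R.dl_fix k y (yfix k), dwy, R.dl_fix k x (hx k), map_zero,
      smul_zero, zero_add, add_zero, R.dl_zero] at h4
    obtain ⟨c4, c5, c6, c7⟩ := R.detect_four hij hy (yfix i) (yfix j) pyi pyj
      (c₀ := c 4) (c₁ := c 5) (c₂ := c 6) (c₃ := c 7) (Eq.trans (by simp [add_assoc]) h4)
    obtain ⟨c0, c1, c2, c3⟩ := R.detect_four hij hy (yfix i) (yfix j) pyi pyj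
      (c₀ := c 0) (c₁ := c 1) (c₂ := c 2) (c₃ := c 3) (Eq.trans (by
        have e4 : c (Fin.succ (Fin.succ (Fin.succ (Fin.succ 0)))) = 0 := c4
        have e5 : c (Fin.succ (Fin.succ (Fin.succ (Fin.succ (Fin.succ 0))))) = 0 := c5
        have e6 : c (Fin.succ (Fin.succ (Fin.succ (Fin.succ (Fin.succ (Fin.succ 0)))))) = 0 := c6
        have e7 : c (Fin.succ (Fin.succ (Fin.succ (Fin.succ (Fin.succ (Fin.succ (Fin.succ 0))))))) = 0 := c7
        have e8 : c (Fin.succ (Fin.succ (Fin.succ (Fin.succ (Fin.succ (Fin.succ (Fin.succ (Fin.succ 0)))))))) = 0 :=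
          hc8
        simp only [e4, e5, e6, e7, e8, zero_smul, add_zero, add_assoc]
        rfl) hc)
    intro l
    fin_cases l
    exacts [c0, c1, c2, c3, c4, c5, c6, c7, hc8]
  have all3 : R.pr 0 (R.pr 1 (R.pr 2 x)) ≠ 0 := by
    intro h3
    have p01 : R.pr 0 (R.pr 1 x) = 0 := by
      by_contra h
      exact two_zero (i := 0) (j := 1) (k := 2) (by decide) (by decide) (by decide) h
        (by rw [R.pr_pr 2 0, R.pr_pr 2 1]; exact h3)
    have p12 : R.pr 1 (R.pr 2 x) = 0 := by
      by_contra h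
      exact two_zero (i := 1) (j := 2) (k := 0) (by decide) (by decide) (by decide) h h3
    have p02 : R.pr 0 (R.pr 2 x) = 0 := by
      by_contra h
      exact two_zero (i := 0) (j := 2) (k := 1) (by decide) (by decide) (by decide) h
        (by rw [R.pr_pr 1 0]; exact h3)
    have pp : ∀ i j, i ≠ j → R.pr i (R.pr j x) = 0 := by
      intro i j hij
      rcases (show (i = 0 ∧ j = 1) ∨ (i = 1 ∧ j = 0) ∨ (i = 0 ∧ j = 2) ∨ (i = 2 ∧ j = 0) ∨ (i = 1 ∧ j = 2) ∨
        (i = 2 ∧ j = 1) by revert i j; decide) with ⟨rfl, rfl⟩ | ⟨rfl, rfl⟩ | ⟨rfl, rfl⟩ | ⟨rfl, rfl⟩ | ⟨rfl, rfl⟩ |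
        ⟨rfl, rfl⟩
      exacts [p01, (R.pr_pr 1 0 x).trans p01, p02, (R.pr_pr 2 0 x).trans p02, p12, (R.pr_pr 2 1 x).trans p12]
    -- a preimage living in a single component
    have hw : ∀ i, ∃ w, R.dl (i + 1) w = R.pr i x ∧ R.pr i w = w ∧ R.pr (i + 1) w = 0 ∧ R.pr (i + 2) w = 0 := by
      intro i
      have n1 : i + 1 ≠ i := by revert i; decide
      have n2 : i + 1 ≠ i + 2 := by revert i; decide
      obtain ⟨k0, hk0⟩ := hk (i + 1)
      set w1 := R.pr i k0 + R.pr (i + 1) (R.pr i k0) with hw1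
      have e : ∀ v, R.dl (i + 1) (R.pr (i + 1) v) = R.pr (i + 1) (R.dl (i + 1) v) := fun v => by
        simp only [dl, R.pr_add, R.U_pr (i + 1) (i + 1) v]
      have a1 : R.dl (i + 1) w1 = R.pr i x := by
        rw [hw1, R.dl_add, e, R.dl_pr (i + 1) i n1, hk0, pp (i + 1) i n1, add_zero]
      have a2 : R.pr i w1 = w1 := by rw [hw1, R.pr_add, R.pr_idem, R.pr_pr i (i + 1), R.pr_idem]
      have a3 : R.pr (i + 1) w1 = 0 := by rw [hw1, R.pr_add, R.pr_idem, add_self']
      refine ⟨w1 + R.pr (i + 2) w1, ?_, ?_, ?_, ?_⟩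
      · rw [R.dl_add, R.dl_pr (i + 1) (i + 2) n2, a1, pp (i + 2) i (idx2 i), add_zero]
      · rw [R.pr_add, R.pr_pr i (i + 2), a2]
      · rw [R.pr_add, R.pr_pr (i + 1) (i + 2), a3, R.pr_zero, add_zero]
      · rw [R.pr_add, R.pr_idem, add_self']
    choose w hw1 hw2 hw3 hw4 using hw
    let Y : Fin 3 → V := fun i => R.pr i x
    let T : Fin 9 → V :=
      ![Y 0, A 0 (Y 0), w 0, A 0 (w 0), Y 1, A 1 (Y 1), w 1, A 1 (w 1), Y 2]
    refine false_of_nine hcard T (Fintype.linearIndependent_iff.2 fun c hc => ?_)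
    simp only [T, Fin.sum_univ_succ, Fin.sum_univ_zero, Matrix.cons_val_zero, Matrix.cons_val_succ,
      add_zero] at hc
    -- each block on its own
    have kill : ∀ i j, i ≠ j → R.pr i (Y j) = 0 := fun i j h => pp i j h
    have self : ∀ i, R.pr i (Y i) = Y i := fun i => R.pr_idem i x
    have killw : ∀ i j, i ≠ j → R.pr i (w j) = 0 := by
      intro i j h
      rcases (show i = j + 1 ∨ i = j + 2 by revert i j; decide) with rfl | rfl
      exacts [hw3 j, hw4 j]
    have block : ∀ (i : Fin 3) (a b d e : ZMod 2),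
        a • Y i + b • A i (Y i) + d • w i + e • A i (w i) = 0 → a = 0 ∧ b = 0 ∧ d = 0 ∧ e = 0 := by
      intro i a b d e h
      have hne : i + 1 ≠ i := idx1 i
      have hY : R.dl (i + 1) (Y i) = 0 := by
        show R.dl (i + 1) (R.pr i x) = 0
        rw [R.dl_pr _ i hne, R.dl_fix _ x (hx _), R.pr_zero]
      have hdA : ∀ v, R.dl (i + 1) (A i v) = A i (R.dl (i + 1) v) := R.dl_A _ i hne
      have hYi : R.dl i (Y i) = 0 := R.dl_fix i _ (by show U i (R.pr i x) = _; rw [R.U_pr, hx])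
      have hYA : R.dl i (A i (Y i)) = Y i := by
        rw [R.dl_A_fix i _ (by show U i (R.pr i x) = _; rw [R.U_pr, hx])]
        exact self i
      have h1 := congrArg (R.dl (i + 1)) h
      simp only [R.dl_add, R.dl_smul, hdA, hY, show R.dl (i + 1) (w i) = Y i from hw1 i, map_zero, smul_zero,
        zero_add, R.dl_zero] at h1
      have he : e = 0 := by
        have := congrArg (R.dl i) h1
        simp only [R.dl_add, R.dl_smul, hYi, hYA, smul_zero, zero_add, R.dl_zero] at this
        exact R.smul_eq_zero' (hp i) this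
      subst he
      simp only [zero_smul, add_zero] at h1
      have hd : d = 0 := R.smul_eq_zero' (hp i) h1
      subst hd
      have hb : b = 0 := by
        have := congrArg (R.dl i) h
        simp only [R.dl_add, R.dl_smul, hYi, hYA, smul_zero, zero_smul, add_zero, zero_add, R.dl_zero] at this
        exact R.smul_eq_zero' (hp i) this
      subst hb
      simp only [zero_smul, add_zero] at h
      exact ⟨R.smul_eq_zero' (hp i) h, rfl, rfl, rfl⟩
    have h0 := congrArg (R.pr 0) hc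
    have h1 := congrArg (R.pr 1) hc
    have h2 := congrArg (R.pr 2) hc
    simp only [R.pr_add, R.pr_smul, R.pr_A, self, show ∀ i, R.pr i (w i) = w i from hw2,
      kill 0 1 (by decide), kill 0 2 (by decide), killw 0 1 (by decide), map_zero, smul_zero, add_zero,
      zero_add, R.pr_zero] at h0
    simp only [R.pr_add, R.pr_smul, R.pr_A, self, show ∀ i, R.pr i (w i) = w i from hw2,
      kill 1 0 (by decide), kill 1 2 (by decide), killw 1 0 (by decide), map_zero, smul_zero, add_zero,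
      zero_add, R.pr_zero] at h1
    simp only [R.pr_add, R.pr_smul, R.pr_A, self, show ∀ i, R.pr i (w i) = w i from hw2,
      kill 2 0 (by decide), kill 2 1 (by decide), killw 2 0 (by decide), killw 2 1 (by decide), map_zero,
      smul_zero, add_zero, zero_add, R.pr_zero] at h2
    obtain ⟨c0, c1, c2, c3⟩ := block 0 (c 0) (c 1) (c 2) (c 3) (Eq.trans (by simp only [add_assoc]; rfl) h0)
    obtain ⟨c4, c5, c6, c7⟩ := block 1 (c 4) (c 5) (c 6) (c 7) (Eq.trans (by simp only [add_assoc]; rfl) h1)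
    have c8 := R.smul_eq_zero' (hp 2) h2
    intro l
    fin_cases l
    exacts [c0, c1, c2, c3, c4, c5, c6, c7, c8]
  -- with all three components present every rotation is fixed point free
  obtain ⟨j, k, hji, hki, hkj⟩ := idx_others i
  by_contra hne
  set y := R.pr i (R.pr j (R.pr k x)) with hydef
  have hy : y ≠ 0 := by
    intro h
    apply all3
    rcases idx_six i j k hji hki hkj with ⟨rfl, rfl, rfl⟩ | ⟨rfl, rfl, rfl⟩ | ⟨rfl, rfl, rfl⟩ | ⟨rfl, rfl, rfl⟩ |
      ⟨rfl, rfl, rfl⟩ | ⟨rfl, rfl, rfl⟩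
    · exact h
    · rw [← h, hydef, R.pr_pr 1 2]
    · rw [← h, hydef, R.pr_pr 0 1]
    · rw [← h, hydef, R.pr_pr 2 0, R.pr_pr 1 0]
    · rw [← h, hydef, R.pr_pr 1 2, R.pr_pr 0 2]
    · rw [← h, hydef, R.pr_pr 1 0, R.pr_pr 2 0, R.pr_pr 2 1]
  have yfix : ∀ l, U l y = y := fun l => by rw [hydef, R.U_pr, R.U_pr, R.U_pr, hx]
  have pyi : R.pr i y = y := by rw [hydef, R.pr_idem]
  have pyj : R.pr j y = y := by rw [hydef, R.pr_pr j i, R.pr_idem]
  have pyk : R.pr k y = y := by rw [hydef, R.pr_pr k i, R.pr_pr k j, R.pr_idem]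
  have pv : R.pr i v = 0 := by rw [pr, hv, hv, add_self']
  let T : Fin 9 → V := ![y, A i y, A j y, A i (A j y), A k y, A i (A k y), A j (A k y), A i (A j (A k y)), v]
  refine false_of_nine hcard T (Fintype.linearIndependent_iff.2 fun c hc => ?_)
  simp only [T, Fin.sum_univ_succ, Fin.sum_univ_zero, Matrix.cons_val_zero, Matrix.cons_val_succ,
    add_zero] at hc
  have h1 := congrArg (R.pr i) hc
  simp only [R.pr_add, R.pr_smul, R.pr_A, pyi, pv, smul_zero, add_zero, R.pr_zero] at h1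
  have h4 := congrArg (R.dl k) h1
  have dk1 : ∀ w, R.dl k (A i w) = A i (R.dl k w) := R.dl_A k i hki
  have dk2 : ∀ w, R.dl k (A j w) = A j (R.dl k w) := R.dl_A k j hkj
  have dkk : R.dl k (A k y) = y := by rw [R.dl_A_fix k y (yfix k), pyk]
  simp only [R.dl_add, R.dl_smul, dk1, dk2, dkk, R.dl_fix k y (yfix k), map_zero, smul_zero, zero_add,
    add_zero, R.dl_zero] at h4
  obtain ⟨c4, c5, c6, c7⟩ := R.detect_four hji.symm hy (yfix i) (yfix j) pyi pyj
    (c₀ := c 4) (c₁ := c 5) (c₂ := c 6) (c₃ := c 7) (Eq.trans (by simp only [add_assoc]; rfl) h4)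
  have e4 : c (Fin.succ (Fin.succ (Fin.succ (Fin.succ 0)))) = 0 := c4
  have e5 : c (Fin.succ (Fin.succ (Fin.succ (Fin.succ (Fin.succ 0))))) = 0 := c5
  have e6 : c (Fin.succ (Fin.succ (Fin.succ (Fin.succ (Fin.succ (Fin.succ 0)))))) = 0 := c6
  have e7 : c (Fin.succ (Fin.succ (Fin.succ (Fin.succ (Fin.succ (Fin.succ (Fin.succ 0))))))) = 0 := c7
  simp only [e4, e5, e6, e7, zero_smul, add_zero] at h1
  obtain ⟨c0, c1, c2, c3⟩ := R.detect_four hji.symm hy (yfix i) (yfix j) pyi pyj
    (c₀ := c 0) (c₁ := c 1) (c₂ := c 2) (c₃ := c 3) (Eq.trans (by simp only [add_assoc]; rfl) h1)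
  have e1 : c (Fin.succ 0) = 0 := c1
  have e2 : c (Fin.succ (Fin.succ 0)) = 0 := c2
  have e3 : c (Fin.succ (Fin.succ (Fin.succ 0))) = 0 := c3
  simp only [c0, e1, e2, e3, e4, e5, e6, e7, zero_smul, zero_add] at hc
  have c8 := R.smul_eq_zero' hne hc
  intro l
  fin_cases l
  exacts [c0, c1, c2, c3, c4, c5, c6, c7, c8]

end Rels

end Linear

end Cfsg.Agent.Omega8Rec

namespace Cfsg.Agent.Omega8Rec

open Subgroup Equiv
open Cfsg.Agent.LargeExtra
open scoped commutatorElement

namespace Meet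

variable {G : Type*} [Group G] [Finite G] {Q : Subgroup G} {t g : G} (M : Meet Q t g)
include M

/-- An element of order three centralizing both involutions is trivial. -/
theorem no_three {c : G} (hct : c * t = t * c) (hcx : c * M.x = M.x * c) (h3 : c ^ 3 = 1) : c = 1 := by
  set C' := centralizer ({g * t * g⁻¹} : Set G)
  have hcC : c ∈ C' := LargeExtra.mem_centralizer_one.2 hcx
  set c' : C' := ⟨c, hcC⟩
  set π := (M.S.conj g).proj
  set U' := ((Q ⊓ C').subgroupOf C').map π with hU'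
  obtain ⟨hp, h2⟩ := card_aux (Q₁ := Q) (M.S.conj g) M.S.h.xs.1.1
  have h8 : Nat.card U' = 8 := by
    refine le_antisymm (Nat.le_of_dvd (by norm_num) (card_two_le hp)) ?_
    have h3 := (M.S.card_fix M.mem).trans h2
    change 256 ≤ Nat.card ↥M.K * Nat.card U' at h3
    rw [M.K_card] at h3
    omega
  obtain ⟨σ', h1, h2', h3'⟩ := exists_sigma hp h8
  have hτ : ∀ i, π c' i = 1 := by
    intro i
    obtain ⟨u, hu, eu⟩ := h2' i
    have hmem : c' * u * c'⁻¹ ∈ (Q ⊓ C').subgroupOf C' :=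
      ⟨LargeExtra.conj_mem (M.S.norm_of_comm hct) hu.1, (c' * u * c'⁻¹).2⟩
    have hv := h3' _ ⟨_, hmem, rfl⟩ i
    rw [map_mul, map_mul, map_inv, Pi.mul_apply, Pi.mul_apply, Pi.inv_apply,
      show π u i = σ' i by rw [show π u = Pi.mulSingle i (σ' i) from eu, Pi.mulSingle_eq_same]] at hv
    refine perm_fix_inv (σ' i) (π c' i) (h1 i).1 (h1 i).2 ?_ ?_
    · rcases hv with hv | hv
      · exact absurd (conj_eq_one_iff.1 hv) (h1 i).1
      · exact mul_inv_eq_iff_eq_mul.1 hv
    · have : c' ^ 3 = 1 := Subtype.ext (by simpa using h3)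
      have := congrFun ((map_pow π c' 3).symm.trans (by rw [this, map_one])) i
      rw [Pi.pow_apply, Pi.one_apply, pow_succ, pow_two] at this
      exact this
  have hQ' : c ∈ M.Q' := ((M.S.conj g).ker c').1 (funext hτ)
  obtain ⟨n, hn⟩ := M.h'.xs.1.1 ⟨c, hQ'⟩
  have hn' : c ^ (2 ^ n) = 1 := congrArg Subtype.val hn
  have := (pow_gcd_eq_one (a := c)).2 ⟨hn', h3⟩
  rwa [(Nat.Coprime.pow_left n (by decide : Nat.Coprime 2 3)).gcd_eq_one, pow_one] at this

theorem fpf : M.S.Fpf := by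
  classical
  haveI : Fact (Nat.Prime 2) := ⟨Nat.prime_two⟩
  set C := centralizer ({t} : Set G)
  set S := M.S
  let N : Subgroup Q := (zpowers t).subgroupOf Q
  have hNc : ∀ n : Q, n ∈ N ↔ (n : G) = 1 ∨ (n : G) = t := fun n => by
    rw [mem_subgroupOf, S.h.mem_zpowers_iff]
  haveI hN : N.Normal := ⟨fun n hn q => by
    rw [hNc] at hn ⊢
    rcases hn with e | e <;> simp only [coe_mul, coe_inv, e]
    · left; group
    · right; rw [S.h.comm q.2, mul_inv_cancel_right]⟩
  have hcomm : ∀ a b : Q ⧸ N, a * b = b * a := by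
    intro a b
    induction a using QuotientGroup.induction_on with | H a =>
    induction b using QuotientGroup.induction_on with | H b =>
    rw [← QuotientGroup.mk_mul, ← QuotientGroup.mk_mul, QuotientGroup.eq, hNc]
    rcases S.h.comm_cases (inv_mem b.2) (inv_mem a.2) with e | e
    · left; rw [← e]; simp [commutatorElement_def]; group
    · right; rw [← e]; simp [commutatorElement_def]; group
  letI : CommGroup (Q ⧸ N) := { (inferInstance : Group (Q ⧸ N)) with mul_comm := hcomm }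
  have hexp : ∀ v : Additive (Q ⧸ N), 2 • v = 0 := by
    intro v
    obtain ⟨q, hq⟩ := QuotientGroup.mk_surjective v.toMul
    apply Additive.toMul.injective
    rw [toMul_nsmul, ← hq, toMul_zero, ← QuotientGroup.mk_pow, QuotientGroup.eq_one_iff, hNc, pow_two]
    exact S.h.sq_cases q.2
  letI : Module (ZMod 2) (Additive (Q ⧸ N)) := AddCommGroup.zmodModule hexp
  have hnm : ∀ (c : C) {q : G}, q ∈ Q → (c : G) * q * (c : G)⁻¹ ∈ Q := fun c q hq =>
    LargeExtra.conj_mem (S.norm_of_comm (LargeExtra.mem_centralizer_one.1 c.2)) hq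
  let f : C → (Q ⧸ N →* Q ⧸ N) := fun c => QuotientGroup.map N N
    { toFun := fun q => ⟨(c : G) * q * (c : G)⁻¹, hnm c q.2⟩
      map_one' := Subtype.ext (by simp)
      map_mul' := fun a b => Subtype.ext (by simp only [coe_mul]; group) }
    (fun n hn => by
      rw [hNc] at hn
      rw [mem_comap, hNc]
      rcases hn with e | e
      · left; simp [e]
      · right; simp [e, LargeExtra.mem_centralizer_one.1 c.2])
  let L : C → Additive (Q ⧸ N) →ₗ[ZMod 2] Additive (Q ⧸ N) := fun c => (f c).toAdditive.toZModLinearMap 2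
  have hL : ∀ (c : C) (q : Q), L c (Additive.ofMul (q : Q ⧸ N)) =
      Additive.ofMul (((⟨(c : G) * q * (c : G)⁻¹, hnm c q.2⟩ : Q)) : Q ⧸ N) := fun c q => rfl
  have hLd : ∀ c d : C, S.proj c = S.proj d → ∀ v, L c v = L d v := by
    intro c d e v
    obtain ⟨q, hq⟩ := QuotientGroup.mk_surjective v.toMul
    rw [← ofMul_toMul v, ← hq, hL, hL]
    refine congrArg Additive.ofMul (QuotientGroup.eq.2 ((hNc _).2 ?_))
    have hk : ((d⁻¹ * c : C) : G) ∈ Q := (S.ker _).1 (by rw [map_mul, map_inv, e, inv_mul_cancel])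
    rcases S.h.conj_cases hk (inv_mem q.2) with e' | e'
    · left
      simp only [coe_mul, coe_inv] at e' ⊢
      calc _ = (d : G) * ((d : G)⁻¹ * c * (q : G)⁻¹ * ((d : G)⁻¹ * c)⁻¹ * q) * (d : G)⁻¹ := by group
        _ = 1 := by rw [e', inv_mul_cancel]; group
    · right
      simp only [coe_mul, coe_inv] at e' ⊢
      calc _ = (d : G) * ((d : G)⁻¹ * c * (q : G)⁻¹ * ((d : G)⁻¹ * c)⁻¹ * q) * (d : G)⁻¹ := by group
        _ = t := by
          rw [e', mul_assoc (q : G)⁻¹ t, ← S.h.comm q.2, inv_mul_cancel_left,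
            LargeExtra.mem_centralizer_one.1 d.2, mul_inv_cancel_right]
  have hLm : ∀ c d : C, ∀ v, L c (L d v) = L (c * d) v := by
    intro c d v
    obtain ⟨q, hq⟩ := QuotientGroup.mk_surjective v.toMul
    rw [← ofMul_toMul v, ← hq, hL, hL, hL]
    refine congrArg (fun z : Q => Additive.ofMul (z : Q ⧸ N)) (Subtype.ext ?_)
    simp only [coe_mul]; group
  have hL1 : ∀ v, L 1 v = v := by
    intro v
    obtain ⟨q, hq⟩ := QuotientGroup.mk_surjective v.toMul
    rw [← ofMul_toMul v, ← hq, hL]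
    exact congrArg (fun z : Q => Additive.ofMul (z : Q ⧸ N)) (Subtype.ext (by simp))
  obtain ⟨σ, hσ, hu, -⟩ := M.exists_inv
  choose a ha using fun i : Fin 3 => S.surj (Pi.mulSingle i (finRotate 3))
  choose u huQ hu' using hu
  have R : Rels (fun i => L (a i)) (fun i => L (u i)) := by
    refine ⟨fun i v => ?_, fun i v => ?_, fun i v => ?_, fun i j v => ?_, fun i j v h => ?_⟩
    · show L (a i) (L (a i) (L (a i) v)) = v
      rw [hLm, hLm, hLd (a i * a i * a i) 1 (by
        rw [map_mul, map_mul, map_one, ha, ← Pi.mulSingle_mul, ← Pi.mulSingle_mul,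
          show finRotate 3 * finRotate 3 * finRotate 3 = 1 by decide, Pi.mulSingle_one]), hL1]
    · show L (u i) (L (u i) v) = v
      rw [hLm, hLd (u i * u i) 1 (by rw [map_mul, map_one, hu', ← Pi.mulSingle_mul, (hσ i).2, Pi.mulSingle_one]),
        hL1]
    · show L (u i) (L (a i) v) = L (a i) (L (a i) (L (u i) v))
      rw [hLm, hLm, hLm]
      exact hLd _ _ (by
        rw [map_mul, map_mul, map_mul, hu', ha, ← Pi.mulSingle_mul, ← Pi.mulSingle_mul, ← Pi.mulSingle_mul,
          perm_inv_rot _ (hσ i).1 (hσ i).2, mul_assoc]) v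
    · show L (a i) (L (a j) v) = L (a j) (L (a i) v)
      rw [hLm, hLm]
      refine hLd _ _ ?_ v
      rw [map_mul, map_mul, ha, ha]
      rcases eq_or_ne i j with rfl | hij
      · rfl
      · exact (Pi.mulSingle_commute (f := fun _ : Fin 3 => Perm (Fin 3)) hij _ _).eq
    · show L (u i) (L (a j) v) = L (a j) (L (u i) v)
      rw [hLm, hLm]
      refine hLd _ _ ?_ v
      rw [map_mul, map_mul, ha, hu']
      exact (Pi.mulSingle_commute (f := fun _ : Fin 3 => Perm (Fin 3)) h _ _).eq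
  haveI : Finite (Additive (Q ⧸ N)) := inferInstanceAs (Finite (Q ⧸ N))
  have hcard : Nat.card (Additive (Q ⧸ N)) ≤ 256 := by
    have h1 : Nat.card Q = Nat.card (Q ⧸ N) * Nat.card N := card_eq_card_quotient_mul_card_subgroup N
    have h2 : Nat.card N = 2 := by
      rw [Nat.card_congr (subgroupOfEquivOfLe (zpowers_le.2 S.h.mem)).toEquiv, Nat.card_zpowers, S.h.orderOf_eq]
    rw [S.card, h2] at h1
    have : Nat.card (Q ⧸ N) = 256 := by omega
    exact le_of_eq this
  set xq : Q := ⟨M.x, M.mem⟩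
  set x : Additive (Q ⧸ N) := Additive.ofMul (xq : Q ⧸ N)
  have hx : ∀ i, L (u i) x = x := fun i => by
    rw [show x = Additive.ofMul (xq : Q ⧸ N) from rfl, hL]
    refine congrArg (fun z : Q => Additive.ofMul (z : Q ⧸ N)) (Subtype.ext ?_)
    show (u i : G) * M.x * (u i : G)⁻¹ = M.x
    rw [M.h'.comm (huQ i), mul_inv_cancel_right]
  have hmove : ∀ i, L (a i) x ≠ x := by
    intro i e
    rw [show x = Additive.ofMul (xq : Q ⧸ N) from rfl, hL] at e
    have e' := (hNc _).1 (QuotientGroup.eq.1 (Additive.ofMul.injective e))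
    simp only [coe_mul, coe_inv] at e'
    change ((a i : G) * M.x * (a i : G)⁻¹)⁻¹ * M.x = 1 ∨ ((a i : G) * M.x * (a i : G)⁻¹)⁻¹ * M.x = t at e'
    obtain ⟨q, hq, eq⟩ := S.h.exists_conj M.mem M.x_ne_one M.ne
    -- correct the lift to fix x
    obtain ⟨c, hc, hcx⟩ : ∃ c : C, S.proj c = Pi.mulSingle i (finRotate 3) ∧ (c : G) * M.x = M.x * c := by
      rcases e' with e' | e'
      · exact ⟨a i, ha i, mul_inv_eq_iff_eq_mul.1 (inv_mul_eq_one.1 e')⟩
      · refine ⟨⟨q, S.mem_C hq⟩ * a i, by rw [map_mul, (S.ker _).2 hq, one_mul, ha], ?_⟩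
        have e2 : (a i : G) * M.x * (a i : G)⁻¹ = M.x * t := by
          rw [inv_mul_eq_iff_eq_mul] at e'
          calc (a i : G) * M.x * (a i : G)⁻¹ = (a i : G) * M.x * (a i : G)⁻¹ * t * t := by
                rw [mul_assoc _ t, S.h.sq, mul_one]
            _ = M.x * t := by rw [← e']
        refine mul_inv_eq_iff_eq_mul.1 ?_
        show q * (a i : G) * M.x * (q * (a i : G))⁻¹ = M.x
        calc q * (a i : G) * M.x * (q * (a i : G))⁻¹ = q * ((a i : G) * M.x * (a i : G)⁻¹) * q⁻¹ := by group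
          _ = q * M.x * q⁻¹ * (q * t * q⁻¹) := by rw [e2]; group
          _ = M.x := by rw [show q * M.x * q⁻¹ = M.x * t from eq, S.h.comm hq, mul_inv_cancel_right, mul_assoc, S.h.sq, mul_one]
    have h3Q : ((c ^ 3 : C) : G) ∈ Q := (S.ker _).1 (by
      rw [map_pow, hc, ← Pi.mulSingle_pow, perm_rot_pow.1, Pi.mulSingle_one])
    have hq9 : ((c : G) ^ 3) ^ (2 ^ 9) = 1 := by
      have := pow_card_eq_one' (G := Q) (x := ⟨_, h3Q⟩)
      rw [S.card] at this
      simpa using congrArg Subtype.val this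
    have hd := M.no_three (c := (c : G) ^ (2 ^ 9))
      ((show Commute (c : G) t from LargeExtra.mem_centralizer_one.1 c.2).pow_left _)
      ((show Commute (c : G) M.x from hcx).pow_left _) (by rw [← pow_mul, mul_comm, pow_mul]; exact hq9)
    have : S.proj (c ^ (2 ^ 9)) = 1 := by
      rw [show c ^ (2 ^ 9) = 1 from Subtype.ext (by simpa using hd), map_one]
    rw [map_pow, hc, ← Pi.mulSingle_pow, Pi.mulSingle_eq_one_iff] at this
    have h1 := (pow_gcd_eq_one (a := finRotate 3)).2 ⟨perm_rot_pow.1, this⟩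
    rw [show Nat.gcd 3 (2 ^ 9) = 1 by rfl, pow_one] at h1
    exact perm_rot_pow.2 h1
  have hk : ∀ i, ∃ k, (fun v => v + L (u i) v) k = x := by
    intro i
    have hnQ : (u i : G) ∉ Q := fun h => by
      have := (S.ker (u i)).2 h
      rw [hu', Pi.mulSingle_eq_one_iff] at this
      exact (hσ i).1 this
    obtain ⟨k, hk, e⟩ := M.exists_moved (huQ i) hnQ
    refine ⟨Additive.ofMul ((⟨k, hk.1⟩ : Q) : Q ⧸ N), ?_⟩
    show _ + L (u i) _ = x
    rw [hL, show x = Additive.ofMul (xq : Q ⧸ N) from rfl, ← ofMul_mul, ← QuotientGroup.mk_mul]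
    refine congrArg (fun z : Q => Additive.ofMul (z : Q ⧸ N)) (Subtype.ext ?_)
    show k * ((u i : G) * k * (u i : G)⁻¹) = M.x
    rw [e, ← mul_assoc, M.K_sq hk, one_mul]
  intro i c _ hcπ q hq e
  have := R.no_fixed hcard hx hmove hk i (Additive.ofMul ((⟨q, hq⟩ : Q) : Q ⧸ N)) (by
    show L (a i) _ = _
    rw [hLd (a i) c (by rw [ha, hcπ]), hL]
    refine congrArg (fun z : Q => Additive.ofMul (z : Q ⧸ N)) (Subtype.ext ?_)
    show (c : G) * q * (c : G)⁻¹ = q
    rw [e, mul_inv_cancel_right])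
  exact (hNc _).1 ((QuotientGroup.eq_one_iff _).1 (Additive.ofMul.injective (this.trans ofMul_one.symm)))

end Meet

/-- The setting from the hypotheses of the recognition theorem. -/
theorem exists_meet {G : Type*} [Group G] [Finite G] (hG : Cfsg.pResidual 2 G = ⊤) {t : G} (ht : orderOf t = 2)
    {C : Subgroup G} (hC : C = Subgroup.centralizer ({t} : Set G))
    (hF : Cfsg.IsExtraspecial 2 (Cfsg.generalizedFittingSubgroup C))
    (hFcard : Nat.card (Cfsg.generalizedFittingSubgroup C) = 2 ^ 9)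
    (e : C ⧸ Cfsg.pCore 2 C ≃* Equiv.Perm (Fin 3) × Equiv.Perm (Fin 3) × Equiv.Perm (Fin 3))
    (hcc : Subgroup.centralizer (((Cfsg.pCore 2 C).map C.subtype : Subgroup G) : Set G) ≤
      (Cfsg.pCore 2 C).map C.subtype) :
    ∃ g, Nonempty (Meet ((Cfsg.pCore 2 C).map C.subtype) t g) := by
  obtain ⟨x, hx, hxt, hconj⟩ := exists_conj_mem_core hG ht hC hF hFcard e hcc
  obtain ⟨g, rfl⟩ := isConj_iff.1 hconj
  have h := xsLocal ht hC hF hcc
  subst hC
  let ι : Perm (Fin 3) × Perm (Fin 3) × Perm (Fin 3) →* P3 :=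
    { toFun := fun p => ![p.1, p.2.1, p.2.2]
      map_one' := by funext j; fin_cases j <;> rfl
      map_mul' := fun p q => by funext j; fin_cases j <;> rfl }
  have hι : Function.Injective ι := fun p q h => by
    have h0 := congrFun h 0
    have h1 := congrFun h 1
    have h2 := congrFun h 2
    exact Prod.ext h0 (Prod.ext h1 h2)
  have hιs : Function.Surjective ι := fun v => ⟨(v 0, v 1, v 2), by funext j; fin_cases j <;> rfl⟩
  refine ⟨g, ⟨⟨⟨h, ?_, ι.comp (e.toMonoidHom.comp (QuotientGroup.mk' _)), ?_, ?_⟩, hx, hxt⟩⟩⟩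
  · rw [card_map_of_injective (Subgroup.subtype_injective _), ← fstar_eq_pCore hcc, hFcard]
  · exact hιs.comp (e.surjective.comp (QuotientGroup.mk'_surjective _))
  · intro c
    have h1 : ι (e (QuotientGroup.mk' (Cfsg.pCore 2 _) c)) = 1 ↔ QuotientGroup.mk' (Cfsg.pCore 2 _) c = 1 := by
      rw [map_eq_one_iff ι hι, EmbeddingLike.map_eq_one_iff]
    refine h1.trans ?_
    rw [QuotientGroup.mk'_apply, QuotientGroup.eq_one_iff]
    exact ⟨fun hc => ⟨c, hc, rfl⟩, fun ⟨d, hd, ed⟩ => Subtype.ext ed ▸ hd⟩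

end Cfsg.Agent.Omega8Rec
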