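import Cfsg.Agent.Lib.Omega8Rec.Torus

/-!
A frame adapted to two commuting conjugate involutions, and the eight points of `Q`.
-/

set_option autoImplicit false
set_option linter.unusedSectionVars false
set_option linter.style.haveILetI false

namespace Cfsg.Agent.Omega8Rec

open Subgroup Equiv
open Cfsg.Agent.LargeExtra
open scoped commutatorElement

variable {G : Type*} [Group G] [Finite G]

theorem three : ∀ i j k l : Fin 3, i ≠ j → k ≠ i → k ≠ j → l = i ∨ l = j ∨ l = k := by decide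

theorem perm_comm_rot : ∀ σ τ : Perm (Fin 3), σ * σ = 1 → σ ≠ 1 → τ ≠ 1 → τ ≠ σ →
    τ * σ * τ⁻¹ * σ⁻¹ = finRotate 3 ∨ τ * σ * τ⁻¹ * σ⁻¹ = finRotate 3 * finRotate 3 := by decide

namespace Pre

variable {Q : Subgroup G} {t : G} {S : Cent Q t} {σ : Fin 3 → Perm (Fin 3)}

/-- Conjugating a torus by an element of `Q`. -/
def conj (P : Pre S σ) {q : G} (hq : q ∈ Q) : Pre S σ where
  a i := cj q (P.a i)
  u i := cj q (P.u i)
  a_t i := by
    have e := S.h.comm hq
    calc cj q (P.a i) * t = q * P.a i * (q⁻¹ * (t * q)) * q⁻¹ := by simp only [cj]; group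
      _ = q * (P.a i * t) * q⁻¹ := by rw [← e, inv_mul_cancel_left]; group
      _ = q * t * P.a i * q⁻¹ := by rw [P.a_t i]; group
      _ = t * cj q (P.a i) := by rw [e]; simp only [cj]; group
  u_t i := by
    have e := S.h.comm hq
    calc cj q (P.u i) * t = q * P.u i * (q⁻¹ * (t * q)) * q⁻¹ := by simp only [cj]; group
      _ = q * (P.u i * t) * q⁻¹ := by rw [← e, inv_mul_cancel_left]; group
      _ = q * t * P.u i * q⁻¹ := by rw [P.u_t i]; group
      _ = t * cj q (P.u i) := by rw [e]; simp only [cj]; group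
  a3 i := by
    rw [show cj q (P.a i) * cj q (P.a i) * cj q (P.a i) = cj q (P.a i * P.a i * P.a i) by simp only [cj]; group,
      P.a3 i]
    simp [cj]
  aa i j := by
    rw [show cj q (P.a i) * cj q (P.a j) = cj q (P.a i * P.a j) by simp only [cj]; group, P.aa i j]
    simp only [cj]; group
  ua i := by
    rw [show cj (cj q (P.u i)) (cj q (P.a i)) = cj q (cj (P.u i) (P.a i)) by simp only [cj]; group, P.ua i]
    simp only [cj]; group
  ua' i j hij := by
    rw [show cj q (P.u i) * cj q (P.a j) = cj q (P.u i * P.a j) by simp only [cj]; group, P.ua' i j hij]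
    simp only [cj]; group
  u2 i := by
    rw [show cj q (P.u i) * cj q (P.u i) = cj q (P.u i * P.u i) by simp only [cj]; group]
    rcases P.u2 i with e | e <;> rw [e]
    · left; simp [cj]
    · right; rw [cj, S.h.comm hq, mul_inv_cancel_right]
  uu i j := by
    rw [show cj q (P.u i) * cj q (P.u j) * (cj q (P.u i))⁻¹ * (cj q (P.u j))⁻¹ =
      cj q (P.u i * P.u j * (P.u i)⁻¹ * (P.u j)⁻¹) by simp only [cj]; group]
    rcases P.uu i j with e | e <;> rw [e]
    · left; simp [cj]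
    · right; rw [cj, S.h.comm hq, mul_inv_cancel_right]
  fpf i r hr e := by
    have hr' : cj q⁻¹ r ∈ Q := mul_mem (mul_mem (inv_mem hq) hr) (inv_mem (inv_mem hq))
    have e' : P.a i * cj q⁻¹ r = cj q⁻¹ r * P.a i := by
      calc P.a i * cj q⁻¹ r = q⁻¹ * (cj q (P.a i) * r) * q := by simp only [cj]; group
        _ = q⁻¹ * (r * cj q (P.a i)) * q := by rw [e]
        _ = _ := by simp only [cj]; group
    rcases P.fpf i _ hr' e' with h | h
    · left; rw [show r = cj q (cj q⁻¹ r) by simp only [cj]; group, h]; simp [cj]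
    · right; rw [show r = cj q (cj q⁻¹ r) by simp only [cj]; group, h, cj, S.h.comm hq, mul_inv_cancel_right]
  pa i h := by
    have h' : P.a i ∈ centralizer ({t} : Set G) := LargeExtra.mem_centralizer_one.2 (P.a_t i)
    rw [show (⟨cj q (P.a i), h⟩ : centralizer ({t} : Set G)) =
      ⟨q, S.mem_C hq⟩ * ⟨P.a i, h'⟩ * ⟨q, S.mem_C hq⟩⁻¹ from Subtype.ext rfl, map_mul, map_mul, map_inv,
      P.pa i h', (S.ker ⟨q, S.mem_C hq⟩).2 hq]
    simp
  pu i h := by
    have h' : P.u i ∈ centralizer ({t} : Set G) := LargeExtra.mem_centralizer_one.2 (P.u_t i)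
    rw [show (⟨cj q (P.u i), h⟩ : centralizer ({t} : Set G)) =
      ⟨q, S.mem_C hq⟩ * ⟨P.u i, h'⟩ * ⟨q, S.mem_C hq⟩⁻¹ from Subtype.ext rfl, map_mul, map_mul, map_inv,
      P.pu i h', (S.ker ⟨q, S.mem_C hq⟩).2 hq]
    simp

theorem D_conj (P : Pre S σ) {q : G} (hq : q ∈ Q) (i : Fin 3) (r : G) :
    (P.conj hq).D i r = cj q (P.D i (cj q⁻¹ r)) := by
  show r⁻¹ * (cj q (P.u i) * r * (cj q (P.u i))⁻¹) = _
  simp only [D, del, cj]; group

end Pre

/-- The frame. -/
structure Frame {Q : Subgroup G} {t g : G} (M : Meet Q t g) (σ : Fin 3 → Perm (Fin 3)) extends Pre M.S σ where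
  rel : ∀ i, toPre.D i (cj (a i) M.x) = M.x
  u_Q : ∀ i, u i ∈ M.Q'
  invs : ∀ i, σ i ≠ 1 ∧ σ i * σ i = 1
  uimg : ∀ v ∈ M.U, ∀ i, v i = 1 ∨ v i = σ i

theorem exists_frame {Q : Subgroup G} {t g : G} (M : Meet Q t g) (hf : M.S.Fpf) :
    ∃ σ, Nonempty (Frame M σ) := by
  haveI : Fact (Nat.Prime 2) := ⟨Nat.prime_two⟩
  obtain ⟨σ, h1, h2, h3⟩ := M.exists_inv
  obtain ⟨P0⟩ := exists_pre M.S hf σ h1
  refine ⟨σ, ?_⟩
  have hx : M.x ∈ Q := M.mem
  -- the reflections fix x
  have split : ∀ (P : Pre M.S σ) (i : Fin 3), ∃ v ∈ M.Q', v * t = t * v ∧ v⁻¹ * P.u i ∈ Q := by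
    intro P i
    obtain ⟨⟨v, hv⟩, hv', e⟩ := h2 i
    refine ⟨v, hv', LargeExtra.mem_centralizer_one.1 hv, ?_⟩
    have hu : P.u i ∈ centralizer ({t} : Set G) := LargeExtra.mem_centralizer_one.2 (P.u_t i)
    exact (M.S.ker (⟨v, hv⟩⁻¹ * ⟨P.u i, hu⟩)).1 (by rw [map_mul, map_inv, e, P.pu i hu, inv_mul_cancel])
  have Dx : ∀ (P : Pre M.S σ) (i : Fin 3), P.D i M.x = 1 := by
    intro P i
    refine P.fixed_of_D_mem i hx ?_
    obtain ⟨v, hv, hvt, hq⟩ := split P i
    have hvx : cj v M.x = M.x := by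
      rw [cj, M.h'.comm hv, mul_inv_cancel_right]
    rw [Pre.D, del, show cj (P.u i) M.x = cj v (cj (v⁻¹ * P.u i) M.x) by simp only [cj]; group]
    have e : cj (v⁻¹ * P.u i) M.x = M.x ∨ cj (v⁻¹ * P.u i) M.x = M.x * t := M.S.h.conj_cases hq hx
    rcases e with e | e <;> rw [e]
    · rw [hvx, inv_mul_cancel]; exact one_mem _
    · rw [show cj v (M.x * t) = cj v M.x * cj v t by simp only [cj]; group, hvx, P.cjZ hvt (mem_zpowers t),
        inv_mul_cancel_left]
      exact mem_zpowers t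
  have uniform : ∀ (P : Pre M.S σ) (i : Fin 3), P.D i (cj (P.a i) M.x) = P.D 0 (cj (P.a 0) M.x) ∧
      (P.D i (cj (P.a i) M.x) = M.x ∨ P.D i (cj (P.a i) M.x) = M.x * t) := by
    intro P i
    have m : ∀ j, cj (P.a j) M.x ∈ Q := fun j => P.cj_mem (P.a_t j) hx
    have hz : ∀ j, ∃ z ∈ P.Z, M.x = P.D j (cj (P.a j) M.x) * z :=
      fun j => P.exists_eq_D j hx (by rw [Dx P j]; exact one_mem _)
    constructor
    · rcases eq_or_ne i 0 with rfl | hi
      · rfl
      have key : ∀ j k, j ≠ k → P.D j (cj (P.a j) M.x) = P.D j (P.D k (cj (P.a j * P.a k) M.x)) := by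
        intro j k hjk
        obtain ⟨z, hz', e⟩ := hz k
        conv_lhs => rw [e]
        rw [show cj (P.a j) (P.D k (cj (P.a k) M.x) * z) =
            cj (P.a j) (P.D k (cj (P.a k) M.x)) * cj (P.a j) z by simp only [cj]; group,
          P.cjZ (P.a_t j) hz', P.D_mulZ j (P.cj_mem (P.a_t j) (P.D_mem k (m k))) hz',
          ← P.D_cj k j hjk.symm]
        congr 2
        simp only [cj]; group
      rw [key i 0 hi, key 0 i hi.symm, P.aa 0 i,
        P.D_comm i 0 (P.cj_mem (by rw [mul_assoc, P.a_t 0, ← mul_assoc, P.a_t i, mul_assoc]) hx)]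
    · obtain ⟨z, hz', e⟩ := hz i
      rcases P.mem_Z.1 hz' with rfl | rfl
      · left; rw [mul_one] at e; exact e.symm
      · right
        nth_rw 2 [e]
        rw [mul_assoc, M.S.h.sq, mul_one]
  obtain ⟨P, hP⟩ : ∃ P : Pre M.S σ, ∀ i, P.D i (cj (P.a i) M.x) = M.x := by
    rcases (uniform P0 0).2 with e | e
    · exact ⟨P0, fun i => (uniform P0 i).1.trans e⟩
    obtain ⟨q, hq, eq⟩ := M.S.h.exists_conj hx M.x_ne_one M.ne
    refine ⟨P0.conj hq, fun i => ?_⟩
    rw [P0.D_conj hq, show cj q⁻¹ (cj ((P0.conj hq).a i) M.x) = cj (P0.a i) (cj q⁻¹ M.x) by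
      show cj q⁻¹ (cj (cj q (P0.a i)) M.x) = _
      simp only [cj]; group]
    have eq2 : cj q⁻¹ M.x = M.x * t := by
      have : cj q⁻¹ (M.x * t) = M.x := by rw [← eq]; simp only [cj, Meet.x]; group
      calc cj q⁻¹ M.x = cj q⁻¹ (M.x * t) * cj q⁻¹ t := by
            rw [show cj q⁻¹ (M.x * t) * cj q⁻¹ t = cj q⁻¹ (M.x * (t * t)) by simp only [cj]; group, M.S.h.sq,
              mul_one]
        _ = _ := by rw [this, P0.cjZ (M.S.h.comm (inv_mem hq)) (mem_zpowers t)]
    rw [eq2, show cj (P0.a i) (M.x * t) = cj (P0.a i) M.x * cj (P0.a i) t by simp only [cj]; group,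
      P0.cjZ (P0.a_t i) (mem_zpowers t), P0.D_mulZ i (P0.cj_mem (P0.a_t i) hx) (mem_zpowers t),
      (uniform P0 i).1, e, show cj q (M.x * t) = cj q M.x * cj q t by simp only [cj]; group,
      P0.cjZ (M.S.h.comm hq) (mem_zpowers t)]
    show q * M.x * q⁻¹ * t = M.x
    rw [eq, mul_assoc, M.S.h.sq, mul_one]
  refine ⟨{ toPre := P, rel := hP, u_Q := fun i => ?_, invs := h1, uimg := h3 }⟩
  -- the reflections lie in the second group
  obtain ⟨v, hv, hvt, hq⟩ := split P i
  suffices h : v⁻¹ * P.u i ∈ M.K by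
    have := mul_mem hv h.2
    rwa [mul_inv_cancel_left] at this
  set q := v⁻¹ * P.u i with hqdef
  refine M.mem_K hq fun k hk => ?_
  have hax := P.cj_mem (P.a_t i) hx
  -- the reflection moves k only by x
  have hD : P.D i k = 1 ∨ P.D i k = M.x := by
    rcases M.S.h.conj_cases hq hk.1 with e1 | e1 <;> rcases M.h'.conj_cases hv hk.2 with e2 | e2
    all_goals
      have hkk : cj (P.u i) k = cj v (cj q k) := by simp only [hqdef, cj]; group
      have hvt' : cj v t = t := P.cjZ hvt (mem_zpowers t)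
      first
      | (left; refine P.fixed_of_D_mem i hk.1 ?_
         rw [Pre.D, del, hkk, show cj q k = k from e1, show cj v k = k from e2, inv_mul_cancel]
         exact one_mem _)
      | (left; refine P.fixed_of_D_mem i hk.1 ?_
         rw [Pre.D, del, hkk, show cj q k = k * t from e1, show cj v (k * t) = cj v k * cj v t by
           simp only [cj]; group, show cj v k = k from e2, hvt', inv_mul_cancel_left]
         exact mem_zpowers t)
      | (right
         have hd : ∃ z ∈ P.Z, P.D i k = M.x * z := by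
           first
           | exact ⟨1, one_mem _, by
               rw [Pre.D, del, hkk, show cj q k = k from e1, show cj v k = k * M.x from e2,
                 inv_mul_cancel_left, mul_one]⟩
           | exact ⟨t, mem_zpowers t, by
               rw [Pre.D, del, hkk, show cj q k = k * t from e1,
                 show cj v (k * t) = cj v k * cj v t by simp only [cj]; group, show cj v k = k * M.x from e2,
                 hvt', mul_assoc k, inv_mul_cancel_left]⟩
         obtain ⟨z, hz, ez⟩ := hd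
         set r := (cj (P.a i) M.x)⁻¹ * k with hr
         have mr : r ∈ Q := mul_mem (inv_mem hax) hk.1
         have h0 := P.D_mul i hax mr
         rw [show cj (P.a i) M.x * r = k by rw [hr, mul_inv_cancel_left], hP i, ez, mul_assoc M.x] at h0
         have h0' := mul_left_cancel h0
         have hDr : P.D i r ∈ P.Z := by
           rw [show P.D i r = z * ⁅M.x, r⁆⁻¹ by rw [h0']; group]
           exact mul_mem hz (inv_mem (P.cmZ hx mr))
         obtain ⟨w, hw, ew⟩ := P.exists_eq_D i mr hDr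
         have hc : ⁅M.x, r⁆ = 1 := by
           have mw := P.D_mem i (P.cj_mem (P.a_t i) mr)
           rw [ew, P.comm_mul_right hx mw (P.Z_Q hw),
             commutatorElement_eq_one_iff_mul_comm.2 (P.Z_mul_comm hw hx).symm, mul_one]
           conv_lhs => rw [← hP i]
           exact P.comm_DD i hax (P.cj_mem (P.a_t i) mr)
         rw [ez, h0', P.fixed_of_D_mem i mr hDr, hc, mul_one, mul_one])
  have hqk : cj q k = v⁻¹ * cj (P.u i) k * v := by simp only [hqdef, cj]; group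
  have hu : cj (P.u i) k = k * P.D i k := by simp only [Pre.D, del, cj]; group
  have hvx : v⁻¹ * M.x * v = M.x := by rw [mul_assoc, ← M.h'.comm hv, inv_mul_cancel_left]
  have hvk : v⁻¹ * k * v = k ∨ v⁻¹ * k * v = k * M.x := by
    have := M.h'.conj_cases (inv_mem hv) hk.2
    rwa [inv_inv] at this
  have hcases : cj q k = k ∨ cj q k = k * M.x := by
    rw [hqk, hu]
    rcases hD with d | d <;> rw [d]
    · rw [mul_one]; exact hvk
    · rw [show v⁻¹ * (k * M.x) * v = v⁻¹ * k * v * (v⁻¹ * M.x * v) by group, hvx]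
      rcases hvk with e | e <;> rw [e]
      · exact Or.inr rfl
      · left; rw [mul_assoc, M.h'.sq, mul_one]
  rcases M.S.h.conj_cases hq hk.1 with e | e
  · exact XSub.conj_eq_self_iff.1 e
  · rcases hcases with e' | e'
    · exact XSub.conj_eq_self_iff.1 e'
    · exact absurd (mul_left_cancel (e.symm.trans e')).symm M.ne

namespace Frame

variable {Q : Subgroup G} {t g : G} {M : Meet Q t g} {σ : Fin 3 → Perm (Fin 3)} (F : Frame M σ)
include F

/-- the first point -/
abbrev x (_F : Frame M σ) : G := M.x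

/-- the points of weight one -/
abbrev z (i : Fin 3) : G := cj (F.a i) F.x

/-- the points of weight two -/
abbrev ee (i : Fin 3) : G := cj (F.a (i + 1) * F.a (i + 2)) F.x

/-- the last point -/
abbrev e : G := cj (F.a 0 * F.a 1 * F.a 2) F.x

theorem x_mem : F.x ∈ Q := M.mem

theorem aa_t (i j : Fin 3) : F.a i * F.a j * t = t * (F.a i * F.a j) := by
  rw [mul_assoc, F.a_t j, ← mul_assoc, F.a_t i, mul_assoc]

theorem A_t : F.a 0 * F.a 1 * F.a 2 * t = t * (F.a 0 * F.a 1 * F.a 2) := by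
  rw [mul_assoc _ (F.a 2) t, F.a_t 2, ← mul_assoc, F.aa_t, mul_assoc t]

theorem z_mem (i : Fin 3) : F.z i ∈ Q := F.toPre.cj_mem (F.a_t i) F.x_mem

theorem ee_mem (i : Fin 3) : F.ee i ∈ Q := F.toPre.cj_mem (F.aa_t _ _) F.x_mem

theorem e_mem : F.e ∈ Q := F.toPre.cj_mem F.A_t F.x_mem

theorem x_sq : F.x * F.x = 1 := M.h'.sq

theorem u_sq (i : Fin 3) : F.u i * F.u i = 1 := by
  rcases F.u2 i with h | h
  · exact h
  · rcases M.h'.sq_cases (F.u_Q i) with h' | h'
    · exact h'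
    · exact absurd (h.symm.trans h').symm M.ne

theorem u_inv (i : Fin 3) : (F.u i)⁻¹ = F.u i := inv_eq_of_mul_eq_one_right (F.u_sq i)

theorem u_comm (i j : Fin 3) : F.u i * F.u j = F.u j * F.u i := by
  rcases M.h'.comm_cases (F.u_Q i) (F.u_Q j) with h | h
  · exact commutatorElement_eq_one_iff_mul_comm.1 h
  · rcases F.uu i j with h' | h'
    · exact commutatorElement_eq_one_iff_mul_comm.1 h'
    · exact absurd (h.symm.trans h') M.ne

theorem u_x (i : Fin 3) : F.u i * F.x = F.x * F.u i := M.h'.comm (F.u_Q i)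

theorem u_cj {i : Fin 3} {b : G} (hb : F.u i * b = b * F.u i) (q : G) :
    cj (F.u i) (cj b q) = cj b (cj (F.u i) q) := by
  calc cj (F.u i) (cj b q) = (F.u i * b) * q * (F.u i * b)⁻¹ := by simp only [cj]; group
    _ = (b * F.u i) * q * (b * F.u i)⁻¹ := by rw [hb]
    _ = _ := by simp only [cj]; group

theorem u_aa {i j k : Fin 3} (hj : i ≠ j) (hk : i ≠ k) : F.u i * (F.a j * F.a k) = F.a j * F.a k * F.u i := by
  rw [← mul_assoc, F.ua' i j hj, mul_assoc, F.ua' i k hk, mul_assoc]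

theorem u_x' (i : Fin 3) : cj (F.u i) F.x = F.x := by rw [cj, F.u_x, mul_inv_cancel_right]

theorem u_z_ne {i j : Fin 3} (h : i ≠ j) : cj (F.u i) (F.z j) = F.z j := by
  rw [F.u_cj (F.ua' i j h), F.u_x']

theorem u_z (i : Fin 3) : cj (F.u i) (F.z i) = F.z i * F.x := by
  calc cj (F.u i) (F.z i) = F.z i * F.toPre.D i (F.z i) := (mul_inv_cancel_left _ _).symm
    _ = F.z i * F.x := by rw [show F.toPre.D i (F.z i) = F.x from F.rel i]

theorem u_ee (i : Fin 3) : cj (F.u i) (F.ee i) = F.ee i := by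
  rw [F.u_cj (F.u_aa (by revert i; decide) (by revert i; decide)), F.u_x']

theorem u_move {i : Fin 3} {b : G} (hb : F.u i * b = b * F.u i) :
    cj (F.u i) (cj b (F.z i)) = cj b (F.z i) * cj b F.x := by
  rw [F.u_cj hb, F.u_z]; simp only [cj]; group

theorem ee_eq₁ (i : Fin 3) : F.ee i = cj (F.a (i + 2)) (F.z (i + 1)) := by
  rw [ee, F.aa (i + 1) (i + 2)]; simp only [cj]; group

theorem ee_eq₂ (i : Fin 3) : F.ee i = cj (F.a (i + 1)) (F.z (i + 2)) := by
  simp only [ee, z, cj]; group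

theorem u_ee₁ (i : Fin 3) : cj (F.u (i + 1)) (F.ee i) = F.ee i * F.z (i + 2) := by
  rw [F.ee_eq₁, F.u_move (F.ua' _ _ (by revert i; decide))]

theorem u_ee₂ (i : Fin 3) : cj (F.u (i + 2)) (F.ee i) = F.ee i * F.z (i + 1) := by
  rw [F.ee_eq₂, F.u_move (F.ua' _ _ (by revert i; decide))]

theorem e_eq (i : Fin 3) : F.e = cj (F.a (i + 1) * F.a (i + 2)) (F.z i) := by
  have key : F.a (i + 1) * F.a (i + 2) * F.a i = F.a 0 * F.a 1 * F.a 2 := by
    fin_cases i
    · show F.a 1 * F.a 2 * F.a 0 = _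
      rw [mul_assoc, F.aa 2 0, ← mul_assoc, F.aa 1 0]
    · show F.a 2 * F.a 0 * F.a 1 = _
      rw [F.aa 2 0, mul_assoc, F.aa 2 1, ← mul_assoc]
    · show F.a 0 * F.a 1 * F.a 2 = _
      rfl
  rw [e, ← key]; simp only [z, cj]; group

theorem u_e (i : Fin 3) : cj (F.u i) F.e = F.e * F.ee i := by
  rw [F.e_eq i, F.u_move (F.u_aa (by revert i; decide) (by revert i; decide))]

theorem D_of_cj {i : Fin 3} {p r : G} (h : cj (F.u i) p = p * r) : F.toPre.D i p = r := by
  rw [Pre.D, del, show cj (F.toPre.u i) p = p * r from h, inv_mul_cancel_left]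

theorem D_x (i : Fin 3) : F.toPre.D i F.x = 1 := F.D_of_cj (by rw [F.u_x', mul_one])
theorem D_z_ne {i j : Fin 3} (h : i ≠ j) : F.toPre.D i (F.z j) = 1 := F.D_of_cj (by rw [F.u_z_ne h, mul_one])
theorem D_z (i : Fin 3) : F.toPre.D i (F.z i) = F.x := F.D_of_cj (F.u_z i)
theorem D_ee (i : Fin 3) : F.toPre.D i (F.ee i) = 1 := F.D_of_cj (by rw [F.u_ee, mul_one])
theorem D_ee₁ (i : Fin 3) : F.toPre.D (i + 1) (F.ee i) = F.z (i + 2) := F.D_of_cj (F.u_ee₁ i)
theorem D_ee₂ (i : Fin 3) : F.toPre.D (i + 2) (F.ee i) = F.z (i + 1) := F.D_of_cj (F.u_ee₂ i)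
theorem D_e (i : Fin 3) : F.toPre.D i F.e = F.ee i := F.D_of_cj (F.u_e i)

/-- commutation through a reflection -/
theorem cm_swap (i : Fin 3) {p r : G} (hp : p ∈ Q) (hr : r ∈ Q) :
    ⁅F.toPre.D i p, r⁆ = ⁅p, F.toPre.D i r⁆ := F.toPre.comm_D_swap i hp hr

theorem exists_ne' (i j : Fin 3) : ∃ k, k ≠ i ∧ k ≠ j := by revert i j; decide

theorem x_ee (i : Fin 3) : F.x * F.ee i = F.ee i * F.x := by
  refine commutatorElement_eq_one_iff_mul_comm.1 ?_
  rw [← F.D_z i, F.cm_swap i (F.z_mem i) (F.ee_mem i), F.D_ee]; simp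

theorem x_z (i : Fin 3) : F.x * F.z i = F.z i * F.x := by
  obtain ⟨j, hj, -⟩ := F.exists_ne' i i
  refine commutatorElement_eq_one_iff_mul_comm.1 ?_
  rw [← F.D_z j, F.cm_swap j (F.z_mem j) (F.z_mem i), F.D_z_ne hj]; simp

theorem z_Q' (i : Fin 3) : F.z i ∈ M.Q' := by
  obtain ⟨j, rfl⟩ : ∃ j, i = j + 2 := ⟨i + 1, by revert i; decide⟩
  rw [← F.D_ee₁ j]
  have hn : (F.ee j)⁻¹ ∈ normalizer (M.Q' : Set G) :=
    inv_mem (M.h'.norm (LargeExtra.mem_centralizer_one.2 (F.x_ee j).symm))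
  rw [show F.toPre.D (j + 1) (F.ee j) = (F.ee j)⁻¹ * F.u (j + 1) * ((F.ee j)⁻¹)⁻¹ * (F.u (j + 1))⁻¹ by
    simp only [Pre.D, del, cj]; group]
  exact mul_mem (LargeExtra.conj_mem hn (F.u_Q _)) (inv_mem (F.u_Q _))

theorem z_K (i : Fin 3) : F.z i ∈ M.K := ⟨F.z_mem i, F.z_Q' i⟩

theorem x_K : F.x ∈ M.K := ⟨F.x_mem, M.h'.mem⟩

theorem t_K : t ∈ M.K := ⟨M.S.h.mem, M.t_mem⟩

theorem z_z (i j : Fin 3) : F.z i * F.z j = F.z j * F.z i := M.K_comm (F.z_K i) (F.z_K j)

/-- the image of an element commuting with both involutions -/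
theorem proj_two {c : G} (hc : c * t = t * c) (hcx : c * F.x = F.x * c) (i : Fin 3) :
    M.S.proj ⟨c, LargeExtra.mem_centralizer_one.2 hc⟩ i = 1 ∨
      M.S.proj ⟨c, LargeExtra.mem_centralizer_one.2 hc⟩ i = σ i := by
  by_contra hcon
  push Not at hcon
  set C := centralizer ({t} : Set G)
  set c' : C := ⟨c, LargeExtra.mem_centralizer_one.2 hc⟩
  let u' : C := ⟨F.u i, LargeExtra.mem_centralizer_one.2 (F.u_t i)⟩
  let a' : C := ⟨F.a i, LargeExtra.mem_centralizer_one.2 (F.a_t i)⟩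
  set d : C := c' * u' * c'⁻¹ * u'⁻¹ with hd
  have hdp : M.S.proj d = Pi.mulSingle i (M.S.proj c' i * σ i * (M.S.proj c' i)⁻¹ * (σ i)⁻¹) := by
    rw [hd, map_mul, map_mul, map_mul, map_inv, map_inv, F.pu]
    funext j
    rcases eq_or_ne j i with rfl | hj
    · simp
    · simp [Pi.mulSingle_eq_of_ne hj]
  have hdx : cj (d : G) F.x = F.x := by
    show c * F.u i * c⁻¹ * (F.u i)⁻¹ * F.x * (c * F.u i * c⁻¹ * (F.u i)⁻¹)⁻¹ = F.x
    have e1 : Commute c F.x := hcx
    have e2 : Commute (F.u i) F.x := F.u_x i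
    rw [(((e1.mul_left e2).mul_left e1.inv_left).mul_left e2.inv_left).eq, mul_inv_cancel_right]
  have step : ∀ b : C, M.S.proj b = M.S.proj d → cj (b : G) F.x = F.x ∨ cj (b : G) F.x = F.x * t := by
    intro b hb
    have hq : ((d⁻¹ * b : C) : G) ∈ Q := (M.S.ker _).1 (by rw [map_mul, map_inv, hb, inv_mul_cancel])
    rcases M.S.h.conj_cases hq F.x_mem with e | e
    · left
      rw [show cj (b : G) F.x = cj (d : G) (cj ((d⁻¹ * b : C) : G) F.x) by simp only [cj, coe_mul, coe_inv]; group,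
        show cj ((d⁻¹ * b : C) : G) F.x = F.x from e, hdx]
    · right
      rw [show cj (b : G) F.x = cj (d : G) (cj ((d⁻¹ * b : C) : G) F.x) by simp only [cj, coe_mul, coe_inv]; group,
        show cj ((d⁻¹ * b : C) : G) F.x = F.x * t from e,
        show cj (d : G) (F.x * t) = cj (d : G) F.x * cj (d : G) t by simp only [cj]; group, hdx,
        F.toPre.cjZ (LargeExtra.mem_centralizer_one.1 d.2) (mem_zpowers t)]
  have bad : F.z i = F.x ∨ F.z i = F.x * t → False := by
    intro h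
    refine M.x_ne_one ?_
    show F.x = 1
    rw [← F.D_z i]
    rcases h with h | h <;> rw [h]
    · exact F.D_x i
    · rw [F.toPre.D_mulZ i F.x_mem (mem_zpowers t)]; exact F.D_x i
  rcases perm_comm_rot _ _ (F.invs i).2 (F.invs i).1 hcon.1 hcon.2 with e | e <;> rw [e] at hdp
  · exact bad (step a' (by rw [hdp]; exact F.pa i _))
  · have e3 : cj (F.a i) (cj (F.a i) (F.z i)) = F.x := by
      rw [show cj (F.a i) (cj (F.a i) (F.z i)) = cj (F.a i * F.a i * F.a i) F.x by simp only [z, cj]; group,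
        F.a3 i]
      simp [cj]
    have h := step (a' * a') (by rw [map_mul, hdp, Pi.mulSingle_mul]; rw [show M.S.proj a' = _ from F.pa i _])
    refine bad ?_
    have hh : cj (F.a i * F.a i) F.x = F.x ∨ cj (F.a i * F.a i) F.x = F.x * t := h
    have h4 : cj (F.a i) (cj (F.a i * F.a i) F.x) = F.x := by
      rw [show cj (F.a i) (cj (F.a i * F.a i) F.x) = cj (F.a i * F.a i * F.a i) F.x by simp only [cj]; group,
        F.a3 i]
      simp [cj]
    rcases hh with hh | hh
    · left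
      rw [hh] at h4
      exact h4
    · right
      rw [hh, show cj (F.a i) (F.x * t) = F.z i * cj (F.a i) t by simp only [z, cj]; group,
        F.toPre.cjZ (F.a_t i) (mem_zpowers t)] at h4
      calc F.z i = F.z i * t * t := by rw [mul_assoc, M.S.h.sq, mul_one]
        _ = F.x * t := by rw [h4]

/-- Elements commuting with both involutions. -/
theorem decomp {c : G} (hc : c * t = t * c) (hcx : c * F.x = F.x * c) :
    ∃ b : Fin 3 → ℕ, ∃ q ∈ Q, (∀ i, b i ≤ 1) ∧ q * F.x = F.x * q ∧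
      c = F.u 0 ^ b 0 * F.u 1 ^ b 1 * F.u 2 ^ b 2 * q := by
  classical
  set C := centralizer ({t} : Set G)
  let c' : C := ⟨c, LargeExtra.mem_centralizer_one.2 hc⟩
  let u' : Fin 3 → C := fun i => ⟨F.u i, LargeExtra.mem_centralizer_one.2 (F.u_t i)⟩
  refine ⟨fun i => if M.S.proj c' i = 1 then 0 else 1,
    (F.u 0 ^ _ * F.u 1 ^ _ * F.u 2 ^ _)⁻¹ * c, ?_, fun i => by dsimp only; split <;> omega, ?_,
    (mul_inv_cancel_left _ _).symm⟩
  · set b : Fin 3 → ℕ := fun i => if M.S.proj c' i = 1 then 0 else 1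
    refine (M.S.ker ((u' 0 ^ b 0 * u' 1 ^ b 1 * u' 2 ^ b 2)⁻¹ * c')).1 ?_
    have hu : ∀ i, M.S.proj (u' i) = Pi.mulSingle i (σ i) := fun i => F.pu i _
    have hb : ∀ i, σ i ^ b i = M.S.proj c' i := fun i => by
      show σ i ^ (if M.S.proj c' i = 1 then 0 else 1) = _
      split
      · rename_i h; rw [h, pow_zero]
      · rename_i h; rw [pow_one]; exact ((F.proj_two hc hcx i).resolve_left h).symm
    rw [map_mul, map_inv, inv_mul_eq_one, map_mul, map_mul, map_pow, map_pow, map_pow, hu, hu, hu]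
    funext j
    fin_cases j <;> simp [← hb]
  · have e : ∀ i (n : ℕ), Commute (F.u i ^ n) F.x := fun i n => (show Commute (F.u i) F.x from F.u_x i).pow_left n
    exact ((((e 0 _).mul_left (e 1 _)).mul_left (e 2 _)).inv_left.mul_left (show Commute c F.x from hcx)).eq

/-- The only elements of `Q` fixed by the three reflections. -/
theorem fix_pair {w : G} (hw : w ∈ Q) (h : ∀ i, F.toPre.D i w = 1) :
    w = 1 ∨ w = t ∨ w = F.x ∨ w = F.x * t := by
  have hxw : w * F.x = F.x * w := by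
    refine (commutatorElement_eq_one_iff_mul_comm.1 ?_).symm
    rw [← F.D_z 0, F.cm_swap 0 (F.z_mem 0) hw, h 0]; simp
  obtain ⟨z, hz, ew⟩ := F.toPre.exists_eq_D 0 hw (by rw [h 0]; exact one_mem _)
  set p := cj (F.a 0) w with hp
  have mp : p ∈ Q := F.toPre.cj_mem (F.a_t 0) hw
  have hpx : p * F.x = F.x * p := by
    refine (commutatorElement_eq_one_iff_mul_comm.1 ?_).symm
    rw [← F.D_z 1, F.cm_swap 1 (F.z_mem 1) mp, hp, F.toPre.D_cj 1 0 (by decide), h 1]; simp [cj]
  have wK : w ∈ M.K := M.mem_K hw fun k hk => by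
    refine commutatorElement_eq_one_iff_mul_comm.1 ?_
    rw [ew, F.toPre.comm_mul (F.toPre.D_mem 0 mp) (F.toPre.Z_Q hz) hk.1,
      commutatorElement_eq_one_iff_mul_comm.2 (F.toPre.Z_mul_comm hz hk.1), mul_one,
      show F.toPre.D 0 (cj (F.toPre.a 0) w) = F.toPre.D 0 p from rfl, F.cm_swap 0 mp hk.1]
    refine commutatorElement_eq_one_iff_mul_comm.2 ?_
    have hD : F.toPre.D 0 k = k⁻¹ * cj (F.u 0) k := rfl
    rcases M.h'.conj_cases (F.u_Q 0) hk.2 with e | e
    · rw [hD, show cj (F.u 0) k = k from e, inv_mul_cancel, mul_one, one_mul]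
    · rw [hD, show cj (F.u 0) k = k * F.x from e, inv_mul_cancel_left]; exact hpx
  have := M.h'.mem_pair_of_commute M.t_mem M.S.h.sq wK.2 fun p hp' hpt => by
    obtain ⟨b, q, hq, -, -, e⟩ := F.decomp hpt (M.h'.comm hp')
    have hu : ∀ i, Commute w (F.u i) := fun i => by
      refine Commute.symm (mul_inv_eq_iff_eq_mul.1 ?_)
      show cj (F.u i) w = w
      rw [show cj (F.u i) w = w * F.toPre.D i w by simp only [Pre.D, del, cj]; group, h i, mul_one]
    have hqK : q ∈ M.K := ⟨hq, by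
      rw [show q = (F.u 0 ^ b 0 * F.u 1 ^ b 1 * F.u 2 ^ b 2)⁻¹ * p by rw [e]; group]
      exact (M.Q').mul_mem ((M.Q').inv_mem ((M.Q').mul_mem ((M.Q').mul_mem ((M.Q').pow_mem (F.u_Q 0) _)
        ((M.Q').pow_mem (F.u_Q 1) _)) ((M.Q').pow_mem (F.u_Q 2) _))) hp'⟩
    have hwq : Commute w q := M.K_comm wK hqK
    rw [e]
    exact (((((hu 0).pow_right _).mul_right ((hu 1).pow_right _)).mul_right ((hu 2).pow_right _)).mul_right hwq).symm.eq
  rcases this with e | e | e | e
  · exact Or.inl e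
  · exact Or.inr (Or.inr (Or.inl e))
  · exact Or.inr (Or.inl e)
  · exact Or.inr (Or.inr (Or.inr e))

theorem x_e : ⁅F.x, F.e⁆ = t := by
  refine (M.S.h.comm_cases F.x_mem F.e_mem).resolve_left fun h => ?_
  obtain ⟨q, hq, e⟩ := M.S.h.exists_conj F.x_mem M.x_ne_one M.ne
  refine M.S.h.ne_mul_z F.x ((XSub.conj_eq_self_iff.2 ?_).symm.trans e)
  refine (commutatorElement_eq_one_iff_mul_comm.1 ?_).symm
  have e0 : F.toPre.D (2 : Fin 3) (F.toPre.D 1 (F.toPre.D 0 F.e)) = F.x := by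
    have h1 := F.D_ee₁ 0
    simp only [zero_add] at h1
    rw [F.D_e 0, h1, F.D_z]
  rw [← e0, F.cm_swap 2 (F.toPre.D_mem 1 (F.toPre.D_mem 0 F.e_mem)) hq,
    F.cm_swap 1 (F.toPre.D_mem 0 F.e_mem) (F.toPre.D_mem 2 hq),
    F.cm_swap 0 F.e_mem (F.toPre.D_mem 1 (F.toPre.D_mem 2 hq))]
  set w := F.toPre.D 0 (F.toPre.D 1 (F.toPre.D 2 q)) with hw
  have m2 := F.toPre.D_mem 2 hq
  have m12 := F.toPre.D_mem 1 m2
  have mw : w ∈ Q := F.toPre.D_mem 0 m12
  have hfix : ∀ i, F.toPre.D i w = 1 := by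
    intro i
    fin_cases i
    · exact F.toPre.DD_self 0 m12
    · show F.toPre.D 1 w = 1
      rw [hw, F.toPre.D_comm 1 0 m12, F.toPre.DD_self 1 m2]
      exact F.toPre.D_Z 0 (one_mem _)
    · show F.toPre.D 2 w = 1
      rw [hw, F.toPre.D_comm 2 0 m12, F.toPre.D_comm 2 1 m2, F.toPre.DD_self 2 hq,
        F.toPre.D_Z 1 (one_mem _), F.toPre.D_Z 0 (one_mem _)]
  have hex : Commute F.e F.x := (show Commute F.x F.e from commutatorElement_eq_one_iff_mul_comm.1 h).symm
  have het : Commute F.e t := M.S.h.comm F.e_mem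
  refine commutatorElement_eq_one_iff_mul_comm.2 ?_
  rcases F.fix_pair mw hfix with e | e | e | e <;> rw [e]
  · rw [mul_one, one_mul]
  · exact het.eq
  · exact hex.eq
  · exact (hex.mul_right het).eq

theorem z_ee (i : Fin 3) : ⁅F.z i, F.ee i⁆ = t := by
  rw [← F.D_e i, ← F.cm_swap i (F.z_mem i) F.e_mem, F.D_z, F.x_e]

theorem z_ee_ne {i j : Fin 3} (h : j ≠ i) : F.z i * F.ee j = F.ee j * F.z i := by
  refine commutatorElement_eq_one_iff_mul_comm.1 ?_
  rw [← F.D_e j, ← F.cm_swap j (F.z_mem i) F.e_mem, F.D_z_ne h]; simp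

theorem ee_ee (i j : Fin 3) : F.ee i * F.ee j = F.ee j * F.ee i := by
  refine commutatorElement_eq_one_iff_mul_comm.1 ?_
  rw [← F.D_e i, ← F.D_e j]
  exact F.toPre.comm_D_D i j F.e_mem

theorem z_e (i : Fin 3) : F.z i * F.e = F.e * F.z i := by
  obtain ⟨j, rfl⟩ : ∃ j, i = j + 2 := ⟨i + 1, by revert i; decide⟩
  refine commutatorElement_eq_one_iff_mul_comm.1 ?_
  rw [← F.D_ee₁ j, F.cm_swap (j + 1) (F.ee_mem j) F.e_mem, F.D_e]
  exact commutatorElement_eq_one_iff_mul_comm.2 (F.ee_ee j (j + 1))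

theorem e_sq : F.e * F.e = 1 := by
  rw [show F.e * F.e = cj (F.a 0 * F.a 1 * F.a 2) (F.x * F.x) by simp only [e, cj]; group, F.x_sq]
  simp [cj]

theorem ee_sq (i : Fin 3) : F.ee i * F.ee i = 1 := by
  rw [show F.ee i * F.ee i = cj (F.a (i + 1) * F.a (i + 2)) (F.x * F.x) by simp only [ee, cj]; group, F.x_sq]
  simp [cj]

theorem z_sq (i : Fin 3) : F.z i * F.z i = 1 := M.K_sq (F.z_K i)

theorem ee_e (i : Fin 3) : F.ee i * F.e = F.e * F.ee i := by
  have h := F.toPre.D_sq i F.e_mem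
  rw [F.D_e] at h
  have h2 : cj (F.u i) (cj (F.u i) F.e) = F.e := by
    rw [show cj (F.u i) (cj (F.u i) F.e) = cj (F.u i * F.u i) F.e by simp only [cj]; group, F.u_sq]
    simp [cj]
  have h3 : cj (F.u i) F.e * cj (F.u i) F.e = 1 := by
    rw [show cj (F.u i) F.e * cj (F.u i) F.e = cj (F.u i) (F.e * F.e) by simp only [cj]; group, F.e_sq]
    simp [cj]
  rw [F.u_e] at h3
  calc F.ee i * F.e = (F.ee i)⁻¹ * F.e⁻¹ := by
        rw [inv_eq_of_mul_eq_one_right F.e_sq, inv_eq_of_mul_eq_one_right h]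
    _ = (F.e * F.ee i)⁻¹ := (mul_inv_rev _ _).symm
    _ = F.e * F.ee i := inv_eq_of_mul_eq_one_right h3

/-- An element of `Q` commuting with the eight points is central. -/
theorem detect {q : G} (hq : q ∈ Q) (hx : q * F.x = F.x * q) (hz : ∀ i, q * F.z i = F.z i * q)
    (hee : ∀ i, q * F.ee i = F.ee i * q) (he : q * F.e = F.e * q) : q = 1 ∨ q = t := by
  -- the set of such elements
  let W : G → Prop := fun q => ⁅q, F.x⁆ = 1 ∧ (∀ i, ⁅q, F.z i⁆ = 1) ∧ (∀ i, ⁅q, F.ee i⁆ = 1) ∧ ⁅q, F.e⁆ = 1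
  have c1 : ∀ {r : G}, ⁅r, (1 : G)⁆ = 1 := by simp
  have hD : ∀ (i : Fin 3) (r : G), r ∈ Q → W r → W (F.toPre.D i r) := by
    intro i r hr ⟨w1, w2, w3, w4⟩
    refine ⟨?_, fun j => ?_, fun j => ?_, ?_⟩
    · rw [F.cm_swap i hr F.x_mem, F.D_x]; exact c1
    · rw [F.cm_swap i hr (F.z_mem j)]
      rcases eq_or_ne i j with rfl | hne
      · rw [F.D_z]; exact w1
      · rw [F.D_z_ne hne]; exact c1
    · rw [F.cm_swap i hr (F.ee_mem j)]
      rcases (show i = j ∨ i = j + 1 ∨ i = j + 2 by revert i j; decide) with rfl | rfl | rfl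
      · rw [F.D_ee]; exact c1
      · rw [F.D_ee₁]; exact w2 _
      · rw [F.D_ee₂]; exact w2 _
    · rw [F.cm_swap i hr F.e_mem, F.D_e]; exact w3 i
  have hfix : ∀ r ∈ Q, W r → (∀ i, F.toPre.D i r = 1) → r ∈ F.toPre.Z := by
    intro r hr hw h
    rcases F.fix_pair hr h with e | e | e | e
    · exact F.toPre.mem_Z.2 (Or.inl e)
    · exact F.toPre.mem_Z.2 (Or.inr e)
    · refine absurd ?_ M.S.h.ne_one
      rw [← F.x_e, ← e]; exact hw.2.2.2
    · refine absurd ?_ M.S.h.ne_one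
      rw [← F.x_e]
      have : ⁅r, F.e⁆ = ⁅F.x, F.e⁆ := by
        rw [e, F.toPre.comm_mul F.x_mem M.S.h.mem F.e_mem,
          commutatorElement_eq_one_iff_mul_comm.2 (M.S.h.comm F.e_mem).symm, mul_one]
      rw [← this]; exact hw.2.2.2
  have hW : W q := ⟨commutatorElement_eq_one_iff_mul_comm.2 hx, fun i => commutatorElement_eq_one_iff_mul_comm.2 (hz i),
    fun i => commutatorElement_eq_one_iff_mul_comm.2 (hee i), commutatorElement_eq_one_iff_mul_comm.2 he⟩
  have one' : ∀ i, F.toPre.D i (1 : G) = 1 := fun i => F.toPre.D_Z i (one_mem _)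
  -- two displacements vanish
  have two : ∀ i j, F.toPre.D i (F.toPre.D j q) = 1 := by
    intro i j
    rcases eq_or_ne i j with rfl | hij
    · exact F.toPre.DD_self i hq
    have mj := F.toPre.D_mem j hq
    obtain ⟨k, hki, hkj⟩ := F.exists_ne' i j
    refine F.toPre.fixed_of_D_mem i mj (hfix _ (F.toPre.D_mem i mj) (hD i _ mj (hD j q hq hW)) fun l => ?_)
    rcases three i j k l hij hki hkj with rfl | rfl | rfl
    · exact F.toPre.DD_self l mj
    · rw [F.toPre.D_comm l i mj, F.toPre.DD_self l hq]; exact one' i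
    · have m : F.toPre.D l (F.toPre.D i (F.toPre.D j q)) ∈ Q := F.toPre.D_mem _ (F.toPre.D_mem i mj)
      refine F.toPre.fixed_of_D_mem l (F.toPre.D_mem i mj) (hfix _ m
        (hD l _ (F.toPre.D_mem i mj) (hD i _ mj (hD j q hq hW))) fun m' => ?_)
      rcases three i j l m' hij hki hkj with rfl | rfl | rfl
      · rw [F.toPre.D_comm m' l (F.toPre.D_mem m' mj), F.toPre.DD_self m' mj]; exact one' l
      · rw [F.toPre.D_comm m' l (F.toPre.D_mem i mj), F.toPre.D_comm m' i mj, F.toPre.DD_self m' hq, one' i]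
        exact one' l
      · exact F.toPre.DD_self m' (F.toPre.D_mem i mj)
  refine F.toPre.mem_Z.1 (hfix q hq hW fun i => ?_)
  exact F.toPre.fixed_of_D_mem i hq (hfix _ (F.toPre.D_mem i hq) (hD i q hq hW) fun j => two j i)

end Frame

end Cfsg.Agent.Omega8Rec
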