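import Cfsg.Agent.Lib.Omega8Rec.Amalgam
import Cfsg.Agent.Lib.Omega8Rec.Fpf
import Cfsg.Agent.Lib.CTRec.TypeD

/-!
The subgroup generated by the four rank one subgroups: it contains the centralizer of the involution and is
isomorphic to the orthogonal group of plus type in dimension eight over two elements.
-/

set_option autoImplicit false
set_option linter.unusedSectionVars false
set_option linter.style.haveILetI false
set_option maxHeartbeats 1000000

namespace Cfsg.Agent.Omega8Rec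

open Subgroup Equiv Matrix
open Cfsg.Agent.LargeExtra
open Cfsg.Agent.CTRec (emb01 emb12 DFam DAdj upS lowS upS_sup_lowS hom_ext)
open Cfsg.Agent.CTRec.DModel (node act Iso)
open SL2Pres (up low)
open Cfsg.Agent.Orth (qPlus)
open scoped commutatorElement

local notation "F2" => ZMod 2

theorem zmod_two_cases : ∀ c : F2, c = 0 ∨ c = 1 := by decide

section Data

variable {G : Type*} [Group G]

/-- the six roots of `SL₃` -/
def sixRoots (r01 r10 r12 r21 r02 r20 : G) (i j : Fin 3) : G :=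
  ![![1, r01, r02], ![r10, 1, r12], ![r20, r21, 1]] i j

theorem comm_eq_of_cj {a b c : G} (hb : b * b = 1) (h : cj a b = c * b) : ⁅a, b⁆ = c := by
  rw [commutatorElement_def, show a * b * a⁻¹ = c * b from h, mul_assoc, mul_inv_cancel, mul_one]

/-- A homomorphism of `SL₃(2)` from six involutions with the Steinberg relations. -/
theorem exists_hom_six (r01 r10 r12 r21 r02 r20 : G)
    (hsq : ∀ i j, sixRoots r01 r10 r12 r21 r02 r20 i j * sixRoots r01 r10 r12 r21 r02 r20 i j = 1)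
    (c1 : Commute r01 r02) (c2 : Commute r01 r21) (c3 : Commute r10 r12) (c4 : Commute r10 r20)
    (c5 : Commute r02 r12) (c6 : Commute r20 r21)
    (b012 : ⁅r01, r12⁆ = r02) (b021 : ⁅r02, r21⁆ = r01) (b102 : ⁅r10, r02⁆ = r12)
    (b120 : ⁅r12, r20⁆ = r10) (b201 : ⁅r20, r01⁆ = r21) (b210 : ⁅r21, r10⁆ = r20) :
    ∃ Ψ : SpecialLinearGroup (Fin 3) F2 →* G, Ψ (emb01 (up 1)) = r01 ∧ Ψ (emb01 (low 1)) = r10 ∧
      Ψ (emb12 (up 1)) = r12 ∧ Ψ (emb12 (low 1)) = r21 := by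
  classical
  let R := sixRoots r01 r10 r12 r21 r02 r20
  let D : SLPres.Data 3 F2 G :=
    { y := fun i j t => if t = 0 then 1 else R i j
      add := fun i j _ t u => by
        rcases zmod_two_cases t with rfl | rfl <;> rcases zmod_two_cases u with rfl | rfl
        · simp
        · simp
        · simp
        · rw [if_neg one_ne_zero, if_pos (show (1 : F2) + 1 = 0 from rfl)]; exact hsq i j
      comm := fun i j k l h1 h2 h3 h4 t u => by
        rcases zmod_two_cases t with rfl | rfl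
        · simp
        rcases zmod_two_cases u with rfl | rfl
        · simp
        rw [if_neg one_ne_zero]
        fin_cases i <;> fin_cases j <;> fin_cases k <;> fin_cases l <;>
          first
          | exact absurd rfl h1 | exact absurd rfl h2 | exact absurd rfl h3 | exact absurd rfl h4
          | exact Commute.refl _ | exact c1 | exact c1.symm | exact c2 | exact c2.symm | exact c3 | exact c3.symm
          | exact c4 | exact c4.symm | exact c5 | exact c5.symm | exact c6 | exact c6.symm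
      brac := fun i j l h1 h2 h3 t u => by
        rcases zmod_two_cases t with rfl | rfl
        · simp
        rcases zmod_two_cases u with rfl | rfl
        · simp
        rw [if_neg one_ne_zero, mul_one, if_neg one_ne_zero]
        fin_cases i <;> fin_cases j <;> fin_cases l <;>
          first
          | exact absurd rfl h1 | exact absurd rfl h2 | exact absurd rfl h3
          | exact b012 | exact b021 | exact b102 | exact b120 | exact b201 | exact b210 }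
  obtain ⟨f0, hf0⟩ := SLPres.exists_hom_of_data D
  obtain ⟨π, hπ⟩ := SLPres.exists_toSL 3 F2
  let φ := MulEquiv.ofBijective π (SLPres.toSL_bijective 1 le_rfl π hπ)
  have key : ∀ (i j : Fin 3), i ≠ j → f0 (φ.symm ((SLPres.slData 3 F2).y i j 1)) = R i j := fun i j hij => by
    rw [SLPres.slData_y hij, ← hπ ⟨(i, j), hij⟩ 1,
      show φ.symm (π (PresentedGroup.of (⟨(i, j), hij⟩, 1))) =
        PresentedGroup.of (⟨(i, j), hij⟩, 1) from φ.symm_apply_apply _, hf0]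
    show (if (1 : F2) = 0 then 1 else R i j) = R i j
    rw [if_neg one_ne_zero]
  refine ⟨f0.comp φ.symm.toMonoidHom, ?_, ?_, ?_, ?_⟩
  all_goals show f0 (φ.symm _) = _
  · rw [CTRec.emb01_up, key 0 1 (by decide)]; rfl
  · rw [CTRec.emb01_low, key 1 0 (by decide)]; rfl
  · rw [CTRec.emb12_up, key 1 2 (by decide)]; rfl
  · rw [CTRec.emb12_low, key 2 1 (by decide)]; rfl

theorem sl2_hom_eq {φ ψ : SpecialLinearGroup (Fin 2) F2 →* G} (h1 : φ (up 1) = ψ (up 1))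
    (h2 : φ (low 1) = ψ (low 1)) : φ = ψ := by
  refine hom_ext (fun t => ?_) fun t => ?_ <;> rcases zmod_two_cases t with rfl | rfl
  · rw [CTRec.up_zero, map_one, map_one]
  · exact h1
  · rw [CTRec.low_zero, map_one, map_one]
  · exact h2

theorem sl2_le {φ : SpecialLinearGroup (Fin 2) F2 →* G} {H : Subgroup G} (h1 : φ (up 1) ∈ H)
    (h2 : φ (low 1) ∈ H) : φ.range ≤ H := by
  rw [MonoidHom.range_eq_map, ← upS_sup_lowS, Subgroup.map_sup]
  refine sup_le ?_ ?_ <;> rintro _ ⟨_, ⟨t, rfl⟩, rfl⟩ <;> rcases zmod_two_cases t with rfl | rfl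
  · rw [CTRec.up_zero, map_one]; exact one_mem _
  · exact h1
  · rw [CTRec.low_zero, map_one]; exact one_mem _
  · exact h2

theorem sl2_commute {φ ψ : SpecialLinearGroup (Fin 2) F2 →* G} {a b c d : G} (ha : φ (up 1) = a)
    (hb : φ (low 1) = b) (hc : ψ (up 1) = c) (hd : ψ (low 1) = d)
    (ac : Commute a c) (ad : Commute a d) (bc : Commute b c) (bd : Commute b d) (x y) :
    Commute (φ x) (ψ y) := by
  have hψ : ∀ z, Commute a z → Commute b z → φ.range ≤ centralizer ({z} : Set G) := fun z h1 h2 =>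
    sl2_le (mem_centralizer_singleton_iff.2 (ha ▸ h1.eq)) (mem_centralizer_singleton_iff.2 (hb ▸ h2.eq))
  have h1 : ψ.range ≤ centralizer ({φ x} : Set G) :=
    sl2_le (mem_centralizer_singleton_iff.2 (hc ▸ (mem_centralizer_singleton_iff.1 (hψ c ac bc ⟨x, rfl⟩)).symm))
      (mem_centralizer_singleton_iff.2 (hd ▸ (mem_centralizer_singleton_iff.1 (hψ d ad bd ⟨x, rfl⟩)).symm))
  exact (mem_centralizer_singleton_iff.1 (h1 ⟨y, rfl⟩)).symm

end Data

variable {G : Type*} [Group G] [Finite G]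

namespace Amal

variable {Q : Subgroup G} {t g : G} {M : Meet Q t g} {σ : Fin 3 → Perm (Fin 3)} (A : Amal M σ)
include A

theorem cm_u (i : Fin 3) : ⁅A.e, A.u i⁆ = A.ee i := comm_eq_of_cj (A.u_sq i) (A.e_u i)

theorem cm_ee (i : Fin 3) : ⁅A.ee i, A.u' i⁆ = A.e := by
  have h := A.u'_ee i
  rw [cj, inv_eq_of_mul_eq_one_right (A.u'_sq i)] at h
  rw [commutatorElement_def, inv_eq_of_mul_eq_one_right (A.ee_sq i), inv_eq_of_mul_eq_one_right (A.u'_sq i),
    show A.ee i * A.u' i * A.ee i * A.u' i = A.ee i * (A.u' i * A.ee i * A.u' i) by group, h, ← mul_assoc, A.ee_sq,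
    one_mul]

theorem cm_f (i : Fin 3) : ⁅A.f, A.ee i⁆ = A.u i :=
  comm_eq_of_cj (A.ee_sq i) (by rw [A.f_ee, ← A.u_ee_comm])

theorem cm_fl (i : Fin 3) : ⁅A.u i, A.fl i⁆ = A.f := by
  obtain ⟨-, h, -, -, -⟩ := A.braid i
  rw [cj, inv_eq_of_mul_eq_one_right (A.fl_sq i)] at h
  rw [commutatorElement_def, A.u_inv, inv_eq_of_mul_eq_one_right (A.fl_sq i),
    show A.u i * A.fl i * A.u i * A.fl i = A.u i * (A.fl i * A.u i * A.fl i) by group, h, ← mul_assoc, A.u_sq, one_mul]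

theorem cm_fle (i : Fin 3) : ⁅A.fl i, A.e⁆ = A.u' i := by
  obtain ⟨-, -, h, -, -⟩ := A.braid i
  rw [cj, inv_eq_of_mul_eq_one_right A.e_sq] at h
  rw [commutatorElement_def, inv_eq_of_mul_eq_one_right A.e_sq, inv_eq_of_mul_eq_one_right (A.fl_sq i),
    show A.fl i * A.e * A.fl i * A.e = A.fl i * (A.e * A.fl i * A.e) by group, h, ← mul_assoc, A.fl_u',
    mul_assoc, A.fl_sq, mul_one]

theorem cm_u'f (i : Fin 3) : ⁅A.u' i, A.f⁆ = A.fl i := by
  obtain ⟨-, -, -, h, h2⟩ := A.braid i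
  exact comm_eq_of_cj A.f_sq (by rw [h, h2])

theorem sq_six (i : Fin 3) (a b : Fin 3) :
    sixRoots A.e A.f (A.u i) (A.u' i) (A.ee i) (A.fl i) a b *
      sixRoots A.e A.f (A.u i) (A.u' i) (A.ee i) (A.fl i) a b = 1 := by
  fin_cases a <;> fin_cases b <;>
    simp [sixRoots, A.e_sq, A.f_sq, A.u_sq, A.u'_sq, A.ee_sq, A.fl_sq]

theorem sq_six' (i : Fin 3) (a b : Fin 3) :
    sixRoots (A.u i) (A.u' i) A.e A.f (A.ee i) (A.fl i) a b *
      sixRoots (A.u i) (A.u' i) A.e A.f (A.ee i) (A.fl i) a b = 1 := by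
  fin_cases a <;> fin_cases b <;>
    simp [sixRoots, A.e_sq, A.f_sq, A.u_sq, A.u'_sq, A.ee_sq, A.fl_sq]

theorem exists_pair (i : Fin 3) : ∃ Ψ : SpecialLinearGroup (Fin 3) F2 →* G, Ψ (emb01 (up 1)) = A.e ∧
    Ψ (emb01 (low 1)) = A.f ∧ Ψ (emb12 (up 1)) = A.u i ∧ Ψ (emb12 (low 1)) = A.u' i := by
  obtain ⟨-, -, -, -, h2⟩ := A.braid i
  exact exists_hom_six A.e A.f (A.u i) (A.u' i) (A.ee i) (A.fl i) (A.sq_six i) (A.ee_e i).symm
    (comm_of_cj (A.u'_e i)).symm (A.f_u i) h2 (A.u_ee_comm i).symm (A.fl_u' i) (A.cm_u i) (A.cm_ee i)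
    (A.cm_f i) (A.cm_fl i) (A.cm_fle i) (A.cm_u'f i)

theorem exists_pair' (i : Fin 3) : ∃ Ψ : SpecialLinearGroup (Fin 3) F2 →* G, Ψ (emb01 (up 1)) = A.u i ∧
    Ψ (emb01 (low 1)) = A.u' i ∧ Ψ (emb12 (up 1)) = A.e ∧ Ψ (emb12 (low 1)) = A.f := by
  obtain ⟨-, -, -, -, h2⟩ := A.braid i
  have rev : ∀ {a b c : G}, c * c = 1 → ⁅a, b⁆ = c → ⁅b, a⁆ = c := fun hc h => by
    rw [← commutatorElement_inv, h]; exact inv_eq_of_mul_eq_one_right hc
  exact exists_hom_six (A.u i) (A.u' i) A.e A.f (A.ee i) (A.fl i) (A.sq_six' i) (A.u_ee_comm i) (A.f_u i).symm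
    (comm_of_cj (A.u'_e i)) (A.fl_u' i).symm (A.ee_e i) h2.symm (rev (A.ee_sq i) (A.cm_u i))
    (rev (A.u_sq i) (A.cm_f i)) (rev A.e_sq (A.cm_ee i)) (rev (A.u'_sq i) (A.cm_fle i))
    (rev A.f_sq (A.cm_fl i)) (rev (A.fl_sq i) (A.cm_u'f i))

theorem exists_fam : ∃ D : DFam F2 G 4, D.ψ 1 (up 1) = A.e ∧ D.ψ 1 (low 1) = A.f ∧
    (D.ψ 0 (up 1) = A.u 0 ∧ D.ψ 0 (low 1) = A.u' 0) ∧ (D.ψ 2 (up 1) = A.u 1 ∧ D.ψ 2 (low 1) = A.u' 1) ∧
    (D.ψ 3 (up 1) = A.u 2 ∧ D.ψ 3 (low 1) = A.u' 2) := by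
  choose Ψ h1 h2 h3 h4 using A.exists_pair
  choose Θ k1 k2 k3 k4 using A.exists_pair'
  let ctr : SpecialLinearGroup (Fin 2) F2 →* G := (Ψ 0).comp emb01
  let leaf : Fin 3 → (SpecialLinearGroup (Fin 2) F2 →* G) := fun i => (Ψ i).comp emb12
  let lf : ℕ → Fin 3 := fun k => if k = 0 then 0 else if k = 2 then 1 else 2
  let ψ : ℕ → (SpecialLinearGroup (Fin 2) F2 →* G) := fun k => if k = 1 then ctr else leaf (lf k)
  have hc1 : ψ 1 = ctr := if_pos rfl
  have hl : ∀ k, k ≠ 1 → ψ k = leaf (lf k) := fun k hk => if_neg hk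
  refine ⟨{ ψ := ψ, pair := ?_, far := ?_ }, h1 0, h2 0, ⟨h3 0, h4 0⟩, ⟨h3 1, h4 1⟩, ⟨h3 2, h4 2⟩⟩
  · intro i j hi hj h
    have hcases : (i = 1 ∧ j ≠ 1) ∨ (j = 1 ∧ i ≠ 1) := by unfold Cfsg.Agent.CTRec.DAdj at h; omega
    rcases hcases with ⟨rfl, hj1⟩ | ⟨rfl, hi1⟩
    · refine ⟨Ψ (lf j), ?_, (hl j hj1).symm⟩
      rw [hc1]
      exact sl2_hom_eq ((h1 (lf j)).trans (h1 0).symm) ((h2 (lf j)).trans (h2 0).symm)
    · refine ⟨Θ (lf i), ?_, ?_⟩
      · rw [hl i hi1]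
        exact sl2_hom_eq ((k1 _).trans (h3 _).symm) ((k2 _).trans (h4 _).symm)
      · rw [hc1]
        exact sl2_hom_eq ((k3 _).trans (h1 0).symm) ((k4 _).trans (h2 0).symm)
  · intro i j hi hj hij h x y
    have hi1 : i ≠ 1 := fun e => h (by unfold Cfsg.Agent.CTRec.DAdj; omega)
    have hj1 : j ≠ 1 := fun e => h (by unfold Cfsg.Agent.CTRec.DAdj; omega)
    have hne : lf i ≠ lf j := by
      intro e
      have : ∀ k, k < 4 → k ≠ 1 → k = ![0, 2, 3] (lf k) := by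
        intro k hk hk1
        rcases (show k = 0 ∨ k = 2 ∨ k = 3 by omega) with rfl | rfl | rfl <;> rfl
      exact hij ((this i hi hi1).trans ((congrArg _ e).trans (this j hj hj1).symm))
    show Commute (ψ i x) (ψ j y)
    rw [hl i hi1, hl j hj1]
    exact sl2_commute (h3 _) (h4 _) (h3 _) (h4 _) (A.u_comm _ _) (A.u_u'_comm hne.symm) (A.u_u'_comm hne).symm
      (A.u'_u'_comm hne) x y

/-- the generators lie in a subgroup; then so do the centralizer and the named elements -/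
theorem mem_of_gens (H : Subgroup G) (he : A.e ∈ H) (hf : A.f ∈ H) (hu : ∀ i, A.u i ∈ H)
    (hu' : ∀ i, A.u' i ∈ H) : (∀ i, A.a i ∈ H) ∧ A.x ∈ H ∧ (∀ i, A.z i ∈ H) ∧ (∀ i, A.ee i ∈ H) ∧ t ∈ H ∧
      centralizer ({t} : Set G) ≤ H := by
  have ha : ∀ i, A.a i ∈ H := by
    intro i
    have e1 : A.u' i * A.u i = A.a i * A.a i := by
      calc A.u' i * A.u i = A.a i * (A.u i * (A.a i)⁻¹ * (A.u i)⁻¹) * (A.u i * A.u i) := by
            simp only [u', cj]; group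
        _ = A.a i * A.a i := by
          rw [show A.u i * (A.a i)⁻¹ * (A.u i)⁻¹ = (cj (A.u i) (A.a i))⁻¹ by simp only [cj]; group, A.ua i, inv_inv,
            A.u_sq, mul_one]
    have e2 : A.a i = A.u' i * A.u i * (A.u' i * A.u i) := by
      rw [e1]
      calc A.a i = A.a i * A.a i * A.a i * A.a i := by rw [A.a3 i, one_mul]
        _ = _ := by group
    rw [e2]
    exact mul_mem (mul_mem (hu' i) (hu i)) (mul_mem (hu' i) (hu i))
  have hw : A.w0 ∈ H := mul_mem (mul_mem he hf) he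
  have hcj : ∀ {a q : G}, a ∈ H → q ∈ H → cj a q ∈ H := fun ha hq => mul_mem (mul_mem ha hq) (inv_mem ha)
  have hee : ∀ i, A.ee i ∈ H := fun i => A.w0_u i ▸ hcj hw (hu i)
  have hz : ∀ i, A.z i ∈ H := by
    intro i
    obtain ⟨j, rfl⟩ : ∃ j, i = j + 2 := ⟨i + 1, (idx_a i).symm⟩
    rw [← A.D_ee₁ j]
    exact mul_mem (inv_mem (hee j)) (hcj (hu _) (hee j))
  have hx : A.x ∈ H := by
    rw [← A.D_z 0]
    exact mul_mem (inv_mem (hz 0)) (hcj (hu 0) (hz 0))
  have ht : t ∈ H := by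
    rw [← A.x_e, commutatorElement_def]
    exact mul_mem (mul_mem (mul_mem hx he) (inv_mem hx)) (inv_mem he)
  -- Q
  have hQ : ∀ q ∈ Q, q ∈ H := by
    intro q hq
    classical
    have P := A.toPre
    let d : ℕ := if q * A.x = A.x * q then 0 else 1
    let b : Fin 3 → ℕ := fun j => if q * A.z j = A.z j * q then 0 else 1
    set E := A.e ^ d * (A.ee 0 ^ b 0 * A.ee 1 ^ b 1 * A.ee 2 ^ b 2) with hE
    have mb : ∀ k, A.ee k ^ b k ∈ Q := fun k => pow_mem (A.ee_mem k) _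
    have mE1 : A.ee 0 ^ b 0 * A.ee 1 ^ b 1 * A.ee 2 ^ b 2 ∈ Q := mul_mem (mul_mem (mb 0) (mb 1)) (mb 2)
    have md : A.e ^ d ∈ Q := pow_mem A.e_mem _
    have mE : E ∈ Q := mul_mem md mE1
    have one_of : ∀ {a b : G}, a * b = b * a → ⁅a, b⁆ = 1 := fun h => commutatorElement_eq_one_iff_mul_comm.2 h
    have hqx : q * E * A.x = A.x * (q * E) := by
      refine commutatorElement_eq_one_iff_mul_comm.1 ?_
      have e0 : ∀ k, ⁅A.ee k ^ b k, A.x⁆ = 1 := fun k =>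
        one_of ((show Commute (A.ee k) A.x from (A.x_ee k).symm).pow_left _).eq
      rw [A.toPre.comm_mul hq mE A.x_mem, hE, A.toPre.comm_mul md mE1 A.x_mem,
        A.toPre.comm_mul (mul_mem (mb 0) (mb 1)) (mb 2) A.x_mem, A.toPre.comm_mul (mb 0) (mb 1) A.x_mem, e0, e0, e0,
        mul_one, mul_one, mul_one]
      simp only [d]
      split
      · rename_i h; rw [one_of h]; simp
      · rename_i h
        rw [(M.S.h.comm_cases hq A.x_mem).resolve_left fun e => h (commutatorElement_eq_one_iff_mul_comm.1 e),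
          pow_one, A.toPre.comm_symm A.x_mem A.e_mem, A.x_e, A.t_t]
    have hqz : ∀ j, q * E * A.z j = A.z j * (q * E) := by
      intro j
      refine commutatorElement_eq_one_iff_mul_comm.1 ?_
      have e0 : ∀ k, ⁅A.ee k ^ b k, A.z j⁆ = if k = j ∧ b k ≠ 0 then t else 1 := by
        intro k
        rcases (show b k = 0 ∨ b k = 1 by simp only [b]; split <;> omega) with e | e <;> rw [e]
        · simp
        · rw [pow_one, A.toPre.comm_symm (A.z_mem j) (A.ee_mem k)]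
          split
          · rename_i hh; rw [hh.1]; exact A.z_ee j
          · rename_i hh; exact one_of (A.z_ee_ne fun e => hh ⟨e, one_ne_zero⟩)
      have ed : ⁅A.e ^ d, A.z j⁆ = 1 := one_of ((show Commute A.e _ from (A.z_e j).symm).pow_left _).eq
      have et : ⁅A.ee 0 ^ b 0, A.z j⁆ * ⁅A.ee 1 ^ b 1, A.z j⁆ * ⁅A.ee 2 ^ b 2, A.z j⁆ = if b j = 0 then 1 else t := by
        rw [e0, e0, e0]
        fin_cases j <;> simp
      rw [A.toPre.comm_mul hq mE (A.z_mem j), hE, A.toPre.comm_mul md mE1 (A.z_mem j),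
        A.toPre.comm_mul (mul_mem (mb 0) (mb 1)) (mb 2) (A.z_mem j),
        A.toPre.comm_mul (mb 0) (mb 1) (A.z_mem j), ed, one_mul, et]
      by_cases h : q * A.z j = A.z j * q
      · rw [one_of h, show b j = 0 from if_pos h, if_pos rfl, one_mul]
      · rw [(M.S.h.comm_cases hq (A.z_mem j)).resolve_left fun e => h (commutatorElement_eq_one_iff_mul_comm.1 e),
          show b j = 1 from if_neg h, if_neg one_ne_zero, A.t_t]
    obtain ⟨c, n, r, hr, -, e, -, -⟩ := A.coords (mul_mem hq mE) hqx hqz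
    have hEH : E ∈ H :=
      mul_mem (pow_mem he _) (mul_mem (mul_mem (pow_mem (hee 0) _) (pow_mem (hee 1) _)) (pow_mem (hee 2) _))
    have hr' : r ∈ H := by rcases hr with rfl | rfl; exacts [one_mem _, ht]
    have : q * E ∈ H := e ▸ mul_mem (mul_mem hr' (pow_mem hx _))
      (mul_mem (mul_mem (pow_mem (hz 0) _) (pow_mem (hz 1) _)) (pow_mem (hz 2) _))
    exact (Subgroup.mul_mem_cancel_right H hEH).1 this
  refine ⟨ha, hx, hz, hee, ht, fun c hc => ?_⟩
  set c' : ↥(centralizer ({t} : Set G)) := ⟨c, hc⟩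
  have lift : ∀ i (τ : Perm (Fin 3)), ∃ l : ↥(centralizer ({t} : Set G)), (l : G) ∈ H ∧
      M.S.proj l = Pi.mulSingle i τ := by
    intro i τ
    let al : ↥(centralizer ({t} : Set G)) := ⟨A.a i, LargeExtra.mem_centralizer_one.2 (A.a_t i)⟩
    let ul : ↥(centralizer ({t} : Set G)) := ⟨A.u i, LargeExtra.mem_centralizer_one.2 (A.u_t i)⟩
    have ea : M.S.proj al = Pi.mulSingle i (finRotate 3) := A.pa i _
    have eu : M.S.proj ul = Pi.mulSingle i (σ i) := A.pu i _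
    rcases perm_gen (σ i) τ (A.invs i).2 (A.invs i).1 with e | e | e | e | e | e <;> subst e
    · exact ⟨1, one_mem _, by rw [map_one, Pi.mulSingle_one]⟩
    · exact ⟨al, ha i, ea⟩
    · exact ⟨al * al, mul_mem (ha i) (ha i), by rw [map_mul, ea, Pi.mulSingle_mul]⟩
    · exact ⟨ul, hu i, eu⟩
    · exact ⟨ul * al, mul_mem (hu i) (ha i), by rw [map_mul, ea, eu, Pi.mulSingle_mul]⟩
    · exact ⟨ul * (al * al), mul_mem (hu i) (mul_mem (ha i) (ha i)),
        by rw [map_mul, map_mul, ea, eu, ← Pi.mulSingle_mul, ← Pi.mulSingle_mul]⟩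
  choose l hlH hl using fun i => lift i (M.S.proj c' i)
  have hker : (((l 0 * l 1 * l 2)⁻¹ * c' : ↥(centralizer ({t} : Set G))) : G) ∈ Q := (M.S.ker _).1 (by
    rw [map_mul, map_inv, inv_mul_eq_one, map_mul, map_mul, hl, hl, hl]
    funext j
    fin_cases j <;> simp)
  have := mul_mem (mul_mem (mul_mem (hlH 0) (hlH 1)) (hlH 2)) (hQ _ hker)
  simp only [coe_mul, coe_inv, mul_inv_cancel_left] at this
  exact this

end Amal

theorem omega_simple : IsSimpleGroup ↥(Cfsg.Omega F2 (⇑(qPlus F2 4))) := by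
  haveI := Orth.pomega_congr (Orth.qPlus_nondeg (F := F2) 4) (by simp)
  have hc : Subgroup.center ↥(Cfsg.Omega F2 (⇑(qPlus F2 4))) = ⊥ := by
    refine (Subgroup.eq_bot_iff_forall _).2 fun g hg => ?_
    obtain ⟨a, ha, hga⟩ := (Orth.center_omega_iff (Orth.qPlus_nondeg (F := F2) 4) (by simp) g).1 hg
    rcases zmod_two_cases a with rfl | rfl
    · exact absurd ha (by decide)
    · rw [one_smul] at hga
      exact Subtype.ext (Subtype.ext (Units.ext hga))
  exact MulEquiv.isSimpleGroup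
    ((QuotientGroup.quotientBot).symm.trans (QuotientGroup.quotientMulEquivOfEq hc.symm)
      : ↥(Cfsg.Omega F2 (⇑(qPlus F2 4))) ≃*
        ↥(Cfsg.Omega F2 (⇑(qPlus F2 4))) ⧸ Subgroup.center ↥(Cfsg.Omega F2 (⇑(qPlus F2 4))))

theorem qPlus_coe (n : ℕ) : (⇑(qPlus F2 n) : (Fin n ⊕ Fin n → F2) → F2) = Cfsg.quadFormPlus n F2 :=
  funext fun v => by rw [CTRec.DModel.qPlus_eq]; rfl

/-- **Recognition.** The centralizer lies in a subgroup isomorphic to `Ω⁺(8,2)`; the eight generators go to the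
root elements of the nodes. -/
theorem exists_omega {Q : Subgroup G} {t g : G} (M : Meet Q t g) :
    ∃ (σ : Fin 3 → Perm (Fin 3)) (A : Amal M σ) (H : Subgroup G) (_ : centralizer ({t} : Set G) ≤ H)
      (φ : ↥H ≃* ↥(Cfsg.Omega F2 (Cfsg.quadFormPlus 4 F2))) (ψ : ℕ → (SpecialLinearGroup (Fin 2) F2 →* G)),
      ((ψ 1 (up 1) = A.e ∧ ψ 1 (low 1) = A.f) ∧ (ψ 0 (up 1) = A.u 0 ∧ ψ 0 (low 1) = A.u' 0) ∧
        (ψ 2 (up 1) = A.u 1 ∧ ψ 2 (low 1) = A.u' 1) ∧ (ψ 3 (up 1) = A.u 2 ∧ ψ 3 (low 1) = A.u' 2)) ∧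
      (∃ m ∈ H, m * t * m⁻¹ = A.e) ∧
      ∀ i < 4, ∀ x, ∃ h : ψ i x ∈ H,
        ((φ ⟨ψ i x, h⟩ : Cfsg.isometryGroup F2 (Cfsg.quadFormPlus 4 F2)) : GL (Fin 4 ⊕ Fin 4) F2) =
          (node (F := F2) (n := 4) le_rfl i x : GL (Fin 4 ⊕ Fin 4) F2) := by
  obtain ⟨σ, ⟨F⟩⟩ := exists_frame M M.fpf
  obtain ⟨A⟩ := exists_amal F
  obtain ⟨D, he, hf, ⟨h0, h0'⟩, ⟨h1, h1'⟩, ⟨h2, h2'⟩⟩ := A.exists_fam
  haveI := Fintype.ofFinite G
  have hn : 4 ≤ 4 := le_rfl
  set P := CTRec.prodFam hn D with hP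
  set R := P.rig with hR
  have st := R.stage (show 3 ≤ 4 by omega) 1 0 rfl
  let Δ := R.Lv 0
  let p1 : ↥Δ →* G := (MonoidHom.fst G (Iso F2 4)).comp Δ.subtype
  let p2 : ↥Δ →* Iso F2 4 := (MonoidHom.snd G (Iso F2 4)).comp Δ.subtype
  have mem : ∀ {i}, i < 4 → ∀ x, (D.ψ i x, node hn i x) ∈ Δ := fun hi x => P.range_le_Lv hi ⟨x, rfl⟩
  have hp2 : p2.range = Cfsg.Omega F2 (⇑(qPlus F2 4)) := by
    rw [← CTRec.DModel.image_eq hn]
    refine le_antisymm ?_ (iSup₂_le fun i hi => by rintro _ ⟨x, rfl⟩; exact ⟨⟨_, mem hi x⟩, rfl⟩)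
    rintro _ ⟨⟨g', hg'⟩, rfl⟩
    have hle : R.Lv 0 ≤ (CTRec.DModel.image (F := F2) hn).comap (MonoidHom.snd G (Iso F2 4)) := by
      refine R.Lv_le (fun i _ hi => ⟨?_, ?_⟩) (P.TT_le fun i hi u => CTRec.DModel.node_mem hn hi (CTRec.dgHom u)) <;>
        (rintro _ ⟨x, -, rfl⟩; exact CTRec.DModel.node_mem hn hi x)
    exact hle hg'
  have hker : ∀ g' : ↥Δ, p2 g' = 1 → g'.1 ∈ R.P 0 := by
    intro g' hg
    have hg2 : g'.1.2 = 1 := hg
    rcases st.cover g'.1 g'.2 with h | ⟨a, ha, b, hb, e⟩ | ⟨a, ha, b, hb, e⟩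
    · exact h
    all_goals
      exfalso
      have h2 : (a⁻¹ * g'.1 * b⁻¹).2 = a.2⁻¹ * b.2⁻¹ := by simp [hg2]
    · rw [show a⁻¹ * g'.1 * b⁻¹ = R.w 0 by rw [e]; group] at h2
      exact CTRec.w_not_line hn D (a⁻¹ * b⁻¹) h2.symm
        (CTRec.P_le_line hn D (mul_mem (inv_mem ha) (inv_mem hb)))
    · rw [show a⁻¹ * g'.1 * b⁻¹ = R.mm 0 by rw [e]; group] at h2
      exact CTRec.mm_not_line hn D (a⁻¹ * b⁻¹) h2.symm
        (CTRec.P_le_line hn D (mul_mem (inv_mem ha) (inv_mem hb)))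
  set H := p1.range with hH
  have hmem : ∀ {i}, i < 4 → ∀ x, D.ψ i x ∈ H := fun hi x => ⟨⟨_, mem hi x⟩, rfl⟩
  have gu : ∀ i, A.u i ∈ H := by
    intro i; fin_cases i
    exacts [h0 ▸ hmem (by norm_num) _, h1 ▸ hmem (by norm_num) _, h2 ▸ hmem (by norm_num) _]
  have gu' : ∀ i, A.u' i ∈ H := by
    intro i; fin_cases i
    exacts [h0' ▸ hmem (by norm_num) _, h1' ▸ hmem (by norm_num) _, h2' ▸ hmem (by norm_num) _]
  have ge : A.e ∈ H := he ▸ hmem (by norm_num) _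
  have gf : A.f ∈ H := hf ▸ hmem (by norm_num) _
  obtain ⟨ga, gx, gz, gee, gt, gC⟩ := A.mem_of_gens H ge gf gu gu'
  have gw : A.w0 ∈ H := mul_mem (mul_mem ge gf) ge
  -- the kernel of the second projection
  let K : Subgroup G := p2.ker.map p1
  have hHK : H ≤ normalizer (K : Set G) := by
    rintro _ ⟨y, rfl⟩
    refine mem_normalizer_iff.2 fun k => ⟨?_, fun hk => ?_⟩
    · rintro ⟨x, hx, rfl⟩
      exact ⟨y * x * y⁻¹, (inferInstance : p2.ker.Normal).conj_mem x hx y, by simp [map_mul]⟩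
    · obtain ⟨x, hx, ex⟩ := hk
      refine ⟨y⁻¹ * x * y, ?_, by rw [map_mul, map_mul, map_inv, ex]; group⟩
      have := (inferInstance : p2.ker.Normal).conj_mem x hx y⁻¹
      simpa using this
  have hQK : Q ≤ normalizer (K : Set G) := fun q hq => hHK (gC (M.S.mem_C hq))
  have hcjK : ∀ {a k : G}, a ∈ H → k ∈ K → cj a k ∈ K := fun ha hk => LargeExtra.conj_mem (hHK ha) hk
  let A3 : G := A.a 0 * A.a 1 * A.a 2
  have gA3 : A3 ∈ H := mul_mem (mul_mem (ga 0) (ga 1)) (ga 2)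
  have hK : K = ⊥ := by
    rcases Nat.even_or_odd (Nat.card K) with hev | hodd
    · exfalso
      have tK : t ∈ K := M.S.h.mem_of_normalized hQK hev
      have xK : A.x ∈ K := A.w0_t ▸ hcjK gw tK
      have eK : A.e ∈ K := hcjK gA3 xK
      have fK : A.f ∈ K := A.w0_e ▸ hcjK gw eK
      have eeK : ∀ i, A.ee i ∈ K := fun i => hcjK (mul_mem (ga _) (ga _)) xK
      have uK : ∀ i, A.u i ∈ K := fun i => A.w0_ee i ▸ hcjK gw (eeK i)
      have u'K : ∀ i, A.u' i ∈ K := fun i => hcjK (ga i) (uK i)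
      let V : Subgroup G := (R.U 0).map (MonoidHom.fst G (Iso F2 4))
      have hPU : R.P 0 ≤ CTRec.stab (R.U 0) := sup_le (CTRec.self_le_stab _) (R.Lv_stab_U 0)
      have hKV : ∀ k ∈ K, ∀ v ∈ V, k * v * k⁻¹ ∈ V := by
        rintro _ ⟨x, hx, rfl⟩ _ ⟨u, hu, rfl⟩
        exact ⟨x.1 * u * x.1⁻¹, CTRec.mem_stab.1 (hPU (hker x hx)) ▸ CTRec.conj_mem_cg hu, rfl⟩
      have hKn : K ≤ normalizer (V : Set G) := fun k hk => mem_normalizer_iff.2 fun v =>
        ⟨fun hv => hKV k hk v hv, fun hv => by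
          have := hKV k⁻¹ (inv_mem hk) _ hv
          rwa [show k⁻¹ * (k * v * k⁻¹) * k⁻¹⁻¹ = v by group] at this⟩
      obtain ⟨-, -, -, -, -, hC⟩ := A.mem_of_gens K eK fK uK u'K
      have uV : A.u 0 ∈ V := ⟨(D.ψ 0 (up 1), node hn 0 (up 1)), R.X_le_U 0 ⟨up 1, ⟨1, rfl⟩, rfl⟩, h0⟩
      have hu1 : A.u 0 ≠ 1 := fun e => by
        have := A.D_z 0
        rw [show A.toPre.D 0 (A.z 0) = (A.z 0)⁻¹ * cj (A.u 0) (A.z 0) from rfl, e, cj_one_left,
          inv_mul_cancel] at this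
        exact M.x_ne_one this.symm
      have hVev : Even (Nat.card V) := by
        refine even_iff_two_dvd.2 ?_
        have h := Subgroup.orderOf_dvd_natCard V uV
        rwa [orderOf_eq_prime (p := 2) (by rw [pow_two]; exact A.u_sq 0) hu1] at h
      have tV : t ∈ V := M.S.h.mem_of_normalized (fun q hq => hKn (hC (M.S.mem_C hq))) hVev
      have cV : ∀ {a v : G}, a ∈ K → v ∈ V → cj a v ∈ V := fun ha hv => LargeExtra.conj_mem (hKn ha) hv
      have hC' := A.mem_of_gens K eK fK uK u'K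
      have xV : A.x ∈ V := A.w0_t ▸ cV (mul_mem (mul_mem eK fK) eK) tV
      have zV : A.z 0 ∈ V := cV (hC'.1 0) xV
      obtain ⟨a, ha, ea⟩ := uV
      obtain ⟨b, hb, eb⟩ := zV
      have hcomm : A.u 0 * A.z 0 = A.z 0 * A.u 0 := by
        rw [← ea, ← eb, ← map_mul, ← map_mul, (st.U_ab a ha b hb).eq]
      have := A.u_z 0
      rw [cj_of_comm hcomm] at this
      exact M.x_ne_one (mul_eq_left.1 this.symm)
    · -- three commuting conjugates of `t` invert the kernel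
      have inv : ∀ m ∈ H, ∀ k ∈ K, cj (cj m t) k = k⁻¹ := by
        intro m hm k hk
        have h := conj_eq_inv M.S.h.sq (hQK M.S.h.mem)
          (fun k hk hc => M.S.h.fix_trivial hodd hQK hk hc) (hcjK (inv_mem hm) hk)
        rw [show cj (cj m t) k = cj m (cj t (cj m⁻¹ k)) by simp only [cj]; group, show cj t (cj m⁻¹ k) = (cj m⁻¹ k)⁻¹
          from h]
        simp only [cj]; group
      refine (Subgroup.eq_bot_iff_forall _).2 fun k hk => ?_
      have i1 : cj t k = k⁻¹ := by simpa using inv 1 (one_mem _) k hk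
      have i2 : cj A.x k = k⁻¹ := A.w0_t ▸ inv A.w0 gw k hk
      have i3 : cj (A.x * t) k = k⁻¹ := by
        rw [← A.cj_e_x, ← A.w0_t, ← cj_mul]
        exact inv _ (mul_mem ge gw) k hk
      rw [cj_mul, i1, show cj A.x k⁻¹ = (cj A.x k)⁻¹ by simp only [cj]; group, i2, inv_inv] at i3
      exact eq_one_of_sq hodd hk (by nth_rw 1 [i3]; rw [inv_mul_cancel])
  -- the isomorphism
  haveI hs := omega_simple
  let q : ↥Δ →* ↥(Cfsg.Omega F2 (⇑(qPlus F2 4))) := p2.codRestrict _ fun x => hp2 ▸ ⟨x, rfl⟩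
  have hqi : Function.Injective q := by
    refine (injective_iff_map_eq_one q).2 fun x hx => ?_
    have h2 : p2 x = 1 := congrArg Subtype.val hx
    have h1 : p1 x = 1 := by
      have : p1 x ∈ K := ⟨x, h2, rfl⟩
      rwa [hK, Subgroup.mem_bot] at this
    exact Subtype.ext (Prod.ext h1 h2)
  have hqs : Function.Surjective q := fun y => by
    obtain ⟨x, hx⟩ := (hp2.symm ▸ y.2 : y.1 ∈ p2.range)
    exact ⟨x, Subtype.ext hx⟩
  let eΔ := MulEquiv.ofBijective q ⟨hqi, hqs⟩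
  haveI hsΔ : IsSimpleGroup ↥Δ := eΔ.isSimpleGroup
  have hp1 : Function.Injective p1 := by
    rcases (inferInstance : p1.ker.Normal).eq_bot_or_eq_top with h | h
    · exact (MonoidHom.ker_eq_bot_iff p1).1 h
    · exfalso
      obtain ⟨y, hy⟩ := (gt : t ∈ p1.range)
      have : p1 y = 1 := MonoidHom.mem_ker.1 (h ▸ mem_top y)
      exact M.S.h.ne_one (hy ▸ this)
  let eH : ↥H ≃* ↥Δ := (MonoidHom.ofInjective hp1).symm
  have key : ∀ {i}, (hi : i < 4) → ∀ x, (eΔ (eH ⟨D.ψ i x, hmem hi x⟩) : Iso F2 4) = node hn i x := by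
    intro i hi x
    have e1 : eH ⟨D.ψ i x, hmem hi x⟩ = ⟨_, mem hi x⟩ := by
      rw [MulEquiv.symm_apply_eq]
      exact Subtype.ext rfl
    rw [e1]; rfl
  have gm : A3 * A.w0 ∈ H := mul_mem gA3 gw
  have hm : A3 * A.w0 * t * (A3 * A.w0)⁻¹ = A.e := by
    show cj (A3 * A.w0) t = A.e
    rw [cj_mul, A.w0_t]
  have hq : ∀ f : (Fin 4 ⊕ Fin 4 → F2) → F2, (⇑(qPlus F2 4) = f) →
      ∃ φ : ↥H ≃* ↥(Cfsg.Omega F2 f), ∀ i, (hi : i < 4) → ∀ x,
        ((φ ⟨D.ψ i x, hmem hi x⟩ : Cfsg.isometryGroup F2 f) : GL (Fin 4 ⊕ Fin 4) F2) =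
          (node (F := F2) (n := 4) le_rfl i x : GL (Fin 4 ⊕ Fin 4) F2) := by
    rintro f rfl
    exact ⟨eH.trans eΔ, fun i hi x => congrArg (fun z : Iso F2 4 => (z : GL (Fin 4 ⊕ Fin 4) F2)) (key hi x)⟩
  obtain ⟨φ, hφ⟩ := hq _ (qPlus_coe 4)
  exact ⟨σ, A, H, gC, φ, D.ψ, ⟨⟨he, hf⟩, ⟨h0, h0'⟩, ⟨h1, h1'⟩, ⟨h2, h2'⟩⟩, ⟨A3 * A.w0, gm, hm⟩,
    fun i hi x => ⟨hmem hi x, hφ i hi x⟩⟩

end Cfsg.Agent.Omega8Rec
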