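import Cfsg.Agent.Lib.Omega8Rec.Model
import Cfsg.Agent.Lib.Omega8Rec.Closed.Main

/-!
The code of the central node of the model.
-/

set_option autoImplicit false

namespace Cfsg.Agent.Omega8Rec

open Matrix
open Cfsg.Agent.CTRec.DModel (node)
open SL2Pres (up)

theorem node_code {g : Closed.Gam}
    (h : ((g : Cfsg.isometryGroup (ZMod 2) (Cfsg.quadFormPlus 4 (ZMod 2))) : GL (Fin 4 ⊕ Fin 4) (ZMod 2)) =
      (node (F := ZMod 2) (n := 4) le_rfl 1 (up 1) : GL (Fin 4 ⊕ Fin 4) (ZMod 2))) :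
    Closed.code g = Closed.e0Key := by
  unfold Closed.code Closed.gmat
  rw [h, (CTRec.DModel.node_low_vals (F := ZMod 2) (n := 4) le_rfl (show 1 + 1 < 4 by norm_num) 1).1]
  decide +kernel

end Cfsg.Agent.Omega8Rec
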