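import Cfsg.Agent.Lib.Omega8Rec.Base

/-!
A torus of order 27 of the centralizer and the displacements of the three reflections on `Q`.
-/

set_option autoImplicit false
set_option linter.unusedSectionVars false
set_option linter.style.haveILetI false

namespace Cfsg.Agent.Omega8Rec

open Subgroup Equiv
open Cfsg.Agent.LargeExtra
open scoped commutatorElement

variable {G : Type*} [Group G] [Finite G]

theorem perm_sign_cube : ∀ σ : Perm (Fin 3), σ * σ * σ = 1 ↔ Perm.sign σ = 1 := by decide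

theorem perm_conj_rot : ∀ σ : Perm (Fin 3), σ * σ = 1 → σ ≠ 1 →
    σ * finRotate 3 * σ⁻¹ = (finRotate 3)⁻¹ := by decide

theorem perm_rot_facts : finRotate 3 * finRotate 3 * finRotate 3 = 1 ∧ finRotate 3 ≠ 1 := by decide

set_option maxRecDepth 8000 in
theorem perm_gen : ∀ σ τ : Perm (Fin 3), σ * σ = 1 → σ ≠ 1 → τ = 1 ∨ τ = finRotate 3 ∨
    τ = finRotate 3 * finRotate 3 ∨ τ = σ ∨ τ = σ * finRotate 3 ∨ τ = σ * (finRotate 3 * finRotate 3) := by
  decide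

set_option maxRecDepth 8000 in
theorem perm_six : ∀ σ : Perm (Fin 3), σ * σ * σ * (σ * σ * σ) = 1 := by decide

theorem cube_of_pow {σ : Perm (Fin 3)} (h : σ ^ 27 = 1) : σ * σ * σ = 1 := by
  have h6 : σ ^ 6 = 1 := by
    simp only [pow_succ, pow_zero, one_mul]
    simpa only [mul_assoc] using perm_six σ
  have := (pow_gcd_eq_one (a := σ)).2 ⟨h, h6⟩
  rw [show Nat.gcd 27 6 = 3 by rfl] at this
  rw [← this]; simp [pow_succ]

/-- the signs of the three factors -/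
def signs : P3 →* (Fin 3 → ℤˣ) where
  toFun σ i := Perm.sign (σ i)
  map_one' := by funext i; simp
  map_mul' a b := by funext i; simp

theorem card_signs_ker : Nat.card (signs.ker : Subgroup P3) = 27 := by
  have e : (signs.ker : Subgroup P3) ≃ (Fin 3 → {s : Perm (Fin 3) // Perm.sign s = 1}) :=
    { toFun := fun v i => ⟨v.1 i, congrFun (v.2 : signs v.1 = 1) i⟩
      invFun := fun f => ⟨fun i => (f i).1, funext fun i => (f i).2⟩
      left_inv := fun v => rfl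
      right_inv := fun f => rfl }
  rw [Nat.card_congr e, Nat.card_fun, Nat.card_fin, Nat.card_eq_fintype_card,
    show Fintype.card {s : Perm (Fin 3) // Perm.sign s = 1} = 3 by decide]
  rfl

/-- conjugation -/
def cj (c q : G) : G := c * q * c⁻¹

/-- displacement -/
abbrev del (c q : G) : G := q⁻¹ * cj c q

/-- A torus with three reflections normalising it. -/
structure Pre {Q : Subgroup G} {t : G} (S : Cent Q t) (σ : Fin 3 → Perm (Fin 3)) where
  a : Fin 3 → G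
  u : Fin 3 → G
  a_t : ∀ i, a i * t = t * a i
  u_t : ∀ i, u i * t = t * u i
  a3 : ∀ i, a i * a i * a i = 1
  aa : ∀ i j, a i * a j = a j * a i
  ua : ∀ i, cj (u i) (a i) = (a i)⁻¹
  ua' : ∀ i j, i ≠ j → u i * a j = a j * u i
  u2 : ∀ i, u i * u i = 1 ∨ u i * u i = t
  uu : ∀ i j, u i * u j * (u i)⁻¹ * (u j)⁻¹ = 1 ∨ u i * u j * (u i)⁻¹ * (u j)⁻¹ = t
  fpf : ∀ i, ∀ q ∈ Q, a i * q = q * a i → q = 1 ∨ q = t
  pa : ∀ i (h : a i ∈ centralizer ({t} : Set G)), S.proj ⟨a i, h⟩ = Pi.mulSingle i (finRotate 3)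
  pu : ∀ i (h : u i ∈ centralizer ({t} : Set G)), S.proj ⟨u i, h⟩ = Pi.mulSingle i (σ i)

theorem Cent.card_C {Q : Subgroup G} {t : G} (S : Cent Q t) :
    Nat.card ↥(centralizer ({t} : Set G)) = 2 ^ 12 * 3 ^ 3 := by
  rw [← S.proj.ker.card_mul_index, Subgroup.index_ker, S.proj.range_eq_top_of_surjective S.surj, card_top,
    card_p3]
  have e : S.proj.ker ≃ Q :=
    { toFun := fun c => ⟨(c.1 : G), (S.ker _).1 c.2⟩
      invFun := fun q => ⟨⟨q.1, S.mem_C q.2⟩, (S.ker _).2 q.2⟩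
      left_inv := fun c => rfl
      right_inv := fun q => rfl }
  rw [Nat.card_congr e, S.card]
  norm_num

theorem exists_pre {Q : Subgroup G} {t : G} (S : Cent Q t) (hf : S.Fpf) (σ : Fin 3 → Perm (Fin 3))
    (hσ : ∀ i, σ i ≠ 1 ∧ σ i * σ i = 1) : Nonempty (Pre S σ) := by
  classical
  haveI : Fact (Nat.Prime 3) := ⟨Nat.prime_three⟩
  haveI : Fact (Nat.Prime 2) := ⟨Nat.prime_two⟩
  set C := centralizer ({t} : Set G)
  let T : Sylow 3 C := default
  have hT : Nat.card T = 27 := by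
    rw [T.card_eq_multiplicity, S.card_C, Nat.factorization_mul (by norm_num) (by norm_num),
      Finsupp.add_apply, Nat.Prime.factorization_pow Nat.prime_two, Nat.Prime.factorization_pow Nat.prime_three]
    simp
  have hpow : ∀ c ∈ (T : Subgroup C), c ^ 27 = 1 := fun c hc => by
    have := pow_card_eq_one' (G := (T : Subgroup C)) (x := ⟨c, hc⟩)
    rw [hT] at this
    exact congrArg Subtype.val this
  have hQT : ∀ c ∈ (T : Subgroup C), (c : G) ∈ Q → c = 1 := fun c hc hq => by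
    apply Subtype.ext
    have h1 : ((c : G)) ^ 27 = 1 := congrArg Subtype.val (hpow c hc)
    have h2 : ((c : G)) ^ (2 ^ 9) = 1 := by
      have := pow_card_eq_one' (G := Q) (x := ⟨c, hq⟩)
      rw [S.card] at this
      exact congrArg Subtype.val this
    have := (pow_gcd_eq_one (a := (c : G))).2 ⟨h1, h2⟩
    rw [show Nat.gcd 27 (2 ^ 9) = 1 by rfl, pow_one] at this
    exact this
  have hinj : ∀ c ∈ (T : Subgroup C), ∀ d ∈ (T : Subgroup C), S.proj c = S.proj d → c = d := by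
    intro c hc d hd e
    have : S.proj (c * d⁻¹) = 1 := by rw [map_mul, map_inv, e, mul_inv_cancel]
    exact mul_inv_eq_one.1 (hQT _ (mul_mem hc (inv_mem hd)) ((S.ker _).1 this))
  let s : C →* (Fin 3 → ℤˣ) := signs.comp S.proj
  have hTN : (T : Subgroup C) ≤ s.ker := fun c hc => funext fun i => by
    refine (perm_sign_cube _).1 (cube_of_pow ?_)
    exact congrFun ((map_pow S.proj c 27).symm.trans (by rw [hpow c hc, map_one])) i
  -- the torus maps onto the rotations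
  have honto : ∀ r : P3, signs r = 1 → ∃ c ∈ (T : Subgroup C), S.proj c = r := by
    intro r hr
    let f : ↥(T : Subgroup C) → ↥(signs.ker : Subgroup P3) := fun c => ⟨S.proj c, hTN c.2⟩
    have hfi : Function.Injective f := fun c d e =>
      Subtype.ext (hinj c c.2 d d.2 (congrArg Subtype.val e :))
    have hfs := ((Nat.bijective_iff_injective_and_card f).2 ⟨hfi, by rw [card_signs_ker]; exact hT⟩).2
    obtain ⟨c, hc⟩ := hfs ⟨r, hr⟩
    exact ⟨c, c.2, congrArg Subtype.val hc⟩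
  -- the normalizer maps onto everything
  have hN : ∀ r : P3, ∃ n ∈ normalizer ((T : Subgroup C) : Set C), S.proj n = r := by
    have h1 := Sylow.normalizer_sup_eq_top' (N := s.ker) T hTN
    intro r
    obtain ⟨c, rfl⟩ := S.surj r
    suffices h : (⊤ : Subgroup C).map S.proj ≤ (normalizer ((T : Subgroup C) : Set C)).map S.proj by
      obtain ⟨n, hn, e⟩ := h ⟨c, mem_top c, rfl⟩
      exact ⟨n, hn, e⟩
    rw [← h1, Subgroup.map_sup, sup_le_iff]
    refine ⟨le_rfl, ?_⟩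
    rintro _ ⟨m, hm, rfl⟩
    obtain ⟨d, hd, e⟩ := honto (S.proj m) hm
    exact ⟨d, le_normalizer hd, e⟩
  have ha : ∀ i, ∃ c ∈ (T : Subgroup C), S.proj c = Pi.mulSingle i (finRotate 3) := fun i =>
    honto _ (funext fun j => by
      show Perm.sign (Pi.mulSingle (M := fun _ => Perm (Fin 3)) i (finRotate 3) j) = 1
      rcases eq_or_ne j i with rfl | hj
      · rw [Pi.mulSingle_eq_same]; decide
      · rw [Pi.mulSingle_eq_of_ne hj]; simp)
  choose A hAT hA using ha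
  choose U hUN hU using fun i => hN (Pi.mulSingle i (σ i))
  have hA3 : ∀ i, A i * A i * A i = 1 := fun i => hinj _ (mul_mem (mul_mem (hAT i) (hAT i)) (hAT i)) 1 (one_mem _)
    (by rw [map_mul, map_mul, hA, map_one, ← Pi.mulSingle_mul, ← Pi.mulSingle_mul, perm_rot_facts.1,
      Pi.mulSingle_one])
  have hfpf : ∀ i, ∀ q ∈ Q, (A i : G) * q = q * A i → q = 1 ∨ q = t := fun i =>
    hf i (A i) (by rw [pow_succ, pow_succ, pow_one]; exact congrArg Subtype.val (hA3 i)) (hA i)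
  have hconj : ∀ n ∈ normalizer ((T : Subgroup C) : Set C), ∀ j, n * A j * n⁻¹ ∈ (T : Subgroup C) :=
    fun n hn j => LargeExtra.conj_mem hn (hAT j)
  have small : ∀ n ∈ normalizer ((T : Subgroup C) : Set C), S.proj n = 1 → (n : G) = 1 ∨ (n : G) = t := by
    intro n hn e
    refine hfpf 0 _ ((S.ker n).1 e) ?_
    have := hinj _ (hconj n hn 0) _ (hAT 0) (by rw [map_mul, map_mul, e, map_inv, e]; simp)
    exact (congrArg Subtype.val (mul_inv_eq_iff_eq_mul.1 this)).symm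
  have hσ' : ∀ i, σ i * σ i = 1 := fun i => (hσ i).2
  refine ⟨⟨fun i => A i, fun i => U i, fun i => LargeExtra.mem_centralizer_one.1 (A i).2,
    fun i => LargeExtra.mem_centralizer_one.1 (U i).2, fun i => congrArg Subtype.val (hA3 i), ?_, ?_, ?_, ?_, ?_,
    hfpf, fun i h => hA i, fun i h => hU i⟩⟩
  · intro i j
    refine congrArg Subtype.val (hinj _ (mul_mem (hAT i) (hAT j)) _ (mul_mem (hAT j) (hAT i)) ?_ : A i * A j = A j * A i)
    rw [map_mul, map_mul, hA, hA]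
    rcases eq_or_ne i j with rfl | hij
    · rfl
    · exact (Pi.mulSingle_commute hij _ _).eq
  · intro i
    refine congrArg Subtype.val (hinj _ (hconj _ (hUN i) i) _ (inv_mem (hAT i)) ?_ : U i * A i * (U i)⁻¹ = (A i)⁻¹)
    rw [map_mul, map_mul, map_inv, map_inv, hA, hU, ← Pi.mulSingle_inv, ← Pi.mulSingle_mul, ← Pi.mulSingle_mul,
      perm_conj_rot _ (hσ' i) (hσ i).1, Pi.mulSingle_inv]
  · intro i j hij
    have : U i * A j * (U i)⁻¹ = A j := hinj _ (hconj _ (hUN i) j) _ (hAT j) (by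
      rw [map_mul, map_mul, map_inv, hA, hU,
        ((Pi.mulSingle_commute (f := fun _ : Fin 3 => Perm (Fin 3)) hij (σ i) (finRotate 3)).eq), mul_inv_cancel_right])
    exact congrArg Subtype.val (mul_inv_eq_iff_eq_mul.1 this)
  · intro i
    refine small (U i * U i) (mul_mem (hUN i) (hUN i)) ?_
    rw [map_mul, hU, ← Pi.mulSingle_mul, hσ' i, Pi.mulSingle_one]
  · intro i j
    refine small (U i * U j * (U i)⁻¹ * (U j)⁻¹)
      (mul_mem (mul_mem (mul_mem (hUN i) (hUN j)) (inv_mem (hUN i))) (inv_mem (hUN j))) ?_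
    rw [map_mul, map_mul, map_mul, map_inv, map_inv, hU, hU]
    rcases eq_or_ne i j with rfl | hij
    · group
    · rw [(Pi.mulSingle_commute (f := fun _ : Fin 3 => Perm (Fin 3)) hij (σ i) (σ j)).eq]; group

namespace Pre

variable {Q : Subgroup G} {t : G} {S : Cent Q t} {σ : Fin 3 → Perm (Fin 3)} (P : Pre S σ)
include P

theorem Q_pow {q : G} (hq : q ∈ Q) : cj q t = t := by rw [cj, S.h.comm hq, mul_inv_cancel_right]

/-- the centre -/
abbrev Z (_P : Pre S σ) : Subgroup G := zpowers t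

theorem mem_Z {q : G} : q ∈ P.Z ↔ q = 1 ∨ q = t := S.h.mem_zpowers_iff

theorem Z_comm {z c : G} (hz : z ∈ P.Z) (hc : c * t = t * c) : c * z = z * c := by
  rcases P.mem_Z.1 hz with rfl | rfl
  · simp
  · exact hc

theorem sqZ {q : G} (hq : q ∈ Q) : q * q ∈ P.Z := P.mem_Z.2 (S.h.sq_cases hq)

theorem cmZ {p q : G} (hp : p ∈ Q) (hq : q ∈ Q) : ⁅p, q⁆ ∈ P.Z := P.mem_Z.2 (S.h.comm_cases hp hq)

theorem Z_inv {z : G} (hz : z ∈ P.Z) : z⁻¹ = z := by
  rcases P.mem_Z.1 hz with rfl | rfl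
  · simp
  · exact S.h.inv_eq

theorem Z_sq {z : G} (hz : z ∈ P.Z) : z * z = 1 := by
  nth_rw 1 [← P.Z_inv hz]; rw [inv_mul_cancel]

theorem Z_Q {z : G} (hz : z ∈ P.Z) : z ∈ Q := zpowers_le.2 S.h.mem hz

theorem cj_mem {c q : G} (hc : c * t = t * c) (hq : q ∈ Q) : cj c q ∈ Q :=
  LargeExtra.conj_mem (S.norm_of_comm hc) hq

theorem cjZ {c z : G} (hc : c * t = t * c) (hz : z ∈ P.Z) : cj c z = z := by
  rw [cj, P.Z_comm hz hc, mul_inv_cancel_right]

/-- congruence modulo the centre is a one-sided matter -/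
theorem Z_mul_comm {z q : G} (hz : z ∈ P.Z) (hq : q ∈ Q) : z * q = q * z := (P.Z_comm hz (S.h.comm hq)).symm

theorem comm_mul {p q r : G} (hp : p ∈ Q) (hq : q ∈ Q) (hr : r ∈ Q) : ⁅p * q, r⁆ = ⁅p, r⁆ * ⁅q, r⁆ := by
  have h1 := P.Z_mul_comm (P.cmZ hq hr) hp
  have h2 := P.Z_comm (P.cmZ hp hr) (S.h.comm (P.Z_Q (P.cmZ hq hr)))
  rw [← h2, show ⁅p * q, r⁆ = p * ⁅q, r⁆ * (r * p⁻¹ * r⁻¹) by simp only [commutatorElement_def]; group, ← h1]
  simp only [commutatorElement_def]; group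

theorem comm_symm {p q : G} (hp : p ∈ Q) (hq : q ∈ Q) : ⁅q, p⁆ = ⁅p, q⁆ := by
  rw [← commutatorElement_inv, P.Z_inv (P.cmZ hp hq)]

theorem comm_mul_right {p q r : G} (hp : p ∈ Q) (hq : q ∈ Q) (hr : r ∈ Q) : ⁅p, q * r⁆ = ⁅p, q⁆ * ⁅p, r⁆ := by
  rw [← P.comm_symm hp (mul_mem hq hr), P.comm_mul hq hr hp, P.comm_symm hq hp |>.symm, P.comm_symm hr hp |>.symm]

theorem comm_inv {p q : G} (hp : p ∈ Q) (hq : q ∈ Q) : ⁅p⁻¹, q⁆ = ⁅p, q⁆ := by
  have h := P.comm_mul (inv_mem hp) hp hq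
  rw [inv_mul_cancel, show ⁅(1 : G), q⁆ = 1 by simp] at h
  rw [eq_inv_of_mul_eq_one_left h.symm, P.Z_inv (P.cmZ hp hq)]

theorem comm_cj {c p q : G} (hc : c * t = t * c) (hp : p ∈ Q) (hq : q ∈ Q) : ⁅cj c p, cj c q⁆ = ⁅p, q⁆ := by
  rw [← P.cjZ hc (P.cmZ hp hq)]
  simp only [cj, commutatorElement_def]; group

theorem cj_u_u (i : Fin 3) {q : G} (hq : q ∈ Q) : cj (P.u i) (cj (P.u i) q) = q := by
  have h : cj (P.u i * P.u i) q = q := by
    rcases P.u2 i with e | e <;> rw [e]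
    · simp [cj]
    · rw [cj, ← S.h.comm hq, mul_inv_cancel_right]
  conv_rhs => rw [← h]
  simp only [cj]; group

theorem cj_uu (i j : Fin 3) {q : G} (hq : q ∈ Q) :
    cj (P.u i) (cj (P.u j) q) = cj (P.u j) (cj (P.u i) q) := by
  have hq' : cj (P.u j) (cj (P.u i) q) ∈ Q := P.cj_mem (P.u_t j) (P.cj_mem (P.u_t i) hq)
  have e := P.Z_mul_comm (P.mem_Z.2 (P.uu i j)) hq'
  calc cj (P.u i) (cj (P.u j) q)
      = P.u i * P.u j * (P.u i)⁻¹ * (P.u j)⁻¹ * cj (P.u j) (cj (P.u i) q) *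
          (P.u i * P.u j * (P.u i)⁻¹ * (P.u j)⁻¹)⁻¹ := by simp only [cj]; group
    _ = _ := by rw [e, mul_inv_cancel_right]

theorem torus_rel (i : Fin 3) {q : G} (hq : q ∈ Q) : q * cj (P.a i) q * cj (P.a i) (cj (P.a i) q) ∈ P.Z := by
  set a := P.a i
  have ha := P.a_t i
  set q1 := cj a q with hq1
  set q2 := cj a q1 with hq2
  have m1 : q1 ∈ Q := P.cj_mem ha hq
  have m2 : q2 ∈ Q := P.cj_mem ha m1
  set p := q * q1 * q2 with hp
  have mp : p ∈ Q := mul_mem (mul_mem hq m1) m2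
  have h3 : cj a q2 = q := by
    rw [hq2, hq1, show cj a (cj a (cj a q)) = a * a * a * q * (a * a * a)⁻¹ by simp only [cj]; group, P.a3 i]
    simp
  have hc : cj a p = q⁻¹ * p * q := by
    rw [show cj a p = cj a q * cj a q1 * cj a q2 by simp only [hp, cj]; group, ← hq1, ← hq2, h3, hp]
    group
  refine P.mem_Z.2 (P.fpf i p mp (mul_inv_eq_iff_eq_mul.1 ?_))
  rcases S.h.conj_cases (inv_mem hq) mp with e | e <;> rw [inv_inv] at e <;> rw [← hc] at e
  · exact e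
  · exfalso
    have e2 : cj a (cj a (cj a p)) = p * t * t * t := by
      rw [e, show cj a (p * t) = cj a p * cj a t by simp only [cj]; group, e, P.cjZ ha (mem_zpowers t),
        show cj a (p * t * t) = cj a p * cj a t * cj a t by simp only [cj]; group, e, P.cjZ ha (mem_zpowers t)]
    rw [show cj a (cj a (cj a p)) = a * a * a * p * (a * a * a)⁻¹ by simp only [cj]; group, P.a3 i, inv_one,
      mul_one, one_mul, mul_assoc (p * t), S.h.sq, mul_one] at e2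
    exact S.h.ne_mul_z p e2

/-- displacement -/
abbrev D (i : Fin 3) (q : G) : G := del (P.u i) q

theorem D_mem (i : Fin 3) {q : G} (hq : q ∈ Q) : P.D i q ∈ Q := mul_mem (inv_mem hq) (P.cj_mem (P.u_t i) hq)

theorem D_Z (i : Fin 3) {z : G} (hz : z ∈ P.Z) : P.D i z = 1 := by
  rw [D, del, P.cjZ (P.u_t i) hz, inv_mul_cancel]

theorem D_mulZ (i : Fin 3) {q z : G} (hq : q ∈ Q) (hz : z ∈ P.Z) : P.D i (q * z) = P.D i q := by
  have e := P.cjZ (P.u_t i) hz
  have e' := P.Z_mul_comm hz (P.D_mem i hq)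
  calc P.D i (q * z) = z⁻¹ * P.D i q * cj (P.u i) z := by simp only [D, del, cj]; group
    _ = _ := by rw [e, mul_assoc, ← e', inv_mul_cancel_left]

theorem D_mul (i : Fin 3) {p q : G} (hp : p ∈ Q) (hq : q ∈ Q) :
    P.D i (p * q) = P.D i p * P.D i q * ⁅P.D i p, q⁆ := by
  have hz := P.cmZ (P.D_mem i hp) hq
  rw [mul_assoc, ← P.Z_mul_comm hz (P.D_mem i hq), ← P.comm_inv (P.D_mem i hp) hq,
    ← P.comm_symm (inv_mem (P.D_mem i hp)) hq, ← P.comm_inv hq (inv_mem (P.D_mem i hp)),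
    P.comm_symm (inv_mem (P.D_mem i hp)) (inv_mem hq)]
  simp only [D, del, cj, commutatorElement_def]; group

theorem comm_D (i : Fin 3) {p q : G} (hp : p ∈ Q) (hq : q ∈ Q) : ⁅P.D i p, q⁆ = ⁅p, q⁆ * ⁅cj (P.u i) p, q⁆ := by
  rw [D, del, P.comm_mul (inv_mem hp) (P.cj_mem (P.u_t i) hp) hq, P.comm_inv hp hq]

theorem comm_cj_u (i : Fin 3) {p q : G} (hp : p ∈ Q) (hq : q ∈ Q) :
    ⁅cj (P.u i) p, q⁆ = ⁅p, cj (P.u i) q⁆ := by
  conv_lhs => rw [← P.cj_u_u i hq]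
  rw [P.comm_cj (P.u_t i) hp (P.cj_mem (P.u_t i) hq)]

/-- the displacement is self-adjoint -/
theorem comm_D_swap (i : Fin 3) {p q : G} (hp : p ∈ Q) (hq : q ∈ Q) : ⁅P.D i p, q⁆ = ⁅p, P.D i q⁆ := by
  rw [P.comm_D i hp hq, P.comm_cj_u i hp hq, ← P.comm_symm hp (P.D_mem i hq), P.comm_D i hq hp,
    P.comm_symm hp hq, P.comm_symm hp (P.cj_mem (P.u_t i) hq)]

theorem comm_DD (i : Fin 3) {p q : G} (hp : p ∈ Q) (hq : q ∈ Q) : ⁅P.D i p, P.D i q⁆ = 1 := by
  have hD := P.D_mem i hq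
  have e : cj (P.u i) (P.D i q) = (P.D i q)⁻¹ := by
    rw [D, del, show cj (P.u i) (q⁻¹ * cj (P.u i) q) = (cj (P.u i) q)⁻¹ * cj (P.u i) (cj (P.u i) q) by
      simp only [cj]; group, P.cj_u_u i hq]
    group
  rw [P.comm_D i hp hD, P.comm_cj_u i hp hD, e]
  rw [P.comm_symm (inv_mem hD) hp, P.comm_inv hD hp, P.comm_symm hp hD, P.Z_sq (P.cmZ hp hD)]

theorem torus_hom (i : Fin 3) {ψ : G → G} (hψZ : ∀ q ∈ Q, ψ q ∈ P.Z) (hψt : ∀ z ∈ P.Z, ψ z = 1)
    (hmul : ∀ p ∈ Q, ∀ q ∈ Q, ψ (p * q) = ψ p * ψ q) (hinv : ∀ q ∈ Q, ψ (cj (P.a i) q) = ψ q) {q : G}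
    (hq : q ∈ Q) : ψ q = 1 := by
  have m1 := P.cj_mem (P.a_t i) hq
  have m2 := P.cj_mem (P.a_t i) m1
  have h := hψt _ (P.torus_rel i hq)
  rw [hmul _ (mul_mem hq m1) _ m2, hmul _ hq _ m1, hinv _ m1, hinv _ hq, P.Z_sq (hψZ q hq), one_mul] at h
  exact h

theorem D_cj (i j : Fin 3) (hij : i ≠ j) (q : G) : P.D i (cj (P.a j) q) = cj (P.a j) (P.D i q) := by
  have e := P.ua' i j hij
  have e' : (P.a j)⁻¹ * P.u i = P.u i * (P.a j)⁻¹ := by
    rw [inv_mul_eq_iff_eq_mul, ← mul_assoc, ← e, mul_inv_cancel_right]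
  simp only [D, del, cj]
  calc (P.a j * q * (P.a j)⁻¹)⁻¹ * (P.u i * (P.a j * q * (P.a j)⁻¹) * (P.u i)⁻¹)
      = P.a j * q⁻¹ * (P.a j)⁻¹ * (P.u i * P.a j) * q * ((P.a j)⁻¹ * (P.u i)⁻¹) := by group
    _ = P.a j * q⁻¹ * (P.a j)⁻¹ * (P.u i * P.a j) * q * (P.u i * P.a j)⁻¹ := by group
    _ = P.a j * q⁻¹ * (P.a j)⁻¹ * (P.a j * P.u i) * q * (P.a j * P.u i)⁻¹ := by rw [e]
    _ = _ := by group

theorem exists_other (i : Fin 3) : ∃ j, i ≠ j := by revert i; decide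

theorem exists_third (i j : Fin 3) : ∃ k, i ≠ k ∧ j ≠ k := by revert i j; decide

/-- displacements are involutions -/
theorem D_sq (i : Fin 3) {q : G} (hq : q ∈ Q) : P.D i q * P.D i q = 1 := by
  obtain ⟨j, hij⟩ := P.exists_other i
  refine P.torus_hom j (ψ := fun q => P.D i q * P.D i q) (fun q hq => P.sqZ (P.D_mem i hq))
    (fun z hz => by simp only [P.D_Z i hz, mul_one]) (fun p hp q hq => ?_) (fun q hq => ?_) hq
  · have hz := P.cmZ (P.D_mem i hp) hq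
    have hcc : P.D i p * P.D i q = P.D i q * P.D i p :=
      commutatorElement_eq_one_iff_mul_comm.1 (P.comm_DD i hp hq)
    show P.D i (p * q) * P.D i (p * q) = _
    rw [P.D_mul i hp hq]
    calc P.D i p * P.D i q * ⁅P.D i p, q⁆ * (P.D i p * P.D i q * ⁅P.D i p, q⁆)
        = P.D i p * P.D i q * (⁅P.D i p, q⁆ * (P.D i p * P.D i q)) * ⁅P.D i p, q⁆ := by group
      _ = P.D i p * (P.D i q * P.D i p) * P.D i q * (⁅P.D i p, q⁆ * ⁅P.D i p, q⁆) := by
        rw [P.Z_mul_comm hz (mul_mem (P.D_mem i hp) (P.D_mem i hq))]; group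
      _ = _ := by rw [← hcc, P.Z_sq hz, mul_one]; group
  · show P.D i (cj (P.a j) q) * P.D i (cj (P.a j) q) = _
    rw [P.D_cj i j hij, ← P.cjZ (P.a_t j) (P.sqZ (P.D_mem i hq))]
    simp only [cj]; group

theorem D_inv (i : Fin 3) {q : G} (hq : q ∈ Q) : (P.D i q)⁻¹ = P.D i q :=
  inv_eq_of_mul_eq_one_right (P.D_sq i hq)

theorem cj_D (i : Fin 3) {q : G} (hq : q ∈ Q) : cj (P.u i) (P.D i q) = P.D i q := by
  conv_rhs => rw [← P.D_inv i hq]
  rw [D, del, show cj (P.u i) (q⁻¹ * cj (P.u i) q) = (cj (P.u i) q)⁻¹ * cj (P.u i) (cj (P.u i) q) by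
      simp only [cj]; group, P.cj_u_u i hq]
  group

theorem DD_self (i : Fin 3) {q : G} (hq : q ∈ Q) : P.D i (P.D i q) = 1 := by
  rw [D, del, P.cj_D i hq, inv_mul_cancel]

theorem comm_D_D (i j : Fin 3) {q : G} (hq : q ∈ Q) : ⁅P.D i q, P.D j q⁆ = 1 := by
  obtain ⟨k, hik, hjk⟩ := P.exists_third i j
  refine P.torus_hom k (ψ := fun q => ⁅P.D i q, P.D j q⁆) (fun q hq => P.cmZ (P.D_mem i hq) (P.D_mem j hq))
    (fun z hz => by simp [P.D_Z i hz]) (fun p hp q hq => ?_) (fun q hq => ?_) hq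
  · have a1 := P.D_mem i hp
    have a2 := P.D_mem i hq
    have b1 := P.D_mem j hp
    have b2 := P.D_mem j hq
    have za := P.cmZ a1 hq
    have zb := P.cmZ b1 hq
    have hZ : ∀ {z r : G}, z ∈ P.Z → r ∈ Q → ⁅z, r⁆ = 1 := fun hz hr =>
      commutatorElement_eq_one_iff_mul_comm.2 (P.Z_mul_comm hz hr)
    have hcross : ⁅P.D i p, P.D j q⁆ = ⁅P.D i q, P.D j p⁆ := by
      rw [P.comm_symm b1 a2, P.comm_D i hp b2, P.comm_D j hp a2, P.comm_cj_u i hp b2, P.comm_cj_u j hp a2,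
        ← P.comm_mul_right hp b2 (P.cj_mem (P.u_t i) b2), ← P.comm_mul_right hp a2 (P.cj_mem (P.u_t j) a2)]
      simp only [D, del, P.comm_mul_right hp (mul_mem (inv_mem hq) (P.cj_mem (P.u_t i) hq))
        (P.cj_mem (P.u_t j) (mul_mem (inv_mem hq) (P.cj_mem (P.u_t i) hq))),
        P.comm_mul_right hp (mul_mem (inv_mem hq) (P.cj_mem (P.u_t j) hq))
        (P.cj_mem (P.u_t i) (mul_mem (inv_mem hq) (P.cj_mem (P.u_t j) hq)))]
      rw [show cj (P.u i) (q⁻¹ * cj (P.u j) q) = cj (P.u i) q⁻¹ * cj (P.u i) (cj (P.u j) q) by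
            simp only [cj]; group,
        show cj (P.u j) (q⁻¹ * cj (P.u i) q) = cj (P.u j) q⁻¹ * cj (P.u j) (cj (P.u i) q) by
            simp only [cj]; group, P.cj_uu i j hq]
      have m0 := inv_mem hq
      have mi := P.cj_mem (P.u_t i) hq
      have mj := P.cj_mem (P.u_t j) hq
      have mi' := P.cj_mem (P.u_t i) m0
      have mj' := P.cj_mem (P.u_t j) m0
      have mij := P.cj_mem (P.u_t j) mi
      rw [P.comm_mul_right hp m0 mj, P.comm_mul_right hp mi' mij, P.comm_mul_right hp m0 mi,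
        P.comm_mul_right hp mj' mij,
        show cj (P.u i) q⁻¹ = (cj (P.u i) q)⁻¹ by simp only [cj]; group,
        show cj (P.u j) q⁻¹ = (cj (P.u j) q)⁻¹ by simp only [cj]; group,
        P.comm_symm (inv_mem mi) hp, P.comm_inv mi hp, P.comm_symm hp mi,
        P.comm_symm (inv_mem mj) hp, P.comm_inv mj hp, P.comm_symm hp mj]
      have z0 := P.cmZ hp m0
      have zi := P.cmZ hp mi
      have zj := P.cmZ hp mj
      have zij := P.Z_mul_comm zi (P.Z_Q zj)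
      calc ⁅p, q⁻¹⁆ * ⁅p, cj (P.u j) q⁆ * (⁅p, cj (P.u i) q⁆ * ⁅p, cj (P.u j) (cj (P.u i) q)⁆)
          = ⁅p, q⁻¹⁆ * (⁅p, cj (P.u j) q⁆ * ⁅p, cj (P.u i) q⁆) * ⁅p, cj (P.u j) (cj (P.u i) q)⁆ := by group
        _ = _ := by rw [← zij]; group
    show ⁅P.D i (p * q), P.D j (p * q)⁆ = _
    rw [P.D_mul i hp hq, P.D_mul j hp hq,
      P.comm_mul (mul_mem a1 a2) (P.Z_Q za) (mul_mem (mul_mem b1 b2) (P.Z_Q zb)),
      hZ za (mul_mem (mul_mem b1 b2) (P.Z_Q zb)), mul_one,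
      P.comm_mul_right (mul_mem a1 a2) (mul_mem b1 b2) (P.Z_Q zb),
      P.comm_symm (P.Z_Q zb) (mul_mem a1 a2), hZ zb (mul_mem a1 a2), mul_one,
      P.comm_mul a1 a2 (mul_mem b1 b2), P.comm_mul_right a1 b1 b2, P.comm_mul_right a2 b1 b2, hcross,
      show ∀ A B C : G, A * B * (B * C) = A * (B * B) * C from fun A B C => by group,
      P.Z_sq (P.cmZ a2 b1), mul_one]
  · show ⁅P.D i (cj (P.a k) q), P.D j (cj (P.a k) q)⁆ = _
    rw [P.D_cj i k hik, P.D_cj j k hjk, P.comm_cj (P.a_t k) (P.D_mem i hq) (P.D_mem j hq)]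

theorem D_comm (i j : Fin 3) {q : G} (hq : q ∈ Q) : P.D i (P.D j q) = P.D j (P.D i q) := by
  have hc := commutatorElement_eq_one_iff_mul_comm.1 (P.comm_D_D i j hq)
  have e1 : P.D i (P.D j q) = (P.D j q)⁻¹ * (P.D i q)⁻¹ * q⁻¹ * cj (P.u i) (cj (P.u j) q) := by
    simp only [D, del, cj]; group
  have e2 : P.D j (P.D i q) = (P.D i q)⁻¹ * (P.D j q)⁻¹ * q⁻¹ * cj (P.u j) (cj (P.u i) q) := by
    simp only [D, del, cj]; group
  rw [e1, e2, P.cj_uu i j hq, ← mul_inv_rev, hc, mul_inv_rev]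

/-- An element killed modulo the centre is a displacement modulo the centre. -/
theorem exists_eq_D (i : Fin 3) {q : G} (hq : q ∈ Q) (h : P.D i q ∈ P.Z) :
    ∃ z ∈ P.Z, q = P.D i (cj (P.a i) q) * z := by
  set a := P.a i
  have m1 := P.cj_mem (P.a_t i) hq
  have m2 := P.cj_mem (P.a_t i) m1
  refine ⟨(P.D i (cj a q))⁻¹ * q, ?_, by group⟩
  have hu : cj (P.u i) q = q * P.D i q := by simp only [D, del, cj]; group
  have key : cj (P.u i) (cj a q) = cj a (cj a q) * P.D i q := by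
    have e := P.ua i
    rw [show cj (P.u i) (cj a q) = cj (cj (P.u i) a) (cj (P.u i) q) by simp only [cj]; group, e, hu,
      show cj a⁻¹ (q * P.D i q) = cj a⁻¹ q * cj a⁻¹ (P.D i q) by simp only [cj]; group,
      show a⁻¹ = a * a from inv_eq_of_mul_eq_one_right (by rw [← mul_assoc]; exact P.a3 i),
      P.cjZ (show a * a * t = t * (a * a) by rw [mul_assoc, P.a_t i, ← mul_assoc, P.a_t i, mul_assoc]) h]
    congr 1
    simp only [cj]; group
  obtain ⟨w, hw, ew⟩ : ∃ w ∈ P.Z, cj a (cj a q) = (cj a q)⁻¹ * q⁻¹ * w :=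
    ⟨q * cj a q * cj a (cj a q), P.torus_rel i hq, by simp only [cj]; group⟩
  have e : P.D i (cj a q) = (cj a q)⁻¹ * (cj a q)⁻¹ * q⁻¹ * (w * P.D i q) := by
    show (cj a q)⁻¹ * cj (P.u i) (cj a q) = _
    rw [key, ew]; group
  have hs : (cj a q)⁻¹ * (cj a q)⁻¹ ∈ P.Z := P.sqZ (inv_mem m1)
  rw [e]
  have : ((cj a q)⁻¹ * (cj a q)⁻¹ * q⁻¹ * (w * P.D i q))⁻¹ * q =
      (w * P.D i q)⁻¹ * (q * ((cj a q)⁻¹ * (cj a q)⁻¹)⁻¹ * q) := by group
  rw [this, ← P.Z_mul_comm (inv_mem hs) hq]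
  exact mul_mem (inv_mem (mul_mem hw h)) (by rw [mul_assoc]; exact mul_mem (inv_mem hs) (P.sqZ hq))

theorem fixed_of_D_mem (i : Fin 3) {q : G} (hq : q ∈ Q) (h : P.D i q ∈ P.Z) : P.D i q = 1 := by
  obtain ⟨z, hz, e⟩ := P.exists_eq_D i hq h
  rw [e, P.D_mulZ i (P.D_mem i (P.cj_mem (P.a_t i) hq)) hz, P.DD_self i (P.cj_mem (P.a_t i) hq)]

end Pre

end Cfsg.Agent.Omega8Rec
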